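import Mathlib
import Cfsg.Agent.Lib.Lead.CITBase

/-!
T-CIT, module M1: the amalgam lemma.
-/
set_option autoImplicit false

namespace H36.CITM1

open Subgroup H28.Cj H28.RelSyl Lead.CIT

universe u

variable {G : Type u} [Group G]

/-- a subgroup centralising an involution is a 2-group -/
theorem two_of_comm [Finite G] (hS : Sep G) {t : G} (ht : orderOf t = 2) {H : Subgroup G}
    (hH : ∀ x ∈ H, x * t = t * x) : IsPGroup 2 H := by
  intro y
  obtain ⟨k, m, hm, hkm⟩ := Nat.exists_eq_two_pow_mul_odd (orderOf_pos y).ne'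
  refine ⟨k, ?_⟩
  have h1 : orderOf ((y : G) ^ 2 ^ k) = m := by
    rw [orderOf_pow_of_dvd (by positivity) (by rw [Subgroup.orderOf_coe, hkm]; exact dvd_mul_right _ _),
      Subgroup.orderOf_coe, hkm, Nat.mul_div_cancel_left _ (by positivity)]
  have h2 : (y : G) ^ 2 ^ k = 1 := by
    apply hS _ t ht (by rw [h1]; exact hm)
    exact (hH _ (H.pow_mem y.2 _))
  exact Subtype.ext (by simpa using h2)

/-- a nontrivial `2`-group contains an involution -/
theorem exists_inv [Finite G] {E : Subgroup G} (hE : IsPGroup 2 E) (h : E ≠ ⊥) :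
    ∃ t ∈ E, orderOf t = 2 := by
  obtain ⟨n, hn⟩ := IsPGroup.iff_card.mp hE
  have hn0 : n ≠ 0 := by
    rintro rfl
    exact h (Subgroup.card_eq_one.mp (by simpa using hn))
  haveI : Fact (Nat.Prime 2) := ⟨Nat.prime_two⟩
  obtain ⟨x, hx⟩ := exists_prime_orderOf_dvd_card' (G := E) 2 (hn ▸ dvd_pow_self 2 hn0)
  exact ⟨x, x.2, by rw [Subgroup.orderOf_coe, hx]⟩

/-- an element of odd order commuting with an element of a `2`-subgroup -/
theorem eq_one_of_comm [Finite G] (hS : Sep G) {E : Subgroup G} (hE : IsPGroup 2 E) {x y : G}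
    (hx : Odd (orderOf x)) (hx1 : x ≠ 1) (hy : y ∈ E) (h : x * y = y * x) : y = 1 := by
  by_contra hy1
  have h1 : IsPGroup 2 (zpowers y) := hE.to_le (by rwa [zpowers_le])
  have h2 : zpowers y ≠ ⊥ := by rwa [Ne, zpowers_eq_bot]
  obtain ⟨t, ht, ht2⟩ := exists_inv h1 h2
  obtain ⟨k, rfl⟩ := mem_zpowers_iff.mp ht
  apply hx1
  apply hS x _ ht2 hx
  exact (Commute.zpow_right (show Commute x y from h) k)

/-- there is an odd order element in a subgroup that is no 2-group -/
theorem exists_odd [Finite G] {H : Subgroup G} (h : ¬ IsPGroup 2 H) :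
    ∃ x ∈ H, x ≠ 1 ∧ Odd (orderOf x) := by
  by_contra hcon
  push Not at hcon
  apply h
  intro y
  obtain ⟨k, m, hm, hkm⟩ := Nat.exists_eq_two_pow_mul_odd (orderOf_pos y).ne'
  refine ⟨k, ?_⟩
  have h1 : orderOf ((y : G) ^ 2 ^ k) = m := by
    rw [orderOf_pow_of_dvd (by positivity) (by rw [Subgroup.orderOf_coe, hkm]; exact dvd_mul_right _ _),
      Subgroup.orderOf_coe, hkm, Nat.mul_div_cancel_left _ (by positivity)]
  by_contra hne
  apply hcon _ (H.pow_mem y.2 (2 ^ k))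
  · intro h2
    exact hne (Subtype.ext (by simpa using h2))
  · rw [h1]; exact hm

section Nat2

variable {q : ℕ} {V V' P P' : Subgroup G}

theorem cV_le_P (h : Nat2 q V) (hP : IsSyl 2 P (normalizer (V : Set G))) : V ≤ P :=
  (h.ea.le_centralizer).trans (h.cle P hP)

theorem OZ_eq (h : Nat2 q V) (hP : IsSyl 2 P (normalizer (V : Set G))) :
    OZ P = V ⊓ centralizer (P : Set G) := by
  apply le_antisymm
  · refine le_inf (h.oz P hP) ?_
    intro x hx
    rw [mem_centralizer_iff]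
    intro y hy
    exact (hx.2.2 y hy).symm
  · rintro x ⟨hx, hxc⟩
    refine ⟨cV_le_P h hP hx, h.ea x hx, fun y hy => ?_⟩
    exact (mem_centralizer_iff.mp hxc y hy).symm

theorem card_OZ (h : Nat2 q V) (hP : IsSyl 2 P (normalizer (V : Set G))) :
    Nat.card (OZ P) = q := by
  rw [OZ_eq h hP]; exact h.cz P hP

theorem not_isPGroup [Finite G] (hP : IsSyl 2 P (normalizer (V : Set G)))
    (hP' : IsSyl 2 P' (normalizer (V : Set G))) (hne : P ≠ P') :
    ¬ IsPGroup 2 (normalizer (V : Set G)) := by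
  haveI : Fact (Nat.Prime 2) := ⟨Nat.prime_two⟩
  intro hN
  apply hne
  rw [← hP.eq_of_le hN hP.le le_rfl, ← hP'.eq_of_le hN hP'.le le_rfl]

theorem OZ_inf [Finite G] (hS : Sep G) (h : Nat2 q V) (hP : IsSyl 2 P (normalizer (V : Set G)))
    (hP' : IsSyl 2 P' (normalizer (V : Set G))) (hne : P ≠ P') : OZ P ⊓ OZ P' = ⊥ := by
  rw [eq_bot_iff]
  rintro x ⟨hx, hx'⟩
  rw [mem_bot]
  by_contra hx1
  have h2 : orderOf x = 2 := (IsEA_OZ P).orderOf hx hx1
  apply not_isPGroup hP hP' hne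
  apply two_of_comm hS h2
  have h3 : normalizer (V : Set G) ≤ centralizer ({x} : Set G) := by
    rw [← h.gen P P' hP hP' hne]
    refine sup_le ?_ ?_
    · intro y hy
      rw [mem_centralizer_singleton_iff]
      exact (hx.2.2 y hy).symm
    · intro y hy
      rw [mem_centralizer_singleton_iff]
      exact (hx'.2.2 y hy).symm
  intro y hy
  exact mem_centralizer_singleton_iff.mp (h3 hy)

theorem card_sup_of_inf_bot [Finite G] {A B V : Subgroup G} (hA : A ≤ V) (hB : B ≤ V)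
    (hV : IsEA V) (hAB : A ⊓ B = ⊥) (hc : Nat.card V ≤ Nat.card A * Nat.card B) : A ⊔ B = V := by
  apply Subgroup.eq_of_le_of_card_ge (sup_le hA hB)
  refine hc.trans ?_
  have hinj : Function.Injective (fun p : A × B => (⟨(p.1 : G) * p.2, mul_mem_sup p.1.2 p.2.2⟩ :
      (A ⊔ B : Subgroup G))) := by
    rintro ⟨a, b⟩ ⟨a', b'⟩ hab
    have hab' : (a : G) * b = a' * b' := congrArg Subtype.val hab
    have h1 : (a' : G)⁻¹ * a = b' * (b : G)⁻¹ := by
      rw [inv_mul_eq_iff_eq_mul, ← mul_assoc, ← hab', mul_inv_cancel_right]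
    have h2 : (a' : G)⁻¹ * a ∈ A ⊓ B := ⟨A.mul_mem (A.inv_mem a'.2) a.2, by
      rw [h1]; exact B.mul_mem b'.2 (B.inv_mem b.2)⟩
    rw [hAB, mem_bot] at h2
    have h3 : a = a' := Subtype.ext (inv_mul_eq_one.mp h2).symm
    subst h3
    have h4 : b = b' := Subtype.ext (mul_left_cancel hab')
    rw [h4]
  have := Nat.card_le_card_of_injective _ hinj
  rwa [Nat.card_prod] at this

theorem OZ_sup [Finite G] (hS : Sep G) (h : Nat2 q V) (hP : IsSyl 2 P (normalizer (V : Set G)))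
    (hP' : IsSyl 2 P' (normalizer (V : Set G))) (hne : P ≠ P') : OZ P ⊔ OZ P' = V := by
  apply card_sup_of_inf_bot (h.oz P hP) (h.oz P' hP') h.ea (OZ_inf hS h hP hP' hne)
  rw [card_OZ h hP, card_OZ h hP', h.card, pow_two]

theorem comm_mem_OZ (h : Nat2 q V) (hP : IsSyl 2 P (normalizer (V : Set G))) {x v : G}
    (hx : x ∈ P) (hv : v ∈ V) : v * x * v⁻¹ * x⁻¹ ∈ OZ P := by
  rw [OZ_eq h hP]
  refine ⟨?_, h.comm P hP x hx v hv⟩
  have h1 : x * v⁻¹ * x⁻¹ ∈ V := conj_mem_of_le_normalizer hP.le hx (V.inv_mem hv)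
  have h2 := V.mul_mem hv h1
  simpa [mul_assoc] using h2

/-- every element of `OZ P` is a commutator `[v, x]`. -/
theorem exists_comm [Finite G] (h : Nat2 q V) (hP : IsSyl 2 P (normalizer (V : Set G))) {x : G}
    (hx : x ∈ P) (hxc : x ∉ centralizer (V : Set G)) {z : G} (hz : z ∈ OZ P) :
    ∃ v ∈ V, v * x * v⁻¹ * x⁻¹ = z := by
  have hmul : ∀ u ∈ V, ∀ v ∈ V, (u * v) * x * (u * v)⁻¹ * x⁻¹ =
      (u * x * u⁻¹ * x⁻¹) * (v * x * v⁻¹ * x⁻¹) := by
    intro u hu v hv
    have h1 := (h.oz P hP) (comm_mem_OZ h hP hx hv)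
    have h2 := (h.oz P hP) (comm_mem_OZ h hP hx hu)
    have h3 := h.ea.comm hu h1
    calc (u * v) * x * (u * v)⁻¹ * x⁻¹ = u * (v * x * v⁻¹ * x⁻¹) * (x * u⁻¹ * x⁻¹) := by group
      _ = (v * x * v⁻¹ * x⁻¹) * u * (x * u⁻¹ * x⁻¹) := by rw [h3]
      _ = (v * x * v⁻¹ * x⁻¹) * (u * x * u⁻¹ * x⁻¹) := by group
      _ = _ := h.ea.comm h1 h2
  let φ : V →* OZ P :=
    { toFun := fun v => ⟨(v : G) * x * (v : G)⁻¹ * x⁻¹, comm_mem_OZ h hP hx v.2⟩
      map_one' := by apply Subtype.ext; simp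
      map_mul' := by
        intro u v
        apply Subtype.ext
        simpa using hmul u u.2 v v.2 }
  have hker : Nat.card φ.ker ≤ q := by
    rw [← card_OZ h hP]
    have : ∀ v : φ.ker, ((v : V) : G) ∈ OZ P := by
      rintro ⟨v, hv⟩
      rw [MonoidHom.mem_ker] at hv
      have h1 : (v : G) * x * (v : G)⁻¹ * x⁻¹ = 1 := congrArg Subtype.val hv
      have h2 : x * (v : G) = v * x := by
        have h3 : (v : G) * x = x * v := by
          have := congrArg (fun y => y * (x * (v : G))) h1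
          simpa [mul_assoc] using this
        exact h3.symm
      have h4 : (v : G) ∈ V ⊓ centralizer (P : Set G) := ⟨v.2, h.fix P hP x hx hxc v v.2 h2⟩
      exact (OZ_eq h hP).ge h4
    apply Nat.card_le_card_of_injective (fun v : φ.ker => (⟨((v : V) : G), this v⟩ : OZ P))
    intro a b hab
    simp only [Subtype.mk.injEq] at hab
    exact Subtype.ext (Subtype.ext hab)
  have hsurj : φ.range = ⊤ := by
    apply Subgroup.eq_top_of_le_card
    rw [card_OZ h hP]
    have h1 : Nat.card V = Nat.card φ.ker * Nat.card φ.range := by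
      rw [← Subgroup.index_ker, Subgroup.card_mul_index]
    rw [h.card, pow_two] at h1
    have hq : 0 < q := lt_trans Nat.zero_lt_one h.q1
    by_contra hlt
    push Not at hlt
    have : Nat.card φ.ker * Nat.card φ.range < q * q :=
      lt_of_le_of_lt (Nat.mul_le_mul_right _ hker) (Nat.mul_lt_mul_of_pos_left hlt hq)
    omega
  have hz' : (⟨z, hz⟩ : OZ P) ∈ φ.range := by rw [hsurj]; trivial
  obtain ⟨v, hv⟩ := hz'
  exact ⟨v, v.2, congrArg Subtype.val hv⟩

/-- Lemma A -/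
theorem OZ_eq_OZ [Finite G] (h : Nat2 q V) (h' : Nat2 q V')
    (hP : IsSyl 2 P (normalizer (V : Set G))) (hP' : IsSyl 2 P' (normalizer (V' : Set G)))
    (hVP' : V ≤ P') (hV'P : V' ≤ P) (hn : ¬ V' ≤ centralizer (V : Set G)) : OZ P = OZ P' := by
  obtain ⟨x, hx, hxc⟩ := Set.not_subset.mp hn
  have hle : OZ P ≤ OZ P' := by
    intro z hz
    obtain ⟨v, hv, rfl⟩ := exists_comm h hP (hV'P hx) hxc hz
    have h1 := comm_mem_OZ h' hP' (hVP' hv) hx
    have h2 := (OZ P').inv_mem h1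
    have h3 : (x * v * x⁻¹ * v⁻¹)⁻¹ = v * x * v⁻¹ * x⁻¹ := by group
    rwa [h3] at h2
  exact Subgroup.eq_of_le_of_card_ge hle (by rw [card_OZ h hP, card_OZ h' hP'])

end Nat2

theorem Adj.symm {V V' : Subgroup G} (h : Adj V V') : Adj V' V :=
  ⟨h.1.symm, by obtain ⟨P, h1, h2⟩ := h.2; exact ⟨P, h2, h1⟩⟩

theorem Adj.cj {V V' : Subgroup G} (h : Adj V V') (g : G) : Adj (cj g V) (cj g V') := by
  refine ⟨fun he => h.1 (cj_injective g he), ?_⟩
  obtain ⟨P, h1, h2⟩ := h.2
  refine ⟨H28.Cj.cj g P, ?_, ?_⟩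
  · rw [← cj_normalizer]; exact h1.cj g
  · rw [← cj_normalizer]; exact h2.cj g

/-- walks in the graph -/
inductive Wk (VV : Set (Subgroup G)) : ℕ → Subgroup G → Subgroup G → Prop
  | nil {A : Subgroup G} (h : A ∈ VV) : Wk VV 0 A A
  | snoc {n : ℕ} {A B C : Subgroup G} (h : Wk VV n A B) (hC : C ∈ VV) (ha : Adj B C) :
      Wk VV (n + 1) A C

theorem Wk.left {VV : Set (Subgroup G)} {n : ℕ} {A B : Subgroup G} (h : Wk VV n A B) : A ∈ VV := by
  induction h with
  | nil h => exact h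
  | snoc h hC ha ih => exact ih

theorem Wk.right {VV : Set (Subgroup G)} {n : ℕ} {A B : Subgroup G} (h : Wk VV n A B) : B ∈ VV := by
  cases h with
  | nil h => exact h
  | snoc h hC ha => exact hC

theorem Wk.cons {VV : Set (Subgroup G)} {n : ℕ} {Z A B : Subgroup G} (hZ : Z ∈ VV)
    (ha : Adj Z A) (h : Wk VV n A B) : Wk VV (n + 1) Z B := by
  induction h with
  | nil h => exact Wk.snoc (Wk.nil hZ) h ha
  | snoc h hC ha' ih => exact Wk.snoc (ih ha) hC ha'

theorem Wk.exists_cons {VV : Set (Subgroup G)} {n : ℕ} {A B : Subgroup G}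
    (h : Wk VV (n + 1) A B) : ∃ C, C ∈ VV ∧ Adj A C ∧ Wk VV n C B := by
  induction n generalizing B with
  | zero =>
    cases h with
    | snoc h hC ha =>
      cases h with
      | nil h => exact ⟨B, hC, ha, Wk.nil hC⟩
  | succ n ih =>
    cases h with
    | snoc h hC ha =>
      obtain ⟨D, hD, haD, hw⟩ := ih h
      exact ⟨D, hD, haD, Wk.snoc hw hC ha⟩

theorem Wk.trans {VV : Set (Subgroup G)} {n m : ℕ} {A B C : Subgroup G}
    (h : Wk VV n A B) (h' : Wk VV m B C) : Wk VV (n + m) A C := by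
  induction h' with
  | nil _ => exact h
  | snoc h1 hC ha ih => exact Wk.snoc (ih h) hC ha

theorem Wk.symm {VV : Set (Subgroup G)} {n : ℕ} {A B : Subgroup G}
    (h : Wk VV n A B) : Wk VV n B A := by
  induction h with
  | nil h => exact Wk.nil h
  | snoc h hC ha ih => exact Wk.cons hC (Adj.symm ha) ih

/-- `V ⊓ C(V')` has order at most `q` -/
theorem card_cent_le [Finite G] {q : ℕ} {V V' P : Subgroup G} (h : Nat2 q V)
    (hP : IsSyl 2 P (normalizer (V : Set G))) (hV' : V' ≤ P)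
    (hn : ¬ V' ≤ centralizer (V : Set G)) :
    V ⊓ centralizer (V' : Set G) ≤ OZ P := by
  obtain ⟨x, hx, hxc⟩ := Set.not_subset.mp hn
  rintro v ⟨hv, hvc⟩
  rw [OZ_eq h hP]
  exact ⟨hv, h.fix P hP x (hV' hx) hxc v hv (mem_centralizer_iff.mp hvc x hx)⟩

theorem mem_cent_comm {A B : Subgroup G} (h : A ≤ centralizer (B : Set G)) :
    B ≤ centralizer (A : Set G) := by
  intro b hb
  rw [mem_centralizer_iff]
  intro a ha
  exact (mem_centralizer_iff.mp (h ha) b hb).symm

/-- the subgroup of elements normalising `V` and acting trivially on `U V / V`. -/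
def triv (V U : Subgroup G) : Subgroup G where
  carrier := {y | y ∈ normalizer (V : Set G) ∧ ∀ u ∈ U, u⁻¹ * (y * u * y⁻¹) ∈ V}
  one_mem' := ⟨one_mem _, fun u _ => by simp⟩
  mul_mem' := by
    rintro a b ⟨ha, ha'⟩ ⟨hb, hb'⟩
    refine ⟨mul_mem ha hb, fun u hu => ?_⟩
    have h1 := hb' u hu
    have h2 : a * (u⁻¹ * (b * u * b⁻¹)) * a⁻¹ ∈ V := (mem_normalizer_iff.mp ha _).mp h1
    have h3 := V.mul_mem (ha' u hu) h2
    have h4 : u⁻¹ * (a * u * a⁻¹) * (a * (u⁻¹ * (b * u * b⁻¹)) * a⁻¹) =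
        u⁻¹ * (a * b * u * (a * b)⁻¹) := by group
    rwa [h4] at h3
  inv_mem' := by
    rintro a ⟨ha, ha'⟩
    refine ⟨inv_mem ha, fun u hu => ?_⟩
    have h1 := V.inv_mem (ha' u hu)
    have h2 := (mem_normalizer_iff.mp (inv_mem ha) _).mp h1
    have h4 : a⁻¹ * (u⁻¹ * (a * u * a⁻¹))⁻¹ * a⁻¹⁻¹ = u⁻¹ * (a⁻¹ * u * a⁻¹⁻¹) := by group
    have h5 : a⁻¹ * (u⁻¹ * (a * u * a⁻¹))⁻¹ * a⁻¹⁻¹ ∈ V := h2
    rwa [h4] at h5

/-- walks of length at least two whose proper subwalks have commuting ends have commuting ends -/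
theorem no_long [Finite G] (hS : Sep G) {q : ℕ} {VV : Set (Subgroup G)}
    (hc : ∀ V ∈ VV, ∀ g : G, cj g V ∈ VV) (hn : ∀ V ∈ VV, Nat2 q V) {b : ℕ}
    (hmin : ∀ n ≤ b + 1, ∀ A B, Wk VV n A B → B ≤ centralizer (A : Set G)) {A B : Subgroup G}
    (hw : Wk VV (b + 2) A B) : B ≤ centralizer (A : Set G) := by
  haveI : Fact (Nat.Prime 2) := ⟨Nat.prime_two⟩
  by_contra hAB
  have hA : A ∈ VV := hw.left
  have hB : B ∈ VV := hw.right
  obtain ⟨V1, hV1, haA, hw1⟩ := hw.exists_cons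
  cases hw with
  | @snoc _ _ C _ hwC _ haCB =>
  cases hwC with
  | @snoc _ _ D _ hwD hC haDC =>
  have hD : D ∈ VV := hwD.right
  obtain ⟨P, hPA, hPV1⟩ := haA.2
  obtain ⟨P', hP'C, hP'B⟩ := haCB.2
  obtain ⟨P'', hP''D, hP''C⟩ := haDC.2
  have hwAC : Wk VV (b + 1) A C := Wk.snoc hwD hC haDC
  have hBP : B ≤ P := (hmin _ le_rfl _ _ hw1).trans ((hn V1 hV1).cle P hPV1)
  have hAP' : A ≤ P' := (mem_cent_comm (hmin _ le_rfl _ _ hwAC)).trans ((hn C hC).cle P' hP'C)
  have hOZ : OZ P = OZ P' := OZ_eq_OZ (hn A hA) (hn B hB) hPA hP'B hAP' hBP hAB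
  have hne' : P'' ≠ P' := by
    rintro rfl
    by_cases hDB : D = B
    · subst hDB
      exact hAB (hmin b (by omega) _ _ hwD)
    · exact hAB (hmin (b + 1) le_rfl _ _ (Wk.snoc hwD hB ⟨hDB, P'', hP''D, hP'B⟩))
  obtain ⟨g, hg, hgP⟩ : ∃ g ∈ normalizer (A : Set G), cj g P ≠ P := by
    obtain ⟨R, R', hR, hR', hRR'⟩ := (hn A hA).ex
    by_cases hRP : R = P
    · obtain ⟨g, hg, hgR⟩ := hPA.exists_conj_eq hR'
      refine ⟨g, hg, ?_⟩
      rw [← hgR]
      intro h; exact hRR' (by rw [hRP, h])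
    · obtain ⟨g, hg, hgR⟩ := hPA.exists_conj_eq hR
      refine ⟨g, hg, ?_⟩
      rw [← hgR]
      exact hRP
  set Q := cj g P with hQdef
  set U := cj g V1 with hUdef
  have hU : U ∈ VV := hc V1 hV1 g
  have hQA : IsSyl 2 Q (normalizer (A : Set G)) := hPA.cj_of_mem hg
  have hQU : IsSyl 2 Q (normalizer (U : Set G)) := by
    rw [hUdef, ← cj_normalizer]; exact hPV1.cj g
  have hUA : U ≠ A := by
    intro h
    apply haA.1
    rw [hUdef, ← mem_normalizer_iff_cj.mp hg] at h
    exact (cj_injective g h).symm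
  have haUA : Adj U A := ⟨hUA, Q, hQU, hQA⟩
  have hUP'' : U ≤ P'' :=
    (mem_cent_comm (hmin _ le_rfl _ _ (Wk.cons hU haUA hwD))).trans ((hn D hD).cle P'' hP''D)
  have hCAQ : centralizer (A : Set G) ≤ Q := (hn A hA).cle Q hQA
  have hCQ : C ≤ Q := (hmin _ le_rfl _ _ hwAC).trans hCAQ
  by_cases hCU : C ≤ centralizer (U : Set G)
  · have hUP' : U ≤ P' := (mem_cent_comm hCU).trans ((hn C hC).cle P' hP'C)
    have h1 : B ≤ triv A U := by
      intro y hy
      refine ⟨hPA.le (hBP hy), fun u hu => ?_⟩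
      have h2 := (OZ P').inv_mem (comm_mem_OZ (hn B hB) hP'B (P'.inv_mem (hUP' hu)) hy)
      have h3 : (y * u⁻¹ * y⁻¹ * u⁻¹⁻¹)⁻¹ = u⁻¹ * (y * u * y⁻¹) := by group
      rw [h3, ← hOZ] at h2
      exact (hn A hA).oz P hPA h2
    have h2 : Q ≤ triv A U := by
      intro y hy
      refine ⟨hQA.le hy, fun u hu => ?_⟩
      have h2 := comm_mem_OZ (hn U hU) hQU hy (U.inv_mem hu)
      have h3 : u⁻¹ * y * u⁻¹⁻¹ * y⁻¹ = u⁻¹ * (y * u * y⁻¹) := by group
      rw [h3] at h2
      exact (hn A hA).oz Q hQA h2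
    have h3 : B ⊔ centralizer (A : Set G) = P := by
      apply Subgroup.eq_of_le_of_card_ge (sup_le hBP ((hn A hA).cle P hPA))
      rw [(hn A hA).cardP P hPA]
      have e1 : (centralizer (A : Set G)).relIndex (B ⊔ centralizer (A : Set G)) *
          Nat.card (centralizer (A : Set G)) =
          Nat.card (B ⊔ centralizer (A : Set G) : Subgroup G) := relIndex_mul_card le_sup_right
      rw [← e1]
      apply Nat.mul_le_mul_right
      have e2 : (centralizer (A : Set G)).relIndex B ≤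
          (centralizer (A : Set G)).relIndex (B ⊔ centralizer (A : Set G)) := by
        apply Subgroup.relIndex_le_of_le_right
        · exact le_sup_left
        · exact Subgroup.FiniteIndex.index_ne_zero
      refine le_trans ?_ e2
      have e3 : (B ⊓ centralizer (A : Set G)).relIndex B * Nat.card (B ⊓ centralizer (A : Set G) : Subgroup G)
          = Nat.card B := relIndex_mul_card inf_le_left
      rw [Subgroup.inf_relIndex_left] at e3
      have e4 : Nat.card (B ⊓ centralizer (A : Set G) : Subgroup G) ≤ q := by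
        rw [← card_OZ (hn B hB) hP'B]
        apply Nat.card_le_card_of_injective _ (Subgroup.inclusion_injective
          (card_cent_le (hn B hB) hP'B hAP' (fun h => hAB (mem_cent_comm h))))
      rw [(hn B hB).card, pow_two] at e3
      by_contra hlt
      push Not at hlt
      have hq : 0 < q := lt_trans Nat.zero_lt_one (hn A hA).q1
      have : (centralizer (A : Set G)).relIndex B *
          Nat.card (B ⊓ centralizer (A : Set G) : Subgroup G) < q * q :=
        lt_of_le_of_lt (Nat.mul_le_mul_left _ e4) (Nat.mul_lt_mul_of_pos_right hlt hq)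
      omega
    have h4 : normalizer (A : Set G) ≤ triv A U := by
      rw [← (hn A hA).gen P Q hPA hQA hgP.symm]
      refine sup_le ?_ h2
      rw [← h3]
      exact sup_le h1 (hCAQ.trans h2)
    obtain ⟨x, hxN, hx1, hxo⟩ := exists_odd (not_isPGroup hPA hQA hgP.symm)
    have hAQ : A ≤ Q := cV_le_P (hn A hA) hQA
    have hUQ : U ≤ Q := cV_le_P (hn U hU) hQU
    have hinj : Function.Injective (fun a : A => (⟨(a : G)⁻¹ * (x * a * x⁻¹),
        A.mul_mem (A.inv_mem a.2) ((mem_normalizer_iff.mp hxN _).mp a.2)⟩ : A)) := by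
      intro a a' haa'
      have e1 : (a : G)⁻¹ * (x * a * x⁻¹) = (a' : G)⁻¹ * (x * a' * x⁻¹) :=
        congrArg Subtype.val haa'
      have e2 : x * ((a : G) * (a' : G)⁻¹) = ((a : G) * (a' : G)⁻¹) * x := by
        calc x * ((a : G) * (a' : G)⁻¹) = a * ((a : G)⁻¹ * (x * a * x⁻¹)) * x * (a' : G)⁻¹ := by group
          _ = a * ((a' : G)⁻¹ * (x * a' * x⁻¹)) * x * (a' : G)⁻¹ := by rw [e1]
          _ = _ := by group
      have e3 := eq_one_of_comm hS (hn A hA).ea.isPGroup hxo hx1 (A.mul_mem a.2 (A.inv_mem a'.2)) e2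
      exact Subtype.ext (mul_inv_eq_one.mp e3)
    have hsurj := Finite.surjective_of_injective hinj
    apply hUA
    apply Subgroup.eq_of_le_of_card_ge
    · intro u hu
      obtain ⟨a, ha⟩ := hsurj ⟨u⁻¹ * (x * u * x⁻¹), (h4 hxN).2 u hu⟩
      have e1 : (a : G)⁻¹ * (x * a * x⁻¹) = u⁻¹ * (x * u * x⁻¹) := congrArg Subtype.val ha
      have e2 : x * ((a : G) * u⁻¹) = ((a : G) * u⁻¹) * x := by
        calc x * ((a : G) * u⁻¹) = a * ((a : G)⁻¹ * (x * a * x⁻¹)) * x * u⁻¹ := by group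
          _ = a * (u⁻¹ * (x * u * x⁻¹)) * x * u⁻¹ := by rw [e1]
          _ = _ := by group
      have e3 := eq_one_of_comm hS hQA.isPGroup hxo hx1
        (Q.mul_mem (hAQ a.2) (Q.inv_mem (hUQ hu))) e2
      rw [← mul_inv_eq_one.mp e3]
      exact a.2
    · rw [(hn A hA).card, (hn U hU).card]
  · have h1 : OZ Q = OZ P'' := OZ_eq_OZ (hn U hU) (hn C hC) hQU hP''C hUP'' hCQ hCU
    have h2 : A = C := by
      rw [← OZ_sup hS (hn A hA) hPA hQA hgP.symm, ← OZ_sup hS (hn C hC) hP'C hP''C hne'.symm,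
        hOZ, h1]
    apply hAB
    subst h2
    exact hmin 1 (by omega) _ _ (Wk.snoc (Wk.nil hA) hB haCB)

/-- M1, the amalgam lemma -/
theorem amalgam [Finite G] (hS : Sep G) {q : ℕ} (VV : Set (Subgroup G))
    (hc : ∀ V ∈ VV, ∀ g : G, cj g V ∈ VV) (hn : ∀ V ∈ VV, Nat2 q V)
    {V₀ V₁ : Subgroup G} (h0 : V₀ ∈ VV) (h1 : V₁ ∈ VV) (ha : Adj V₀ V₁) :
    (∃ V V' : Subgroup G, V ∈ VV ∧ V' ∈ VV ∧ Adj V V' ∧ ¬ V' ≤ centralizer (V : Set G)) ∨
    (∃ W : Subgroup G, W ≠ ⊥ ∧ IsPGroup 2 W ∧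
      ∀ V, Relation.ReflTransGen (fun A B => A ∈ VV ∧ B ∈ VV ∧ Adj A B) V₀ V →
        normalizer (V : Set G) ≤ normalizer (W : Set G)) := by
  by_cases hcase : ∀ n A B, Wk VV n A B → B ≤ centralizer (A : Set G)
  · right
    set C : Set (Subgroup G) :=
      {V | Relation.ReflTransGen (fun A B => A ∈ VV ∧ B ∈ VV ∧ Adj A B) V₀ V} with hC
    have hwalk : ∀ V ∈ C, ∃ n, Wk VV n V₀ V := by
      intro V hV
      induction hV with
      | refl => exact ⟨0, Wk.nil h0⟩
      | tail _ h ih =>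
        obtain ⟨n, hn'⟩ := ih
        exact ⟨n + 1, Wk.snoc hn' h.2.1 h.2.2⟩
    have hCof : ∀ n A B, A ∈ C → Wk VV n A B → B ∈ C := by
      intro n A B hA hw
      induction hw with
      | nil _ => exact hA
      | snoc h hC' ha' ih => exact Relation.ReflTransGen.tail (ih hA) ⟨h.right, hC', ha'⟩
    have hcomm : ∀ A ∈ C, ∀ B ∈ C, B ≤ centralizer (A : Set G) := by
      intro A hA B hB
      obtain ⟨n, hn'⟩ := hwalk A hA
      obtain ⟨m, hm'⟩ := hwalk B hB
      exact hcase _ A B (hn'.symm.trans hm')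
    have hVVC : ∀ A ∈ C, A ∈ VV := fun A hA => by
      obtain ⟨n, hn'⟩ := hwalk A hA
      exact hn'.right
    set W : Subgroup G := sSup C with hW
    have hWc : ∀ A ∈ C, A ≤ centralizer (W : Set G) := by
      intro A hA
      apply mem_cent_comm
      rw [hW]
      exact sSup_le fun B hB => hcomm A hA B hB
    have hWW : W ≤ centralizer (W : Set G) := by
      conv_lhs => rw [hW]
      exact sSup_le hWc
    have hWea : IsEA W := by
      intro x hx
      rw [hW, sSup_eq_iSup'] at hx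
      suffices hs : x * x = 1 ∧ x ∈ W from hs.1
      refine Subgroup.iSup_induction (fun A : C => (A : Subgroup G)) (C := fun x => x * x = 1 ∧ x ∈ W)
        hx ?_ ?_ ?_
      · intro A y hy
        exact ⟨(hn A (hVVC A A.2)).ea y hy, (le_sSup A.2 : (A : Subgroup G) ≤ W) hy⟩
      · exact ⟨mul_one 1, one_mem _⟩
      · rintro y z ⟨hy, hyW⟩ ⟨hz, hzW⟩
        refine ⟨?_, W.mul_mem hyW hzW⟩
        have h2 : y * z = z * y := by
          have := mem_centralizer_iff.mp (hWW hzW) y hyW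
          exact this
        calc y * z * (y * z) = y * z * (z * y) := by rw [← h2]
          _ = y * (z * z) * y := by group
          _ = 1 := by rw [hz, mul_one, hy]
    have hV0W : V₀ ≤ W := le_sSup Relation.ReflTransGen.refl
    refine ⟨W, ?_, hWea.isPGroup, ?_⟩
    · intro hbot
      rw [hbot, le_bot_iff] at hV0W
      have h2 := (hn V₀ h0).card
      rw [hV0W, Subgroup.card_bot] at h2
      have h3 := (hn V₀ h0).q1
      nlinarith
    · intro V hV
      have hVC : V ∈ C := hV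
      apply le_normalizer_of_conj_mem
      intro g hg x hx
      have hgC : ∀ B ∈ C, cj g B ∈ C := by
        intro B hB
        have hwVB : ∃ n, Wk VV n V B := by
          obtain ⟨n, hn'⟩ := hwalk V hVC
          obtain ⟨m, hm'⟩ := hwalk B hB
          exact ⟨_, hn'.symm.trans hm'⟩
        obtain ⟨n, hw⟩ := hwVB
        have hcjw : ∀ n A B, Wk VV n A B → Wk VV n (cj g A) (cj g B) := by
          intro n A B hw
          induction hw with
          | nil h => exact Wk.nil (hc _ h g)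
          | snoc h hC' ha' ih => exact Wk.snoc ih (hc _ hC' g) (Adj.cj ha' g)
        have h2 := hcjw n V B hw
        rw [mem_normalizer_iff_cj.mp hg] at h2
        exact hCof n V _ hVC h2
      rw [hW, sSup_eq_iSup'] at hx
      refine Subgroup.iSup_induction (fun A : C => (A : Subgroup G)) (C := fun x => g * x * g⁻¹ ∈ W)
        hx ?_ ?_ ?_
      · intro A y hy
        exact (le_sSup (hgC A A.2) : cj g (A : Subgroup G) ≤ W) (conj_mem_cj.mpr hy)
      · simp
      · intro y z hy hz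
        have := W.mul_mem hy hz
        simpa [mul_assoc] using this
  · left
    classical
    have hcase' : ∃ n, ∃ A B, Wk VV n A B ∧ ¬ B ≤ centralizer (A : Set G) := by
      by_contra hcon
      apply hcase
      intro n A B hw
      by_contra h
      exact hcon ⟨n, A, B, hw, h⟩
    obtain ⟨A, B, hw, hAB⟩ := Nat.find_spec hcase'
    have hmin : ∀ n < Nat.find hcase', ∀ A B, Wk VV n A B → B ≤ centralizer (A : Set G) := by
      intro n hlt A B hw
      by_contra h
      exact Nat.find_min hcase' hlt ⟨A, B, hw, h⟩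
    obtain ⟨n, hn'⟩ : ∃ n, Nat.find hcase' = n := ⟨_, rfl⟩
    rw [hn'] at hw hmin
    rcases n with _ | _ | n
    · cases hw with
      | nil h => exact absurd (hn A h).ea.le_centralizer hAB
    · obtain ⟨C, hC, haC, hw0⟩ := hw.exists_cons
      have hA := hw.left
      cases hw0 with
      | nil h => exact ⟨A, B, hA, h, haC, hAB⟩
    · exact absurd (no_long hS hc hn (fun m hm A B hw => hmin m (by omega) A B hw) hw) hAB

end H36.CITM1
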