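import Mathlib
import Cfsg.Agent.Lib.H36.CN1
import Cfsg.Agent.Lib.H36.CITM1
import Cfsg.Agent.Lib.H83.CITM4b
import Cfsg.Agent.Lib.H73.Nilp
import Cfsg.Agent.Lib.H72.PGroupCenter
import Cfsg.Agent.S0215

/-!
Finite groups with nilpotent centralisers in which some element of odd order commutes with an
involution: the centraliser `M` of a central involution of a Sylow 2-subgroup contains the
centralisers of all its non-identity elements.
-/
set_option autoImplicit false
set_option linter.style.haveILetI false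

namespace H36.CN2

open Subgroup Lead.CIT H28.Cj H28.RelSyl H25.Isolated H25.StrEmb

universe u

variable {G : Type u} [Group G] [Finite G]

theorem mem_of_pow_mem {H : Subgroup G} {y : G} {a b : ℕ} (ha : y ^ a ∈ H) (hb : y ^ b ∈ H)
    (hab : Nat.Coprime a b) : y ∈ H := by
  have h1 : (1 : ℤ) = a * Nat.gcdA a b + b * Nat.gcdB a b := by
    have := Nat.gcd_eq_gcd_ab a b
    rw [Nat.Coprime.gcd_eq_one hab] at this
    exact_mod_cast this
  have h2 : y = (y ^ a) ^ (Nat.gcdA a b) * (y ^ b) ^ (Nat.gcdB a b) := by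
    rw [← zpow_natCast, ← zpow_natCast, ← zpow_mul, ← zpow_mul, ← zpow_add, ← h1, zpow_one]
  rw [h2]
  exact H.mul_mem (H.zpow_mem ha _) (H.zpow_mem hb _)

/-- the powers that are the parts of an element -/
theorem parts (y : G) : ∃ k m : ℕ, Odd m ∧ orderOf y = 2 ^ k * m ∧ orderOf (y ^ 2 ^ k) = m ∧
    orderOf (y ^ m) = 2 ^ k ∧ Nat.Coprime (2 ^ k) m := by
  obtain ⟨k, m, hm, hkm⟩ := Nat.exists_eq_two_pow_mul_odd (orderOf_pos y).ne'
  refine ⟨k, m, hm, hkm, ?_, ?_, ?_⟩
  · rw [orderOf_pow_of_dvd (by positivity) (by rw [hkm]; exact dvd_mul_right _ _), hkm,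
      Nat.mul_div_cancel_left _ (by positivity)]
  · have hm0 : 0 < m := hm.pos
    rw [orderOf_pow_of_dvd hm0.ne' (by rw [hkm]; exact dvd_mul_left _ _), hkm,
      Nat.mul_div_cancel _ hm0]
  · exact Nat.Coprime.pow_left k (Nat.coprime_two_left.mpr hm)

/-- the configuration -/
structure Conf (S : Subgroup G) (z x : G) : Prop where
  cn : Cfsg.IsCNGroup G
  syl : IsSyl 2 S ⊤
  zS : z ∈ S
  z2 : orderOf z = 2
  zc : ∀ s ∈ S, s * z = z * s
  xo : Odd (orderOf x)
  x1 : x ≠ 1
  xc : ∀ s ∈ S, s * x = x * s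

theorem nil_comm (hCN : Cfsg.IsCNGroup G) {c a b : G} (hc : c ≠ 1) (ha : a * c = c * a)
    (hb : b * c = c * b) (ha2 : ∃ k, orderOf a = 2 ^ k) (hb2 : Odd (orderOf b)) : a * b = b * a := by
  haveI : Fact (Nat.Prime 2) := ⟨Nat.prime_two⟩
  haveI := hCN c hc
  have ha' : a ∈ centralizer ({c} : Set G) := mem_centralizer_singleton_iff.mpr ha
  have hb' : b ∈ centralizer ({c} : Set G) := mem_centralizer_singleton_iff.mpr hb
  have h1 : Commute (⟨a, ha'⟩ : centralizer ({c} : Set G)) ⟨b, hb'⟩ := by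
    apply H73.Nilp.commute_of_coprime (p := 2)
    · rw [Subgroup.orderOf_mk]; exact ha2
    · rw [Subgroup.orderOf_mk]; exact (Nat.coprime_two_right.mpr hb2)
  exact congrArg Subtype.val h1.eq

theorem exists_conf (hCN : Cfsg.IsCNGroup G) (hS : ¬ Lead.CIT.Sep G) : ∃ (S : Subgroup G) (z x : G), Conf S z x := by
  haveI : Fact (Nat.Prime 2) := ⟨Nat.prime_two⟩
  unfold Lead.CIT.Sep at hS
  push Not at hS
  obtain ⟨x, t, ht, hx, hxt, hx1⟩ := hS
  have ht1 : t ≠ 1 := by rintro rfl; rw [orderOf_one] at ht; omega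
  have htp : IsPGroup 2 (zpowers t) := by
    apply IsPGroup.of_card (n := 1)
    rw [Nat.card_zpowers, ht, pow_one]
  obtain ⟨S, hS, htS⟩ := exists_isSyl_ge (H := ⊤) htp le_top
  have htS' : t ∈ S := htS (mem_zpowers t)
  -- a central involution
  have hSb : (⊤ : Subgroup S) ≠ ⊥ := by
    intro h
    have : (⟨t, htS'⟩ : S) ∈ (⊤ : Subgroup S) := trivial
    rw [h, Subgroup.mem_bot] at this
    exact ht1 (congrArg Subtype.val this)
  have h1 := H72.PGroupCenter.normal_inf_center_ne_bot hS.isPGroup (⊤ : Subgroup S) hSb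
  rw [top_inf_eq] at h1
  have h2 : IsPGroup 2 ((center S).map S.subtype) :=
    hS.isPGroup.to_le (Subgroup.map_subtype_le _)
  have h3 : (center S).map S.subtype ≠ ⊥ := by
    intro h
    exact h1 ((Subgroup.map_eq_bot_iff_of_injective _ S.subtype_injective).mp h)
  obtain ⟨z, hz, hz2⟩ := H36.CITM1.exists_inv h2 h3
  obtain ⟨z', hz', rfl⟩ := hz
  have hzc : ∀ s ∈ S, s * (z' : G) = z' * s := by
    intro s hs
    exact congrArg Subtype.val (Subgroup.mem_center_iff.mp hz' ⟨s, hs⟩)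
  have hz1 : ((z' : S) : G) ≠ 1 := by
    intro h; rw [Subgroup.subtype_apply, h, orderOf_one] at hz2; omega
  have hzx : (z' : G) * x = x * z' := by
    apply nil_comm hCN ht1 (hzc t htS').symm hxt ⟨1, by rw [pow_one]; exact hz2⟩ hx
  refine ⟨S, z', x, hCN, hS, z'.2, hz2, hzc, hx, hx1, ?_⟩
  intro s hs
  apply nil_comm hCN hz1 (hzc s hs) hzx.symm _ hx
  obtain ⟨k, hk⟩ := (IsPGroup.iff_orderOf.mp hS.isPGroup) ⟨s, hs⟩
  exact ⟨k, by rw [Subgroup.orderOf_mk] at hk; exact hk⟩

variable {S : Subgroup G} {z x : G}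

theorem Conf.z1 (h : Conf S z x) : z ≠ 1 := by
  intro hz; have := h.z2; rw [hz, orderOf_one] at this; omega

theorem Conf.two (h : Conf S z x) {s : G} (hs : s ∈ S) : ∃ k, orderOf s = 2 ^ k := by
  haveI : Fact (Nat.Prime 2) := ⟨Nat.prime_two⟩
  obtain ⟨k, hk⟩ := (IsPGroup.iff_orderOf.mp h.syl.isPGroup) ⟨s, hs⟩
  exact ⟨k, by rw [Subgroup.orderOf_mk] at hk; exact hk⟩

/-- `M` -/
abbrev M (z : G) : Subgroup G := centralizer ({z} : Set G)

theorem mem_M {y : G} : y ∈ M z ↔ y * z = z * y := mem_centralizer_singleton_iff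

theorem Conf.S_le (h : Conf S z x) : S ≤ M z := fun s hs => mem_M.mpr (h.zc s hs)

/-- a `2`-element commuting with `c` is in `S`, if `S` centralises `c` -/
theorem Conf.mem_S (h : Conf S z x) {c y : G} (hc : c ≠ 1) (hcS : ∀ s ∈ S, s * c = c * s)
    (hy : y * c = c * y) (hy2 : ∃ k, orderOf y = 2 ^ k) : y ∈ S := by
  haveI : Fact (Nat.Prime 2) := ⟨Nat.prime_two⟩
  have hle : S ≤ centralizer ({c} : Set G) := fun s hs => mem_centralizer_singleton_iff.mpr (hcS s hs)
  have h1 : IsSyl 2 S (centralizer ({c} : Set G)) := h.syl.of_le_of_le hle le_top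
  haveI := h.cn c hc
  have h2 : (h1.toSylow : Subgroup (centralizer ({c} : Set G))).Normal := H73.Nilp.sylow_normal _
  have h3 : centralizer ({c} : Set G) ≤ normalizer (S : Set G) := by
    rw [h1.coe_toSylow] at h2
    exact (Subgroup.normal_subgroupOf_iff_le_normalizer hle).mp h2
  obtain ⟨k, hk⟩ := hy2
  have h4 : IsPGroup 2 (zpowers y) := IsPGroup.of_card (n := k) (by rw [Nat.card_zpowers, hk])
  exact h1.le_of_normal h3 h4 (by rw [zpowers_le]; exact mem_centralizer_singleton_iff.mpr hy)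
    (mem_zpowers y)

theorem Conf.x_mem (h : Conf S z x) : x ∈ M z := mem_M.mpr (h.xc z h.zS).symm

/-- odd elements of `M` commute with `S` -/
theorem Conf.odd_comm (h : Conf S z x) {u : G} (hu : u ∈ M z) (huo : Odd (orderOf u)) {s : G}
    (hs : s ∈ S) : s * u = u * s :=
  nil_comm h.cn h.z1 (h.zc s hs) (mem_M.mp hu) (h.two hs) huo

theorem mem_of_parts {H : Subgroup G} {y : G}
    (h2 : ∀ j : ℕ, (∃ k, orderOf (y ^ j) = 2 ^ k) → y ^ j ∈ H)
    (ho : ∀ j : ℕ, Odd (orderOf (y ^ j)) → y ^ j ∈ H) : y ∈ H := by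
  obtain ⟨k, m, hm, -, h3, h4, h5⟩ := parts y
  exact mem_of_pow_mem (ho _ (by rw [h3]; exact hm)) (h2 m ⟨k, h4⟩) h5

/-- Claim A -/
theorem Conf.cc_odd (h : Conf S z x) {u : G} (hu : u ∈ M z) (hu1 : u ≠ 1) (huo : Odd (orderOf u))
    {y : G} (hy : y * u = u * y) : y ∈ M z := by
  apply mem_of_parts
  · intro j hj
    have h1 : y ^ j * u = u * y ^ j := (Commute.pow_left (show Commute y u from hy) j).eq
    exact h.S_le (h.mem_S hu1 (fun s hs => h.odd_comm hu huo hs) h1 hj)
  · intro j hj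
    have h1 : y ^ j * u = u * y ^ j := (Commute.pow_left (show Commute y u from hy) j).eq
    rw [mem_M]
    exact (nil_comm h.cn hu1 (h.odd_comm hu huo h.zS) h1 ⟨1, by rw [pow_one]; exact h.z2⟩ hj).symm

theorem Conf.cc_two (h : Conf S z x) {u : G} (hu : u ∈ M z) (hu1 : u ≠ 1)
    (hu2 : ∃ k, orderOf u = 2 ^ k) {y : G} (hy : y * u = u * y) : y ∈ M z := by
  have huS : u ∈ S := h.mem_S h.z1 h.zc (mem_M.mp hu) hu2
  apply mem_of_parts
  · intro j hj
    have h1 : y ^ j * u = u * y ^ j := (Commute.pow_left (show Commute y u from hy) j).eq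
    apply h.cc_odd h.x_mem h.x1 h.xo
    exact nil_comm h.cn hu1 h1 (h.xc u huS).symm hj h.xo
  · intro j hj
    have h1 : y ^ j * u = u * y ^ j := (Commute.pow_left (show Commute y u from hy) j).eq
    rw [mem_M]
    exact (nil_comm h.cn hu1 (h.zc u huS).symm h1 ⟨1, by rw [pow_one]; exact h.z2⟩ hj).symm

theorem Conf.cc (h : Conf S z x) {u : G} (hu : u ∈ M z) (hu1 : u ≠ 1) {y : G}
    (hy : y * u = u * y) : y ∈ M z := by
  obtain ⟨k, m, hm, hkm, h3, h4, -⟩ := parts u
  by_cases h1 : u ^ 2 ^ k = 1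
  · apply h.cc_two hu hu1 _ hy
    rw [h1, orderOf_one] at h3
    exact ⟨k, by rw [hkm, ← h3, mul_one]⟩
  · apply h.cc_odd ((M z).pow_mem hu _) h1 (by rw [h3]; exact hm)
    exact (Commute.pow_right (show Commute y u from hy) _).eq

theorem Conf.z_mem (h : Conf S z x) : z ∈ M z := h.S_le h.zS

theorem Conf.ti (h : Conf S z x) {g : G} (hg : g ∉ normalizer (M z : Set G)) {u : G}
    (hu : u ∈ M z) (hgu : g⁻¹ * u * g ∈ M z) : u = 1 := by
  by_contra hu1
  apply hg
  rw [← inv_inv g]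
  apply (normalizer (M z : Set G)).inv_mem
  apply mem_normalizer_of_cj_le
  have hv1 : g⁻¹ * u * g ≠ 1 := by
    intro h1
    apply hu1
    have := congrArg (fun y => g * y * g⁻¹) h1
    simpa [mul_assoc] using this
  have hw : g⁻¹ * z * g ∈ M z := by
    apply h.cc hgu hv1
    have := mem_M.mp hu
    calc g⁻¹ * z * g * (g⁻¹ * u * g) = g⁻¹ * (z * u) * g := by group
      _ = g⁻¹ * (u * z) * g := by rw [this]
      _ = _ := by group
  have hw1 : g⁻¹ * z * g ≠ 1 := by
    intro h1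
    apply h.z1
    have := congrArg (fun y => g * y * g⁻¹) h1
    simpa [mul_assoc] using this
  intro y hy
  rw [mem_cj, inv_inv] at hy
  apply h.cc hw hw1
  have := mem_M.mp hy
  calc y * (g⁻¹ * z * g) = g⁻¹ * ((g * y * g⁻¹) * z) * g := by group
    _ = g⁻¹ * (z * (g * y * g⁻¹)) * g := by rw [this]
    _ = _ := by group

/-- the normaliser of `M` -/
abbrev H (z : G) : Subgroup G := normalizer (M z : Set G)

theorem Conf.relIndex_odd (h : Conf S z x) : Odd ((M z).relIndex (H z)) := by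
  haveI : Fact (Nat.Prime 2) := ⟨Nat.prime_two⟩
  rw [← Nat.not_even_iff_odd, even_iff_two_dvd]
  intro hd
  apply h.syl.not_dvd
  rw [← Subgroup.relIndex_mul_relIndex S (M z) ⊤ h.S_le le_top,
    ← Subgroup.relIndex_mul_relIndex (M z) (H z) ⊤ le_normalizer le_top]
  exact Dvd.dvd.mul_left (Dvd.dvd.mul_right hd _) _

/-- involutions of `H` are in `M` -/
theorem Conf.inv_mem (h : Conf S z x) {t : G} (ht : orderOf t = 2) (htH : t ∈ H z) : t ∈ M z := by
  haveI hN : ((M z).subgroupOf (H z)).Normal := Subgroup.normal_in_normalizer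
  have h1 := Subgroup.pow_index_mem (H := (M z).subgroupOf (H z)) ⟨t, htH⟩
  obtain ⟨r, hr⟩ := h.relIndex_odd
  have h2 : ((M z).subgroupOf (H z)).index = 2 * r + 1 := hr
  rw [h2, mem_subgroupOf] at h1
  have h3 : t ^ (2 * r + 1) = t := by
    rw [pow_succ, pow_mul, ← ht, pow_orderOf_eq_one, one_pow, one_mul]
  have h4 : t ^ (2 * r + 1) ∈ M z := h1
  rwa [h3] at h4

theorem Conf.H_ne_top [IsSimpleGroup G] (hna : ∃ a b : G, a * b ≠ b * a) (h : Conf S z x) :
    H z ≠ ⊤ := by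
  intro htop
  have hn : (M z).Normal := Subgroup.normalizer_eq_top_iff.mp htop
  rcases hn.eq_bot_or_eq_top with h1 | h1
  · have := h.z_mem
    rw [h1, Subgroup.mem_bot] at this
    exact h.z1 this
  · have hzc : z ∈ center G := by
      rw [Subgroup.mem_center_iff]
      intro g
      have : g ∈ M z := by rw [h1]; trivial
      exact mem_M.mp this
    rcases (inferInstance : (center G).Normal).eq_bot_or_eq_top with h2 | h2
    · rw [h2, Subgroup.mem_bot] at hzc
      exact h.z1 hzc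
    · obtain ⟨a, b, hab⟩ := hna
      apply hab
      have hb : b ∈ center G := by rw [h2]; trivial
      exact (Subgroup.mem_center_iff.mp hb a)

theorem Conf.emb [IsSimpleGroup G] (hna : ∃ a b : G, a * b ≠ b * a) (h : Conf S z x) :
    Cfsg.IsStronglyEmbedded (H z) := by
  refine ⟨h.H_ne_top hna, ?_, ?_⟩
  · rw [even_iff_two_dvd, ← h.z2]
    exact Subgroup.orderOf_dvd_natCard _ (le_normalizer h.z_mem)
  · intro g hg
    rw [← Nat.not_even_iff_odd, even_iff_two_dvd]
    intro hdvd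
    obtain ⟨t, ht⟩ := exists_prime_orderOf_dvd_card' (G := ↥(H z ⊓
      (H z).map (MulAut.conj g).toMonoidHom)) 2 hdvd
    rw [← Subgroup.orderOf_coe] at ht
    obtain ⟨h1, h2⟩ := Subgroup.mem_inf.mp t.2
    rw [mem_map_conj] at h2
    have h3 := h.inv_mem ht h1
    have ht' : orderOf (g⁻¹ * (t : G) * g) = 2 := by
      have := MulEquiv.orderOf_eq (MulAut.conj g⁻¹) (t : G)
      simpa [MulAut.conj_apply, ht] using this
    have h4 := h.inv_mem ht' h2
    have h5 := h.ti hg h3 h4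
    rw [h5, orderOf_one] at ht
    omega

end H36.CN2
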