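import Mathlib
import Cfsg.Agent.Lib.H36.CN2
import Cfsg.Agent.S0346

/-!
Simple groups with nilpotent centralisers in which some element of odd order commutes with an
involution: they are Zassenhaus groups (and then do not exist).
-/
set_option autoImplicit false
set_option linter.style.haveILetI false

namespace H36.CN3

open Subgroup Lead.CIT H28.Cj H28.RelSyl H25.Isolated H25.StrEmb H36.CN2

universe u

variable {G : Type u} [Group G] [Finite G] {S : Subgroup G} {z x : G}

/-- the number of involutions of `H` -/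
theorem card_inv [IsSimpleGroup G] (hna : ∃ a b : G, a * b ≠ b * a) (h : Conf S z x) :
    Nat.card {t : G // orderOf t = 2 ∧ t ∈ H z} = (M z).relIndex (H z) := by
  have hemb := h.emb hna
  -- an involution outside `H`
  obtain ⟨u, hu, huH⟩ : ∃ u : G, orderOf u = 2 ∧ u ∉ H z := by
    obtain ⟨g, hg⟩ : ∃ g : G, g ∉ H z := by
      by_contra hcon
      push Not at hcon
      exact hemb.1 (eq_top_iff.mpr fun a _ => hcon a)
    have ho : orderOf (g⁻¹ * z * g) = 2 := by
      have := MulEquiv.orderOf_eq (MulAut.conj g⁻¹) z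
      simpa [MulAut.conj_apply, h.z2] using this
    refine ⟨g⁻¹ * z * g, ho, fun hgH => ?_⟩
    exact h.z1 (h.ti hg h.z_mem (h.inv_mem ho hgH))
  have hzH : z ∈ H z := le_normalizer h.z_mem
  have hconj : ∀ t : G, orderOf t = 2 → t ∈ H z → ∃ d ∈ H z, d * z * d⁻¹ = t := by
    intro t ht htH
    obtain ⟨d, hd, hdt⟩ := exists_conj_of_mem hemb hu huH h.z2 hzH ht htH
    exact ⟨d, hd.1, hdt⟩
  have hle : M z ≤ H z := le_normalizer
  let f : (H z ⧸ (M z).subgroupOf (H z)) → {t : G // orderOf t = 2 ∧ t ∈ H z} :=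
    Quotient.lift (fun d : H z => (⟨(d : G) * z * (d : G)⁻¹, by
      have := MulEquiv.orderOf_eq (MulAut.conj (d : G)) z
      simpa [MulAut.conj_apply, h.z2] using this, (H z).mul_mem ((H z).mul_mem d.2 hzH)
        ((H z).inv_mem d.2)⟩ : {t : G // orderOf t = 2 ∧ t ∈ H z})) (by
      intro a b hab
      apply Subtype.ext
      have h1 : (a⁻¹ * b : H z) ∈ (M z).subgroupOf (H z) := QuotientGroup.leftRel_apply.mp hab
      rw [mem_subgroupOf] at h1
      have h2 := mem_M.mp h1
      simp only [Subgroup.coe_mul, InvMemClass.coe_inv] at h2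
      change (a : G) * z * (a : G)⁻¹ = b * z * (b : G)⁻¹
      calc (a : G) * z * (a : G)⁻¹ = a * (z * ((a : G)⁻¹ * b)) * (b : G)⁻¹ := by group
        _ = a * (((a : G)⁻¹ * b) * z) * (b : G)⁻¹ := by rw [h2]
        _ = _ := by group)
  have hf : Function.Bijective f := by
    constructor
    · intro a b
      induction a using QuotientGroup.induction_on with
      | H a =>
      induction b using QuotientGroup.induction_on with
      | H b =>
      intro hab
      have h1 : (a : G) * z * (a : G)⁻¹ = b * z * (b : G)⁻¹ := congrArg Subtype.val hab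
      rw [QuotientGroup.eq, mem_subgroupOf, mem_M]
      simp only [Subgroup.coe_mul, InvMemClass.coe_inv]
      calc (a : G)⁻¹ * b * z = (a : G)⁻¹ * (b * z * (b : G)⁻¹) * b := by group
        _ = (a : G)⁻¹ * (a * z * (a : G)⁻¹) * b := by rw [h1]
        _ = _ := by group
    · rintro ⟨t, ht, htH⟩
      obtain ⟨d, hd, hdt⟩ := hconj t ht htH
      exact ⟨QuotientGroup.mk ⟨d, hd⟩, Subtype.ext hdt⟩
  rw [← Nat.card_congr (Equiv.ofBijective f hf)]
  rfl

theorem one_lt [IsSimpleGroup G] (hna : ∃ a b : G, a * b ≠ b * a) (h : Conf S z x) :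
    1 < (M z).relIndex (H z) := by
  haveI : Fact (Nat.Prime 2) := ⟨Nat.prime_two⟩
  have h0 : 0 < (M z).relIndex (H z) := Nat.pos_of_ne_zero Subgroup.FiniteIndex.index_ne_zero
  by_contra hle
  have h1 : (M z).relIndex (H z) = 1 := by omega
  have hc := card_inv hna h
  rw [h1, Nat.card_eq_one_iff_unique] at hc
  have huniq : ∀ t : G, orderOf t = 2 → t ∈ H z → t = z := by
    intro t ht htH
    have := hc.1.elim (⟨t, ht, htH⟩ : {t : G // orderOf t = 2 ∧ t ∈ H z})
      ⟨z, h.z2, le_normalizer h.z_mem⟩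
    exact congrArg Subtype.val this
  obtain ⟨N, hN, hNodd, hcom⟩ := Cfsg.Agent.S0215.result h.syl.toSylowTop z h.z2 h.zS (by
    intro g hg
    apply huniq
    · have := MulEquiv.orderOf_eq (MulAut.conj g) z
      simpa [MulAut.conj_apply, h.z2] using this
    · exact le_normalizer (h.S_le hg))
  rcases hN.eq_bot_or_eq_top with h1 | h1
  · have hzc : z ∈ center G := by
      rw [Subgroup.mem_center_iff]
      intro g
      have := hcom g
      rw [h1, Subgroup.mem_bot] at this
      have h2 := congrArg (fun x => x * g * z) this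
      simp only [one_mul] at h2
      rw [← h2]; group
    rcases (inferInstance : (center G).Normal).eq_bot_or_eq_top with h2 | h2
    · rw [h2, Subgroup.mem_bot] at hzc
      exact h.z1 hzc
    · obtain ⟨a, b, hab⟩ := hna
      apply hab
      have ha : b ∈ center G := by rw [h2]; trivial
      exact (Subgroup.mem_center_iff.mp ha a)
  · rw [h1, Subgroup.card_top] at hNodd
    apply (Nat.not_even_iff_odd.mpr hNodd)
    rw [even_iff_two_dvd, ← h.z2]
    exact orderOf_dvd_natCard z

theorem cop [IsSimpleGroup G] (hna : ∃ a b : G, a * b ≠ b * a) (h : Conf S z x) :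
    Nat.Coprime (Nat.card (M z)) ((M z).relIndex (H z)) := by
  by_contra hncop
  obtain ⟨p, hp, hpM, hpm⟩ := Nat.Prime.not_coprime_iff_dvd.mp hncop
  haveI : Fact p.Prime := ⟨hp⟩
  obtain ⟨R, hR⟩ := exists_isSyl p (H z)
  have hRM : IsSyl p (R ⊓ M z) (M z) := hR.inf_normal le_rfl le_normalizer
  have hne : R ⊓ M z ≠ ⊥ := hRM.ne_bot hpM
  -- a central element
  have hnorm : ((R ⊓ M z).subgroupOf R).Normal := by
    rw [Subgroup.normal_subgroupOf_iff_le_normalizer inf_le_left]
    intro r hr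
    rw [mem_normalizer_iff_cj, cj_inf, cj_eq_self_of_mem hr, mem_normalizer_iff_cj.mp (hR.le hr)]
  have hne' : (R ⊓ M z).subgroupOf R ≠ ⊥ := by
    rw [Ne, subgroupOf_eq_bot, disjoint_iff, inf_assoc, inf_comm (M z), ← inf_assoc, inf_idem]
    exact hne
  have h1 := H72.PGroupCenter.normal_inf_center_ne_bot hR.isPGroup _ hne'
  obtain ⟨⟨r, hr⟩, hr1⟩ := Subgroup.ne_bot_iff_exists_ne_one.mp h1
  obtain ⟨h2, h3⟩ := Subgroup.mem_inf.mp hr
  rw [mem_subgroupOf] at h2
  have h4 : (r : G) ≠ 1 := by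
    intro h5
    exact hr1 (Subtype.ext (Subtype.ext h5))
  have h5 : R ≤ M z := by
    intro y hy
    apply h.cc h2.2 h4
    exact congrArg Subtype.val (Subgroup.mem_center_iff.mp h3 ⟨y, hy⟩)
  apply hR.not_dvd
  rw [← Subgroup.relIndex_mul_relIndex R (M z) (H z) h5 le_normalizer]
  exact Dvd.dvd.mul_left hpm _

theorem dat [IsSimpleGroup G] (hna : ∃ a b : G, a * b ≠ b * a) (h : Conf S z x) :
    H36.CN1.Dat (M z) (H z) ((M z).relIndex (H z)) where
  emb := h.emb hna
  cc := fun _ hu hu1 _ hy => h.cc hu hu1 hy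
  ti := fun _ hg _ hu hgu => h.ti hg hu hgu
  le := le_normalizer
  nor := le_rfl
  cardM := by rw [mul_comm, relIndex_mul_card le_normalizer]
  cop := cop hna h
  odd := h.relIndex_odd
  one := one_lt hna h
  inv := card_inv hna h

theorem zassenhaus_of_dat {L : Type u} [Group L] [Finite L] [IsSimpleGroup L] (P M : Subgroup L)
    {m : ℕ} (hd : H36.CN1.Dat P M m) : Cfsg.IsZassenhausGroup L (L ⧸ M) := by
  open H36.CN1 in
  obtain ⟨a, ha⟩ : ∃ a : L, a ∉ M := by
    by_contra hcon
    push Not at hcon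
    exact hd.emb.1 (eq_top_iff.mpr fun a _ => hcon a)
  have hy : (QuotientGroup.mk a : L ⧸ M) ≠ H36.CN1.x0 M := by
    intro h
    rw [H36.CN1.x0, eq_comm, QuotientGroup.eq] at h
    apply ha
    simpa using h
  have htr : ∀ x : L ⧸ M, ∃ g : L, g • H36.CN1.x0 M = x := by
    intro x
    obtain ⟨g, hg⟩ := MulAction.exists_smul_eq L (H36.CN1.x0 M) x
    exact ⟨g, hg⟩
  refine ⟨?_, ?_, ?_, ?_, ?_⟩
  · refine ⟨fun {g h} hgh => ?_⟩
    have hker : g⁻¹ * h ∈ (MulAction.toPermHom L (L ⧸ M)).ker := by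
      rw [MonoidHom.mem_ker]
      ext x
      simp only [MulAction.toPermHom_apply, MulAction.toPerm_apply, Equiv.Perm.coe_one, id_eq]
      rw [mul_smul, ← hgh x, inv_smul_smul]
    rcases (inferInstance : (MulAction.toPermHom L (L ⧸ M)).ker.Normal).eq_bot_or_eq_top with
      h1 | h1
    · rw [h1, Subgroup.mem_bot] at hker
      exact inv_mul_eq_one.mp hker
    · exfalso
      apply ha
      have h2 : a ∈ (MulAction.toPermHom L (L ⧸ M)).ker := by rw [h1]; trivial
      rw [MonoidHom.mem_ker] at h2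
      have h3 := congrArg (fun f : Equiv.Perm (L ⧸ M) => f (H36.CN1.x0 M)) h2
      simp only [MulAction.toPermHom_apply, MulAction.toPerm_apply, Equiv.Perm.coe_one,
        id_eq] at h3
      exact H36.CN1.smul_x0.mp h3
  · rw [MulAction.is_two_pretransitive_iff]
    intro x y z w hxy hzw
    obtain ⟨g, hg⟩ := htr x
    obtain ⟨h, hh⟩ := htr z
    have h1 : g⁻¹ • y ≠ H36.CN1.x0 M := by
      intro h; apply hxy; rw [← hg, ← h, smul_inv_smul]
    have h2 : h⁻¹ • w ≠ H36.CN1.x0 M := by
      intro h'; apply hzw; rw [← hh, ← h', smul_inv_smul]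
    obtain ⟨k, hk, hky⟩ := H36.CN1.transitive hd h1 h2
    refine ⟨h * k * g⁻¹, ?_, ?_⟩
    · rw [mul_smul, mul_smul, ← hg, inv_smul_smul, H36.CN1.smul_x0.mpr hk, hh]
    · rw [mul_smul, mul_smul, hky, smul_inv_smul]
  · intro g x y z hxy hyz hxz hx hy' hz
    obtain ⟨h, hh⟩ := htr x
    have e : ∀ w : L ⧸ M, g • w = w → (h⁻¹ * g * h) • (h⁻¹ • w) = h⁻¹ • w := by
      intro w hw
      rw [mul_smul, mul_smul, smul_inv_smul, hw]
    have h1 : h⁻¹ * g * h ∈ M := by
      rw [← H36.CN1.smul_x0]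
      have := e x hx
      rwa [← hh, inv_smul_smul] at this
    have h2 : h⁻¹ • y ≠ H36.CN1.x0 M := by
      intro h'; apply hxy; rw [← hh, ← h', smul_inv_smul]
    have h3 : h⁻¹ • z ≠ H36.CN1.x0 M := by
      intro h'; apply hxz; rw [← hh, ← h', smul_inv_smul]
    have h4 := H36.CN1.fix_three hd h1 h2 h3 (fun h' => hyz (smul_left_cancel _ h')) (e y hy')
      (e z hz)
    have := congrArg (fun x => h * x * h⁻¹) h4
    simpa [mul_assoc] using this
  · have h1 := H36.CN1.card_K hd hy
    have h2 : 1 < Nat.card (H36.CN1.K M (QuotientGroup.mk a : L ⧸ M)) := by rw [h1]; exact hd.one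
    obtain ⟨k, hk⟩ := (Subgroup.one_lt_card_iff_ne_bot _).mp h2 |> Subgroup.ne_bot_iff_exists_ne_one.mp
    refine ⟨k, fun h => hk (Subtype.ext h), H36.CN1.x0 M, QuotientGroup.mk a, hy.symm, ?_, ?_⟩
    · exact H36.CN1.smul_x0.mpr (H36.CN1.mem_K.mp k.2).1
    · exact (H36.CN1.mem_K.mp k.2).2
  · intro N hN htrN
    refine ⟨H36.CN1.x0 M, ?_⟩
    intro hbot
    have hfixN : ∀ n ∈ N, n • H36.CN1.x0 M = H36.CN1.x0 M → n = 1 := by
      intro n hn h
      have h1 : (⟨n, hn⟩ : N) ∈ (⊥ : Subgroup N) := by rw [← hbot]; exact h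
      rw [Subgroup.mem_bot] at h1
      exact congrArg Subtype.val h1
    rcases hN.eq_bot_or_eq_top with h1 | h1
    · obtain ⟨g, hg⟩ := htrN.exists_smul_eq (H36.CN1.x0 M) (QuotientGroup.mk a : L ⧸ M)
      apply hy
      rw [← hg]
      have h2 : (g : L) = 1 := by
        have h3 : N ≤ ⊥ := h1.le
        exact Subgroup.mem_bot.mp (h3 g.2)
      change (g : L) • H36.CN1.x0 M = H36.CN1.x0 M
      rw [h2, one_smul]
    · obtain ⟨t, htM, ht⟩ := exists_involution hd.emb
      have h2 : t = 1 := hfixN t (by rw [h1]; exact Subgroup.mem_top t) (H36.CN1.smul_x0.mpr htM)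
      rw [h2, orderOf_one] at ht
      omega

/-- in a finite non-abelian simple group with nilpotent centralisers, the centralisers of
involutions are 2-groups -/
theorem sep_of_cn [IsSimpleGroup G] (hna : ∃ a b : G, a * b ≠ b * a) (hCN : Cfsg.IsCNGroup G) :
    Lead.CIT.Sep G := by
  by_contra hS
  obtain ⟨S, z, x, h⟩ := exists_conf hCN hS
  have hd := dat hna h
  haveI : Fintype (G ⧸ H z) := Fintype.ofFinite _
  have h1 := Cfsg.Agent.S0346.result (zassenhaus_of_dat (M z) (H z) hd)
  rw [← Nat.card_eq_fintype_card, H36.CN1.card_points hd, Nat.add_sub_cancel_left] at h1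
  obtain ⟨p, k, hp, -, hpk⟩ := h1
  have hp' : p.Prime := hp.nat_prime
  have h2 : 2 ∣ p ^ k := by
    rw [hpk, ← h.z2]; exact Subgroup.orderOf_dvd_natCard _ h.z_mem
  have h3 : p = 2 := ((Nat.prime_dvd_prime_iff_eq Nat.prime_two hp').mp
    (Nat.prime_two.dvd_of_dvd_pow h2)).symm
  have h4 : orderOf x ∣ 2 ^ k := by
    rw [← h3, hpk]; exact Subgroup.orderOf_dvd_natCard _ h.x_mem
  have h5 : orderOf x = 1 := by
    apply Nat.Coprime.eq_one_of_dvd _ h4
    exact Nat.Coprime.pow_right k (Nat.coprime_two_right.mpr h.xo)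
  exact h.x1 (orderOf_eq_one_iff.mp h5)

end H36.CN3
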