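import Mathlib
import Cfsg.Agent.Lib.H36.CITM1
import Cfsg.Agent.Lib.H36.CN3
import Cfsg.Agent.Lib.Lead.CITA6
import Cfsg.Agent.Lib.H44.CITM11
import Cfsg.Agent.Lib.H83.CITM4
import Cfsg.Agent.Lib.H8.SzRec11
import Cfsg.Agent.Lib.H11.Eppo4
import Cfsg.Agent.S0205
import Cfsg.Agent.S0324

/-!
T-CIT: the final form of the classification of simple CIT-groups.
-/
set_option autoImplicit false

namespace H36.CITfin

open Subgroup

universe u

theorem even_card {G : Type u} [Group G] [Finite G] [IsSimpleGroup G]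
    (hna : ∃ a b : G, a * b ≠ b * a) : 2 ∣ Nat.card G := by
  by_contra h
  have hodd : Odd (Nat.card G) := by
    rw [← Nat.not_even_iff_odd, even_iff_two_dvd]; exact h
  haveI := Cfsg.Agent.S0205.result hodd
  obtain ⟨a, b, hab⟩ := hna
  exact hab ((IsSimpleGroup.comm_iff_isSolvable (G := G)).mpr inferInstance a b)

theorem sep_of_cit {G : Type u} [Group G] [Finite G]
    (hCIT : ∀ t : G, orderOf t = 2 → IsPGroup 2 (Subgroup.centralizer ({t} : Set G))) :
    Lead.CIT.Sep G := by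
  intro x t ht hx hxt
  obtain ⟨k, hk⟩ := (IsPGroup.iff_orderOf.mp (hCIT t ht)) ⟨x, mem_centralizer_singleton_iff.mpr hxt⟩
  rw [Subgroup.orderOf_mk] at hk
  rw [hk] at hx
  have : k = 0 := by
    by_contra h0
    exact (Nat.not_even_iff_odd.mpr hx) ((Nat.even_pow.mpr ⟨even_two, h0⟩))
  rw [this, pow_zero, orderOf_eq_one_iff] at hk
  exact hk

theorem cit_of_sep {G : Type u} [Group G] [Finite G] (hS : Lead.CIT.Sep G) (t : G)
    (ht : orderOf t = 2) : IsPGroup 2 (Subgroup.centralizer ({t} : Set G)) :=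
  H36.CITM1.two_of_comm hS ht (fun _ hx => mem_centralizer_singleton_iff.mp hx)

/-- a `Sep` group with abelian Sylow 2-subgroups is TI -/
theorem ti_of_abelian {G : Type u} [Group G] [Finite G] (hS : Lead.CIT.Sep G)
    (hab : ∀ (P : Sylow 2 G), ∀ x ∈ P, ∀ y ∈ P, x * y = y * x) : Lead.CITA.TI G := by
  haveI : Fact (Nat.Prime 2) := ⟨Nat.prime_two⟩
  intro P Q hPQ
  by_contra hne
  have h2 : IsPGroup 2 ((P : Subgroup G) ⊓ Q : Subgroup G) := P.2.to_le inf_le_left
  obtain ⟨t, htPQ, ht⟩ := H36.CITM1.exists_inv h2 hne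
  have hc := cit_of_sep hS t ht
  apply hPQ
  have hP : (P : Subgroup G) ≤ centralizer ({t} : Set G) := fun x hx =>
    mem_centralizer_singleton_iff.mpr (hab P x hx t htPQ.1)
  have hQ : (Q : Subgroup G) ≤ centralizer ({t} : Set G) := fun x hx =>
    mem_centralizer_singleton_iff.mpr (hab Q x hx t htPQ.2)
  have h1 := P.3 hc hP
  have h3 := Q.3 hc hQ
  exact Sylow.ext (h1.symm.trans h3)

theorem three_lt {G : Type u} [Group G] [Finite G] [IsSimpleGroup G]
    (hna : ∃ a b : G, a * b ≠ b * a) {F : Type} [Field F] [Fintype F]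
    (e : G ≃* Matrix.ProjectiveSpecialLinearGroup (Fin 2) F) : 3 < Fintype.card F := by
  by_contra h
  have h1 : 1 < Fintype.card F := Fintype.one_lt_card
  have h2 : Fintype.card F = 2 ∨ Fintype.card F = 3 := by omega
  rcases h2 with h2 | h2
  · exact H11.Eppo.false_of_solvable_card hna (p := 2) (q := 3) (a := 1) (b := 1) Nat.prime_two
      Nat.prime_three (by rw [H11.Eppo.card_psl_two h2 e]; norm_num)
  · exact H11.Eppo.false_of_solvable_card hna (p := 2) (q := 3) (a := 2) (b := 1) Nat.prime_two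
      Nat.prime_three (by rw [H11.Eppo.card_psl_three h2 e]; norm_num)

/-- the classification of simple CIT-groups, strong form -/
theorem classify {G : Type u} [Group G] [Finite G] [IsSimpleGroup G]
    (hna : ∃ a b : G, a * b ≠ b * a) (hS : Lead.CIT.Sep G) :
    (Lead.CITA.TI G ∧ ∃ (F : Type) (_ : Field F) (_ : Fintype F) (n : ℕ), 2 ≤ n ∧
      Fintype.card F = 2 ^ n ∧ Nonempty (G ≃* Matrix.ProjectiveSpecialLinearGroup (Fin 2) F)) ∨
    (Lead.CITA.TI G ∧ Cfsg.Lie.IsoSuzuki G ∧ ∃ (F : Type) (_ : Field F) (_ : Fintype F) (m : ℕ),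
      1 ≤ m ∧ Fintype.card F = 2 ^ (2 * m + 1) ∧ Nonempty (G ≃* Cfsg.Sz F m)) ∨
    (¬ Lead.CITA.TI G ∧ ∃ (F : Type) (_ : Field F) (_ : Fintype F),
      (Fintype.card F = 9 ∨ (7 ≤ Fintype.card F ∧ (Fintype.card F).Prime ∧
        ∃ k : ℕ, Fintype.card F = 2 ^ k + 1 ∨ Fintype.card F + 1 = 2 ^ k)) ∧
      Nonempty (G ≃* Matrix.ProjectiveSpecialLinearGroup (Fin 2) F)) ∨
    (¬ Lead.CITA.TI G ∧ ∃ (F : Type) (_ : Field F) (_ : Fintype F), Fintype.card F = 4 ∧
      Nonempty (G ≃* Matrix.ProjectiveSpecialLinearGroup (Fin 3) F)) := by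
  haveI : Fact (Nat.Prime 2) := ⟨Nat.prime_two⟩
  have h2 := even_card hna
  by_cases hTI : Lead.CITA.TI G
  · obtain ⟨P, Q, hPQ⟩ := H83.CITM4.exists_two_sylow hna h2
    obtain ⟨q, c, hq2, -, hq, hi, hN, -, -⟩ := Lead.CIT3.ti_struct hS hTI ⟨P, Q, hPQ⟩ P
    have hd := H83.CITM4.dat hna hS h2 hTI P hq2 hq hi hN
    have hZ := H83.CITM4.zassenhaus_of_dat _ _ hd
    have hcard := H83.CITM4.card_points hd
    rcases H8.SzRec.classify hZ with ⟨F, _, _, hF, ⟨e⟩⟩ | ⟨h3, F, _, _, m, hm, hF, -, he⟩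
    · left
      refine ⟨hTI, F, inferInstance, inferInstance, ?_⟩
      have h3 := three_lt hna e
      obtain ⟨n, hn⟩ := IsPGroup.iff_card.mp P.2
      have h4 : Fintype.card F = 2 ^ n := by
        have hn' : Nat.card (P : Subgroup G) = 2 ^ n := hn
        omega
      refine ⟨n, ?_, h4, ⟨e⟩⟩
      by_contra hlt
      have h5 : n = 0 ∨ n = 1 := by omega
      rcases h5 with h5 | h5 <;> rw [h5] at h4 <;> omega
    · exact Or.inr (Or.inl ⟨hTI, h3, F, _, _, m, hm, hF, he⟩)
  · rcases Lead.CITA.cit' hna hS h2 with h | h | h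
    · exact absurd h hTI
    · obtain ⟨F, _, _, hodd, ⟨e⟩⟩ := h
      have h3 := three_lt hna e
      have hSF := Lead.CITQ.sep_equiv hS e
      refine Or.inr (Or.inr (Or.inl ⟨hTI, F, inferInstance, inferInstance, ?_, ⟨e⟩⟩))
      rcases H44.CITM11.psl2_arith hodd h3 hSF with h4 | ⟨h4, h5⟩
      · exact Or.inl h4
      · right
        refine ⟨?_, h4, h5⟩
        by_contra hlt
        have h6 : Fintype.card F = 5 := by
          obtain ⟨k, hk⟩ := hodd
          omega
        apply hTI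
        apply ti_of_abelian hS
        intro P x hx y hy
        have h7 : Nat.card G = 60 := by
          have h := H6.SmallIsoA.card_psl2 (F := F)
          rw [h6] at h
          rw [Nat.card_congr e.toEquiv]
          norm_num at h
          omega
        have h8 : Nat.card (P : Subgroup G) = 2 ^ 2 := by
          rw [P.card_eq_multiplicity, h7]
          congr 1
          have h9 : (60 : ℕ) = 2 ^ 2 * 15 := by norm_num
          rw [h9, Nat.factorization_mul (by norm_num) (by norm_num), Finsupp.add_apply,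
            Nat.Prime.factorization_pow Nat.prime_two, Finsupp.single_eq_same,
            Nat.factorization_eq_zero_of_not_dvd (by norm_num)]
        have h10 := IsPGroup.commutative_of_card_eq_prime_sq h8
        exact congrArg Subtype.val (h10 (⟨x, hx⟩ : (P : Subgroup G)) ⟨y, hy⟩)
    · obtain ⟨F, _, _, hF, he⟩ := h
      exact Or.inr (Or.inr (Or.inr ⟨hTI, F, _, _, hF, he⟩))

/-- S0348 -/
theorem cit_list {G : Type u} [Group G] [Finite G] [IsSimpleGroup G]
    (hna : ∃ a b : G, a * b ≠ b * a) (hS : Lead.CIT.Sep G) :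
    (∃ (F : Type) (_ : Field F) (_ : Fintype F),
        (Fintype.card F = 9 ∨ (∃ n : ℕ, Fintype.card F = 2 ^ n) ∨
          ((Fintype.card F).Prime ∧ ∃ k : ℕ, Fintype.card F = 2 ^ k + 1 ∨ Fintype.card F + 1 = 2 ^ k)) ∧
        Nonempty (G ≃* Matrix.ProjectiveSpecialLinearGroup (Fin 2) F)) ∨
    (∃ (F : Type) (_ : Field F) (_ : Fintype F), Fintype.card F = 4 ∧
        Nonempty (G ≃* Matrix.ProjectiveSpecialLinearGroup (Fin 3) F)) ∨
    Cfsg.IsSuzuki G := by
  rcases classify hna hS with ⟨-, F, _, _, n, -, hF, he⟩ | ⟨-, -, F, _, _, m, hm, hF, ⟨e⟩⟩ |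
    ⟨-, F, _, _, hF, he⟩ | ⟨-, h⟩
  · exact Or.inl ⟨F, _, _, Or.inr (Or.inl ⟨n, hF⟩), he⟩
  · refine Or.inr (Or.inr ⟨inferInstance, m, hm, ?_⟩)
    rw [Nat.card_congr e.toEquiv]
    exact Cfsg.Agent.S0324.result hm hF
  · refine Or.inl ⟨F, inferInstance, inferInstance, ?_, he⟩
    rcases hF with hF | ⟨-, h1, h2⟩
    · exact Or.inl hF
    · exact Or.inr (Or.inr ⟨h1, h2⟩)
  · exact Or.inr (Or.inl h)

end H36.CITfin
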