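import Mathlib
import Cfsg.Agent.Lib.Lead.CITBase
import Cfsg.Agent.Lib.Lead.CITQuot
import Cfsg.Agent.Lib.H50.AutPSL2
import Cfsg.Agent.Lib.H50.PSLUniq
import Cfsg.Agent.Lib.H25.SL2Card

/-!
Overgroups `N` (with elements of odd order not commuting with involutions) of `PSL₂(F)`, `|F|` odd.
-/
set_option autoImplicit false
set_option linter.unusedSectionVars false

namespace H36.SepOver

open Subgroup Matrix H50.PSLBasic

universe u v

section general

variable {N : Type u} [Group N] [Finite N] {L : Subgroup N} [L.Normal] {X : Type v} [Group X]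

/-- the action of `N` on `X ≃* L` -/
noncomputable def Phi (e : L ≃* X) : N →* MulAut X :=
  (MulAut.congr e).toMonoidHom.comp (MulAut.conjNormal (H := L))

theorem Phi_apply (e : L ≃* X) (n : N) (y : X) : Phi e n y = e (MulAut.conjNormal n (e.symm y)) := rfl

theorem Phi_coe (e : L ≃* X) (y : X) : Phi e ((e.symm y : L) : N) = MulAut.conj y := by
  ext z
  rw [Phi_apply, MulAut.conj_apply]
  have h : MulAut.conjNormal (((e.symm y : L) : N)) (e.symm z) = e.symm (y * z * y⁻¹) := by
    apply Subtype.ext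
    rw [MulAut.conjNormal_apply]
    simp
  rw [h, MulEquiv.apply_symm_apply]

theorem Phi_inj (e : L ≃* X) (hC : centralizer (L : Set N) = ⊥) : Function.Injective (Phi e) := by
  rw [injective_iff_map_eq_one]
  intro n hn
  have h1 : n ∈ centralizer (L : Set N) := by
    rw [mem_centralizer_iff]
    intro l hl
    have h2 := congrArg (fun f : MulAut X => f (e ⟨l, hl⟩)) hn
    simp only [Phi_apply, MulEquiv.symm_apply_apply, MulAut.one_apply] at h2
    have h3 := congrArg Subtype.val (e.injective h2)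
    rw [MulAut.conjNormal_apply] at h3
    exact (mul_inv_eq_iff_eq_mul.mp h3).symm
  rw [hC, Subgroup.mem_bot] at h1
  exact h1

theorem conj_mem_range (e : L ≃* X) (y : X) : MulAut.conj y ∈ (Phi e : N →* MulAut X).range :=
  ⟨_, Phi_coe e y⟩

theorem mem_L_of_conj (e : L ≃* X) (hC : centralizer (L : Set N) = ⊥) {n : N} {y : X}
    (h : Phi e n = MulAut.conj y) : n ∈ L := by
  rw [← Phi_coe e y] at h
  rw [Phi_inj e hC h]
  exact (e.symm y).2

/-- commuting elements of order two and of odd order in the image -/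
theorem sep_phi (hS : Lead.CIT.Sep N) (e : L ≃* X) (hC : centralizer (L : Set N) = ⊥)
    {α β : MulAut X} (hα : α ∈ (Phi e : N →* MulAut X).range)
    (hβ : β ∈ (Phi e : N →* MulAut X).range) (hα2 : α * α = 1) (hα1 : α ≠ 1)
    {r : ℕ} (hr : Odd r) (hβr : β ^ r = 1) (h : β * α = α * β) : β = 1 := by
  obtain ⟨a, rfl⟩ := hα
  obtain ⟨b, rfl⟩ := hβ
  have hinj := Phi_inj e hC
  have ha : orderOf a = 2 := by
    apply orderOf_eq_prime
    · apply hinj
      rw [map_pow, pow_two, hα2, map_one]
    · rintro rfl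
      exact hα1 (map_one _)
  have hb : Odd (orderOf b) := by
    apply hr.of_dvd_nat
    apply orderOf_dvd_of_pow_eq_one
    apply hinj
    rw [map_pow, hβr, map_one]
  have := hS b a ha hb (by apply hinj; rw [map_mul, map_mul, h])
  rw [this, map_one]

end general

section two

variable {N : Type u} [Group N] [Finite N] {L : Subgroup N} [L.Normal]
  {F : Type v} [Field F] [Fintype F]

theorem psi_one_of_scalar {ι : Type*} [Fintype ι] [DecidableEq ι] {g : GL ι F} {c : F}
    (hc : (g : Matrix ι ι F) = c • (1 : Matrix ι ι F)) : psi g (RingEquiv.refl F) = 1 := by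
  rw [H50.PSLUniq.psi_eq_of_smul (h := 1) (c := c) (by rw [hc]; rfl), psi_one]

theorem psi_mul_refl {ι : Type*} [Fintype ι] [DecidableEq ι] (g h : GL ι F) :
    psi g (RingEquiv.refl F) * psi h (RingEquiv.refl F) = psi (g * h) (RingEquiv.refl F) := by
  rw [psi_mul]
  have h1 : glMap (RingEquiv.refl F) h = h := by
    apply Units.ext
    rw [glMap_coe]
    ext i j; rfl
  rw [h1]
  rfl

theorem isSquare_mul_of_not {a b : F} (ha : ¬ IsSquare a) (hb : ¬ IsSquare b) : IsSquare (a * b) := by
  classical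
  have ha0 : a ≠ 0 := by rintro rfl; exact ha ⟨0, by simp⟩
  have hb0 : b ≠ 0 := by rintro rfl; exact hb ⟨0, by simp⟩
  rw [← quadraticChar_one_iff_isSquare (mul_ne_zero ha0 hb0), map_mul]
  have h1 : quadraticChar F a = -1 := quadraticChar_neg_one_iff_not_isSquare.mpr ha
  have h2 : quadraticChar F b = -1 := quadraticChar_neg_one_iff_not_isSquare.mpr hb
  rw [h1, h2]; norm_num

/-- an odd prime different from the characteristic dividing `|SL₂(F)|` -/
theorem exists_prime (hodd : Odd (Fintype.card F)) (h3 : 3 < Fintype.card F) :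
    ∃ l : ℕ, l.Prime ∧ Odd l ∧ (l : ℕ) ∣ Fintype.card F ^ 2 - 1 := by
  obtain ⟨m, hm⟩ := hodd
  have hm2 : 2 ≤ m := by omega
  have key : Fintype.card F ^ 2 - 1 = 4 * (m * (m + 1)) := by
    rw [hm]
    have : (2 * m + 1) ^ 2 = 4 * (m * (m + 1)) + 1 := by ring
    omega
  rw [key]
  rcases Nat.even_or_odd m with he | ho
  · refine ⟨(m + 1).minFac, Nat.minFac_prime (by omega), ?_, ?_⟩
    · exact Odd.of_dvd_nat he.add_one (Nat.minFac_dvd _)
    · exact ((Nat.minFac_dvd _).trans (Dvd.intro_left _ rfl)).mul_left 4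
  · refine ⟨m.minFac, Nat.minFac_prime (by omega), ?_, ?_⟩
    · exact Odd.of_dvd_nat ho (Nat.minFac_dvd _)
    · exact ((Nat.minFac_dvd _).trans (Dvd.intro _ rfl)).mul_left 4

/-- an element of odd prime order of `SL₂(F)` whose trace is not `±2`. -/
theorem exists_elt (hodd : Odd (Fintype.card F)) (h3 : 3 < Fintype.card F) :
    ∃ (x : SpecialLinearGroup (Fin 2) F) (l : ℕ), Odd l ∧ 1 < l ∧ x ^ l = 1 ∧
      ((x : Matrix (Fin 2) (Fin 2) F) 0 0 + (x : Matrix (Fin 2) (Fin 2) F) 1 1) ^ 2 ≠ 4 := by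
  obtain ⟨l, hl, hlo, hld⟩ := exists_prime hodd h3
  haveI : Fact l.Prime := ⟨hl⟩
  obtain ⟨x, hx⟩ := exists_prime_orderOf_dvd_card' (G := SpecialLinearGroup (Fin 2) F) l (by
    rw [H25.SL2Card.card_SL2]
    exact Dvd.dvd.mul_left hld _)
  refine ⟨x, l, hlo, hl.one_lt, by rw [← hx]; exact pow_orderOf_eq_one x, ?_⟩
  intro htr
  obtain ⟨p, hp⟩ := CharP.exists F
  haveI := hp
  have hpp : p.Prime := CharP.char_is_prime F p
  haveI : Fact p.Prime := ⟨hpp⟩
  have hp2 : Odd p := by
    obtain ⟨n, -, hn⟩ := FiniteField.card F p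
    rw [hn] at hodd
    exact (Nat.odd_pow_iff n.pos.ne').mp hodd
  set a := (x : Matrix (Fin 2) (Fin 2) F) 0 0 with ha
  set b := (x : Matrix (Fin 2) (Fin 2) F) 0 1 with hb
  set c := (x : Matrix (Fin 2) (Fin 2) F) 1 0 with hc
  set d := (x : Matrix (Fin 2) (Fin 2) F) 1 1 with hd
  have hdet : a * d - b * c = 1 := by
    have := Matrix.SpecialLinearGroup.det_coe x
    rwa [Matrix.det_fin_two] at this
  have hx2 : (x : Matrix (Fin 2) (Fin 2) F) = !![a, b; c, d] := by
    ext i j
    fin_cases i <;> fin_cases j <;> rfl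
  obtain ⟨s, hs, hs2⟩ : ∃ s : F, a + d = 2 * s ∧ s * s = 1 := by
    have h1 : (a + d - 2) * (a + d + 2) = 0 := by linear_combination htr
    rcases mul_eq_zero.mp h1 with h | h
    · exact ⟨1, by linear_combination h, by ring⟩
    · exact ⟨-1, by linear_combination h, by ring⟩
  have hsq : ((x : Matrix (Fin 2) (Fin 2) F) - Matrix.scalar (Fin 2) s) ^ 2 = 0 := by
    rw [pow_two, hx2]
    have h1 : Matrix.scalar (Fin 2) s = !![s, 0; 0, s] := by
      ext i j
      fin_cases i <;> fin_cases j <;> simp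
    rw [h1]
    ext i j
    fin_cases i <;> fin_cases j <;> simp [Matrix.mul_apply, Fin.sum_univ_two]
    · linear_combination a * hs - hdet + hs2
    · linear_combination b * hs
    · linear_combination c * hs
    · linear_combination d * hs - hdet + hs2
  have hp2' : 2 ≤ p := hpp.two_le
  have h1 : ((x : Matrix (Fin 2) (Fin 2) F) - Matrix.scalar (Fin 2) s) ^ p = 0 :=
    pow_eq_zero_of_le hp2' hsq
  have hcomm : Commute (x : Matrix (Fin 2) (Fin 2) F) (Matrix.scalar (Fin 2) s) :=
    (Matrix.scalar_commute s (fun r => mul_comm _ _) _).symm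
  rw [sub_pow_char_of_commute _ hcomm, ← map_pow] at h1
  have hsp : s ^ p = s := by
    obtain ⟨k, hk⟩ := hp2
    rw [hk, pow_succ, pow_mul, pow_two, hs2, one_pow, one_mul]
  rw [hsp, sub_eq_zero] at h1
  have h2 : x ^ (p * 2) = 1 := by
    apply Subtype.ext
    rw [Matrix.SpecialLinearGroup.coe_pow, pow_mul, h1, ← map_pow, pow_two, hs2, map_one]
    rfl
  have h3 : l ∣ p * 2 := by rw [← hx]; exact orderOf_dvd_of_pow_eq_one h2
  rcases (hl.dvd_mul).mp h3 with h4 | h4
  · have h5 : l = p := (Nat.prime_dvd_prime_iff_eq hl hpp).mp h4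
    have h6 : p ∣ Fintype.card F ^ 2 := by
      have : p ∣ Fintype.card F := (CharP.cast_eq_zero_iff F p _).mp (FiniteField.cast_card_eq_zero F)
      exact this.trans (dvd_pow_self _ (by norm_num))
    rw [h5] at hld
    have h7 : 1 ≤ Fintype.card F ^ 2 := Nat.one_le_pow _ _ (by omega)
    have h8 := Nat.dvd_sub h6 hld
    have h9 : Fintype.card F ^ 2 - (Fintype.card F ^ 2 - 1) = 1 := by omega
    rw [h9] at h8
    exact hpp.one_lt.ne' (Nat.dvd_one.mp h8)
  · have h5 : l = 2 := (Nat.prime_dvd_prime_iff_eq hl Nat.prime_two).mp h4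
    rw [h5] at hlo
    exact (Nat.not_even_iff_odd.mpr hlo) even_two

/-- a `Sep` overgroup of `PSL₂(F)` meets `PGL₂(F)` in `PSL₂(F)` -/
theorem psi_refl_square (hS : Lead.CIT.Sep N) (hC : centralizer (L : Set N) = ⊥)
    (e : L ≃* ProjectiveSpecialLinearGroup (Fin 2) F) (hodd : Odd (Fintype.card F))
    (h3 : 3 < Fintype.card F) {g : GL (Fin 2) F}
    (hg : psi g (RingEquiv.refl F) ∈ (Phi e : N →* _).range) :
    IsSquare (g : Matrix (Fin 2) (Fin 2) F).det := by
  classical
  by_contra hns
  obtain ⟨x, l, hlo, hl1, hxl, htr⟩ := exists_elt hodd h3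
  have h2F : (2 : F) ≠ 0 := by
    intro h
    obtain ⟨k, hk⟩ := hodd
    have h1 := FiniteField.cast_card_eq_zero F
    rw [hk] at h1
    push_cast at h1
    rw [h, zero_mul, zero_add] at h1
    exact one_ne_zero h1
  set a := (x : Matrix (Fin 2) (Fin 2) F) 0 0 with ha
  set b := (x : Matrix (Fin 2) (Fin 2) F) 0 1 with hb
  set c := (x : Matrix (Fin 2) (Fin 2) F) 1 0 with hc
  set d := (x : Matrix (Fin 2) (Fin 2) F) 1 1 with hd
  have hdet : a * d - b * c = 1 := by
    have := Matrix.SpecialLinearGroup.det_coe x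
    rwa [Matrix.det_fin_two] at this
  have hx2 : (x : Matrix (Fin 2) (Fin 2) F) = !![a, b; c, d] := by
    ext i j
    fin_cases i <;> fin_cases j <;> rfl
  let A : Matrix (Fin 2) (Fin 2) F := !![a - d, 2 * b; 2 * c, d - a]
  have hA : A.det = 4 - (a + d) ^ 2 := by
    rw [Matrix.det_fin_two_of]
    linear_combination (4 : F) * hdet
  have hA0 : A.det ≠ 0 := by
    rw [hA]
    intro h
    exact htr (by linear_combination -h)
  let g₀ : GL (Fin 2) F := GeneralLinearGroup.mkOfDetNeZero A hA0
  have hg₀ : (g₀ : Matrix (Fin 2) (Fin 2) F) = A := rfl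
  have hsq : psi g₀ (RingEquiv.refl F) * psi g₀ (RingEquiv.refl F) = 1 := by
    rw [psi_mul_refl]
    apply psi_one_of_scalar (c := -A.det)
    rw [Units.val_mul, hg₀, Matrix.det_fin_two_of]
    ext i j
    fin_cases i <;> fin_cases j <;> simp [A, Matrix.mul_apply, Fin.sum_univ_two] <;> ring
  have hne : psi g₀ (RingEquiv.refl F) ≠ 1 := by
    intro h
    obtain ⟨-, k, hk⟩ := H50.PSLUniq.psi_eq_one h
    rw [hg₀] at hk
    have h00 := congrFun (congrFun hk 0) 0
    have h11 := congrFun (congrFun hk 1) 1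
    have h01 := congrFun (congrFun hk 0) 1
    simp [A] at h00 h11 h01
    have h4 : a - d = 0 := by
      have : (2 : F) * (a - d) = 0 := by linear_combination h00 - h11
      exact (mul_eq_zero.mp this).resolve_left h2F
    have h5 : b = 0 := by
      rcases h01 with h | h
      · exact absurd h h2F
      · exact h
    apply hA0
    rw [Matrix.det_fin_two_of, h5, h4]
    have : d - a = 0 := by linear_combination -h4
    rw [this]; ring
  have hmem : psi g₀ (RingEquiv.refl F) ∈ (Phi e : N →* _).range := by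
    have key : ∀ h : GL (Fin 2) F, IsSquare (h : Matrix (Fin 2) (Fin 2) F).det →
        psi h (RingEquiv.refl F) ∈ (Phi e : N →* _).range := by
      rintro h ⟨k, hk⟩
      have h1 : psi h (RingEquiv.refl F) ∈ Cfsg.Inn (ProjectiveSpecialLinearGroup (Fin 2) F) := by
        rw [H50.PSLUniq.psi_mem_inn_iff]
        refine ⟨rfl, k, ?_⟩
        rw [hk, Fintype.card_fin, pow_two]
      obtain ⟨y, hy⟩ := h1
      rw [← hy]
      exact conj_mem_range e y
    by_cases hsqA : IsSquare A.det
    · exact key g₀ hsqA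
    · have h1 : psi (g₀ * g) (RingEquiv.refl F) ∈ (Phi e : N →* _).range := by
        apply key
        rw [Units.val_mul, Matrix.det_mul, hg₀]
        exact isSquare_mul_of_not hsqA hns
      rw [← psi_mul_refl] at h1
      have h2 := (Phi e : N →* _).range.mul_mem h1 ((Phi e : N →* _).range.inv_mem hg)
      rwa [mul_inv_cancel_right] at h2
  have hβ : MulAut.conj (QuotientGroup.mk x : ProjectiveSpecialLinearGroup (Fin 2) F) =
      psi (Matrix.SpecialLinearGroup.toGL x) (RingEquiv.refl F) := H50.PSLPure.conj_eq_psi x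
  have hβ1 := sep_phi hS e hC (β := MulAut.conj (QuotientGroup.mk x : ProjectiveSpecialLinearGroup (Fin 2) F))
    hmem (conj_mem_range e _) hsq hne hlo (by
      rw [← map_pow, ← QuotientGroup.mk_pow, hxl]
      exact map_one _) (by
      rw [hβ, psi_mul_refl, psi_mul_refl]
      congr 1
      apply Units.ext
      rw [Units.val_mul, Units.val_mul, hg₀]
      change (x : Matrix (Fin 2) (Fin 2) F) * A = A * (x : Matrix (Fin 2) (Fin 2) F)
      rw [hx2]
      ext i j
      fin_cases i <;> fin_cases j <;> simp [A, Matrix.mul_apply, Fin.sum_univ_two] <;> ring)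
  rw [hβ] at hβ1
  obtain ⟨-, k, hk⟩ := H50.PSLUniq.psi_eq_one hβ1
  have hk' : (x : Matrix (Fin 2) (Fin 2) F) = k • (1 : Matrix (Fin 2) (Fin 2) F) := hk
  have e1 : a = k := by have := congrFun (congrFun hk' 0) 0; simpa using this
  have e2 : d = k := by have := congrFun (congrFun hk' 1) 1; simpa using this
  have e3 : b = 0 := by have := congrFun (congrFun hk' 0) 1; simpa using this
  apply htr
  rw [e1, e2]
  rw [e1, e2, e3] at hdet
  linear_combination 4 * hdet

/-- elements of the overgroup acting as `psi g 1` are in `L` -/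
theorem mem_of_refl (hS : Lead.CIT.Sep N) (hC : centralizer (L : Set N) = ⊥)
    (e : L ≃* ProjectiveSpecialLinearGroup (Fin 2) F) (hodd : Odd (Fintype.card F))
    (h3 : 3 < Fintype.card F) {n : N} {g : GL (Fin 2) F}
    (hg : Phi e n = psi g (RingEquiv.refl F)) : n ∈ L := by
  obtain ⟨k, hk⟩ := psi_refl_square hS hC e hodd h3 (g := g) ⟨n, hg⟩
  have h1 : psi g (RingEquiv.refl F) ∈ Cfsg.Inn (ProjectiveSpecialLinearGroup (Fin 2) F) := by
    rw [H50.PSLUniq.psi_mem_inn_iff]
    refine ⟨rfl, k, ?_⟩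
    rw [hk, Fintype.card_fin, pow_two]
  obtain ⟨y, hy⟩ := h1
  exact mem_L_of_conj e hC (hg.trans hy.symm)

theorem exists_psi (e : L ≃* ProjectiveSpecialLinearGroup (Fin 2) F) (n : N) :
    ∃ (g : GL (Fin 2) F) (σ : F ≃+* F), Phi e n = psi g σ := by
  obtain ⟨p, hp⟩ := CharP.exists F
  haveI := hp
  haveI : Fact p.Prime := ⟨CharP.char_is_prime F p⟩
  obtain ⟨g, σ, h | ⟨h, -⟩⟩ := H50.AutPSL2.aut_psl (p := p) (n := 2) le_rfl (Phi e n)
  · exact ⟨g, σ, h⟩
  · omega

/-- `PSL₂(p)` has no proper `Sep` overgroups -/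
theorem top_of_prime (hS : Lead.CIT.Sep N) (hC : centralizer (L : Set N) = ⊥)
    (e : L ≃* ProjectiveSpecialLinearGroup (Fin 2) F) (hodd : Odd (Fintype.card F))
    (h3 : 3 < Fintype.card F) (hp : (Fintype.card F).Prime) : L = ⊤ := by
  rw [eq_top_iff]
  intro n _
  obtain ⟨g, σ, h⟩ := exists_psi e n
  have hσ : σ = RingEquiv.refl F := by
    obtain ⟨p, hpc⟩ := CharP.exists F
    haveI := hpc
    have hpp : p.Prime := CharP.char_is_prime F p
    haveI : Fact p.Prime := ⟨hpp⟩
    have hcard : Fintype.card F = p := by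
      obtain ⟨k, -, hk⟩ := FiniteField.card F p
      have h1 : p ∣ Fintype.card F := by rw [hk]; exact dvd_pow_self p k.pos.ne'
      exact ((Nat.prime_dvd_prime_iff_eq hpp hp).mp h1).symm
    have hbij : Function.Bijective (ZMod.castHom dvd_rfl F : ZMod p →+* F) := by
      rw [Fintype.bijective_iff_injective_and_card]
      refine ⟨ZMod.castHom_injective F, ?_⟩
      rw [ZMod.card, hcard]
    ext x
    obtain ⟨y, rfl⟩ := hbij.2 x
    have : (σ : F →+* F).comp (ZMod.castHom dvd_rfl F : ZMod p →+* F) =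
        (ZMod.castHom dvd_rfl F : ZMod p →+* F) := Subsingleton.elim _ _
    exact congrArg (fun f : ZMod p →+* F => f y) this
  rw [hσ] at h
  exact mem_of_refl hS hC e hodd h3 h

/-- `PSL₂(9)` has index at most two in its `Sep` overgroups -/
theorem index_of_nine (hS : Lead.CIT.Sep N) (hC : centralizer (L : Set N) = ⊥)
    (e : L ≃* ProjectiveSpecialLinearGroup (Fin 2) F) (h9 : Fintype.card F = 9) :
    L = ⊤ ∨ L.index = 2 := by
  have hodd : Odd (Fintype.card F) := by rw [h9]; decide
  have h3 : 3 < Fintype.card F := by omega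
  by_cases htop : L = ⊤
  · exact Or.inl htop
  right
  -- field automorphisms
  haveI hc3 : CharP F 3 := by
    obtain ⟨p, hpc⟩ := CharP.exists F
    have hpp : p.Prime := CharP.char_is_prime F p
    have h1 := (CharP.cast_eq_zero_iff F p _).mp (FiniteField.cast_card_eq_zero F)
    rw [h9] at h1
    have h2 : p ∣ 3 ^ 2 := by norm_num; exact h1
    have h4 := (Nat.prime_dvd_prime_iff_eq hpp Nat.prime_three).mp (hpp.dvd_of_dvd_pow h2)
    rwa [h4] at hpc
  haveI : Fact (Nat.Prime 3) := ⟨Nat.prime_three⟩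
  have hσ : ∀ σ τ : F ≃+* F, σ ≠ RingEquiv.refl F → τ ≠ RingEquiv.refl F →
      τ.trans σ = RingEquiv.refl F := by
    intro σ τ h1 h2
    letI : Algebra (ZMod 3) F := ZMod.algebra F 3
    have hf : ∀ (ρ : F ≃+* F) (r : ZMod 3), ρ (algebraMap (ZMod 3) F r) = algebraMap (ZMod 3) F r := by
      intro ρ r
      have : (ρ : F →+* F).comp (algebraMap (ZMod 3) F) = algebraMap (ZMod 3) F :=
        Subsingleton.elim _ _
      exact congrArg (fun f : ZMod 3 →+* F => f r) this
    have hfin : Module.finrank (ZMod 3) F = 2 := by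
      have h4 := Module.card_eq_pow_finrank (K := ZMod 3) (V := F)
      rw [h9, ZMod.card] at h4
      have h5 : (3 : ℕ) ^ 2 = 3 ^ Module.finrank (ZMod 3) F := by rw [← h4]; norm_num
      exact (Nat.pow_right_injective (by norm_num : 2 ≤ 3) h5).symm
    have hcard : Nat.card (F ≃ₐ[ZMod 3] F) = 2 := by
      rw [IsGalois.card_aut_eq_finrank, hfin]
    let s := AlgEquiv.ofRingEquiv (hf σ)
    let t := AlgEquiv.ofRingEquiv (hf τ)
    have hs1 : s ≠ 1 := by
      intro h
      apply h1
      ext x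
      exact congrArg (fun f : F ≃ₐ[ZMod 3] F => f x) h
    have ht1 : t ≠ 1 := by
      intro h
      apply h2
      ext x
      exact congrArg (fun f : F ≃ₐ[ZMod 3] F => f x) h
    have hst : s * t = 1 := by
      rw [Nat.card_eq_two_iff] at hcard
      obtain ⟨u, v, huv, huniv⟩ := hcard
      have hall : ∀ w : F ≃ₐ[ZMod 3] F, w = u ∨ w = v := by
        intro w
        have : w ∈ ({u, v} : Set _) := huniv ▸ Set.mem_univ w
        simpa using this
      have hsteq : s = t := by
        rcases hall s with a1 | a1 <;> rcases hall t with a2 | a2 <;> rcases hall 1 with a3 | a3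
        all_goals first
          | exact a1.trans a2.symm
          | exact absurd (a1.trans a3.symm) hs1
          | exact absurd (a2.trans a3.symm) ht1
      rcases hall (s * t) with a1 | a1 <;> rcases hall s with a2 | a2 <;> rcases hall 1 with a3 | a3
      all_goals first
        | exact a1.trans a3.symm
        | exact absurd (a2.trans a3.symm) hs1
        | (exfalso; apply ht1; have := a1.trans a2.symm; exact mul_eq_left.mp this)
    ext x
    exact congrArg (fun f : F ≃ₐ[ZMod 3] F => f x) hst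
  rw [Subgroup.index_eq_two_iff]
  obtain ⟨a, ha⟩ : ∃ a : N, a ∉ L := by
    by_contra hcon
    push Not at hcon
    exact htop (eq_top_iff.mpr fun x _ => hcon x)
  have key : ∀ x y : N, x ∉ L → y ∉ L → x * y ∈ L := by
    intro x y hx hy
    obtain ⟨g, σ, h⟩ := exists_psi e x
    obtain ⟨g', σ', h'⟩ := exists_psi e y
    have h1 : σ ≠ RingEquiv.refl F := by
      rintro rfl; exact hx (mem_of_refl hS hC e hodd h3 h)
    have h2 : σ' ≠ RingEquiv.refl F := by
      rintro rfl; exact hy (mem_of_refl hS hC e hodd h3 h')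
    have h4 := hσ σ σ' h1 h2
    apply mem_of_refl hS hC e hodd h3 (g := g * glMap σ g')
    rw [map_mul, h, h', psi_mul, h4]
  refine ⟨a, fun b => ?_⟩
  by_cases hb : b ∈ L
  · right
    refine ⟨hb, fun h => ha ?_⟩
    have := L.mul_mem (L.inv_mem hb) h
    rwa [inv_mul_cancel_left] at this
  · left
    exact ⟨key b a hb ha, hb⟩

end two

end H36.SepOver
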