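import Mathlib
import Cfsg.Agent.Lib.H36.SepOver1

/-!
`PSL₃(4)` has no proper overgroups in which elements of odd order do not commute with involutions.
-/
set_option autoImplicit false
set_option linter.unusedSectionVars false

namespace H36.SepOver

open Subgroup Matrix H50.PSLBasic

universe u v

section three

variable {N : Type u} [Group N] [Finite N] {L : Subgroup N} [L.Normal]
  {F : Type v} [Field F] [Fintype F]

theorem two_eq_zero (h4 : Fintype.card F = 4) : (2 : F) = 0 := by
  have h1 := FiniteField.cast_card_eq_zero F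
  rw [h4] at h1
  push_cast at h1
  have h2 : (2 : F) * 2 = 0 := by linear_combination h1
  rcases mul_eq_zero.mp h2 with h | h <;> exact h

theorem pow_three (h4 : Fintype.card F = 4) {d : F} (hd : d ≠ 0) : d ^ 3 = 1 := by
  have := FiniteField.pow_card_sub_one_eq_one d hd
  rwa [h4] at this

theorem quad (h4 : Fintype.card F = 4) {d : F} (hd : d ≠ 0) (hd1 : d ≠ 1) : d ^ 2 + d + 1 = 0 := by
  have h1 := pow_three h4 hd
  have h2 : (d - 1) * (d ^ 2 + d + 1) = 0 := by linear_combination h1
  exact (mul_eq_zero.mp h2).resolve_left (sub_ne_zero.mpr hd1)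

theorem exists_omega (h4 : Fintype.card F = 4) : ∃ w : F, w ≠ 0 ∧ w ≠ 1 := by
  classical
  by_contra hcon
  push Not at hcon
  have h1 : (Finset.univ : Finset F) ⊆ {0, 1} := by
    intro x _
    by_cases hx : x = 0
    · simp [hx]
    · simp [hcon x hx]
  have h2 := Finset.card_le_card h1
  rw [Finset.card_univ, h4] at h2
  have h3 : ({0, 1} : Finset F).card ≤ 2 := Finset.card_le_two
  omega

theorem frob (h4 : Fintype.card F = 4) {σ : F ≃+* F} (hσ : σ ≠ RingEquiv.refl F) (x : F) :
    σ x = x ^ 2 := by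
  have h2 := two_eq_zero h4
  have key : ∀ x : F, x ≠ 0 → x ≠ 1 → σ x = x ∨ σ x = x ^ 2 := by
    intro x hx hx1
    have h5 := quad h4 hx hx1
    have h6 : (σ x) ^ 2 + σ x + 1 = 0 := by
      have := congrArg σ h5
      simpa using this
    have h7 : (σ x - x) * (σ x - x ^ 2) = 0 := by
      linear_combination h6 - (σ x) * h5 - x * h2 * 0 + (x - 1) * h5
    rcases mul_eq_zero.mp h7 with h | h
    · exact Or.inl (sub_eq_zero.mp h)
    · exact Or.inr (sub_eq_zero.mp h)
  by_cases hx : x = 0
  · rw [hx]; simp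
  by_cases hx1 : x = 1
  · rw [hx1]; simp
  rcases key x hx hx1 with h | h
  · exfalso
    apply hσ
    ext y
    by_cases hy : y = 0
    · rw [hy]; simp
    by_cases hy1 : y = 1
    · rw [hy1]; simp
    -- `y = x` or `y = x + 1`
    have h5 := quad h4 hx hx1
    have h6 := quad h4 hy hy1
    have h7 : (y - x) * (y + x + 1) = 0 := by linear_combination h6 - h5
    rcases mul_eq_zero.mp h7 with h8 | h8
    · rw [sub_eq_zero.mp h8]; exact h
    · have h9 : y = -x - 1 := by linear_combination h8
      rw [h9, map_sub, map_neg, h, map_one]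
      rfl
  · exact h

theorem glInvTr_eq {ι : Type*} [Fintype ι] [DecidableEq ι] {g k : GL ι F}
    (hk : (k : Matrix ι ι F).transpose * (g : Matrix ι ι F) = 1) : glInvTr g = k := by
  apply Units.ext
  rw [glInvTr_coe]
  have h1 : ((g⁻¹ : GL ι F) : Matrix ι ι F) = (k : Matrix ι ι F).transpose := by
    have h2 : (k : Matrix ι ι F).transpose * (g : Matrix ι ι F) * ((g⁻¹ : GL ι F) : Matrix ι ι F) =
        ((g⁻¹ : GL ι F) : Matrix ι ι F) := by rw [hk, Matrix.one_mul]
    rw [Matrix.mul_assoc, ← Units.val_mul, mul_inv_cancel, Units.val_one, Matrix.mul_one] at h2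
    exact h2.symm
  rw [h1, Matrix.transpose_transpose]

theorem inner_three (h4 : Fintype.card F = 4) {g : GL (Fin 3) F}
    (hd : (g : Matrix (Fin 3) (Fin 3) F).det = 1) :
    ∃ y, MulAut.conj y = psi g (RingEquiv.refl F) := by
  have h1 : psi g (RingEquiv.refl F) ∈ Cfsg.Inn (ProjectiveSpecialLinearGroup (Fin 3) F) := by
    rw [H50.PSLUniq.psi_mem_inn_iff]
    exact ⟨rfl, 1, by rw [hd, one_pow]⟩
  exact h1

theorem glMap_refl {ι : Type*} [Fintype ι] [DecidableEq ι] (h : GL ι F) :
    glMap (RingEquiv.refl F) h = h := by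
  apply Units.ext
  rw [glMap_coe]
  ext i j; rfl

/-- left multiplication of `psi g σ` by an inner automorphism -/
theorem shift (e : L ≃* ProjectiveSpecialLinearGroup (Fin 3) F) (h4 : Fintype.card F = 4)
    {g g' : GL (Fin 3) F} {γ : MulAut (ProjectiveSpecialLinearGroup (Fin 3) F)} {σ : F ≃+* F}
    (hg : psi g σ * γ ∈ (Phi e : N →* _).range)
    (hd : (g' : Matrix (Fin 3) (Fin 3) F).det = (g : Matrix (Fin 3) (Fin 3) F).det) :
    psi g' σ * γ ∈ (Phi e : N →* _).range := by
  have h1 : ((g' * g⁻¹ : GL (Fin 3) F) : Matrix (Fin 3) (Fin 3) F).det = 1 := by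
    rw [Units.val_mul, Matrix.det_mul, hd, ← Matrix.det_mul, ← Units.val_mul, mul_inv_cancel,
      Units.val_one, Matrix.det_one]
  obtain ⟨y, hy⟩ := inner_three h4 h1
  have h2 := (Phi e : N →* _).range.mul_mem (conj_mem_range e y) hg
  rw [hy, ← mul_assoc, psi_mul, glMap_refl, inv_mul_cancel_right] at h2
  exact h2

/-- no proper diagonal automorphisms -/
theorem det_eq_one (hS : Lead.CIT.Sep N) (hC : centralizer (L : Set N) = ⊥)
    (e : L ≃* ProjectiveSpecialLinearGroup (Fin 3) F) (h4 : Fintype.card F = 4)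
    {g : GL (Fin 3) F} (hg : psi g (RingEquiv.refl F) ∈ (Phi e : N →* _).range) :
    (g : Matrix (Fin 3) (Fin 3) F).det = 1 := by
  by_contra hd1
  set d := (g : Matrix (Fin 3) (Fin 3) F).det with hd
  have hd0 : d ≠ 0 := by
    rw [hd]; exact ((Matrix.isUnit_iff_isUnit_det _).mp g.isUnit).ne_zero
  have h2 := two_eq_zero h4
  have hd3 := pow_three h4 hd0
  let B : Matrix (Fin 3) (Fin 3) F := !![1, 0, 0; 0, 1, 0; 0, 0, d]
  have hB : B.det = d := by simp [B, Matrix.det_fin_three]
  let b : GL (Fin 3) F := GeneralLinearGroup.mkOfDetNeZero B (by rw [hB]; exact hd0)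
  have hb : (b : Matrix (Fin 3) (Fin 3) F) = B := rfl
  have hbr : psi b (RingEquiv.refl F) ∈ (Phi e : N →* _).range := by
    have := shift e h4 (g' := b) (γ := 1) (by rw [mul_one]; exact hg) (by rw [hb, hB])
    rwa [mul_one] at this
  let T : Matrix (Fin 3) (Fin 3) F := !![1, 1, 0; 0, 1, 0; 0, 0, 1]
  have hT : T.det = 1 := by simp [T, Matrix.det_fin_three]
  let t : GL (Fin 3) F := GeneralLinearGroup.mkOfDetNeZero T (by rw [hT]; exact one_ne_zero)
  have ht : (t : Matrix (Fin 3) (Fin 3) F) = T := rfl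
  obtain ⟨y, hy⟩ := inner_three h4 (g := t) (by rw [ht, hT])
  have hTT : T * T = 1 := by
    ext i j
    fin_cases i <;> fin_cases j <;> simp [T, Matrix.mul_apply, Fin.sum_univ_three]
    · linear_combination h2
  have h1 := sep_phi hS e hC (α := psi t (RingEquiv.refl F)) (β := psi b (RingEquiv.refl F))
    (by rw [← hy]; exact conj_mem_range e y) hbr
    (by
      rw [psi_mul_refl]
      apply psi_one_of_scalar (c := 1)
      rw [Units.val_mul, ht, hTT, one_smul])
    (by
      intro h
      obtain ⟨-, c, hc⟩ := H50.PSLUniq.psi_eq_one h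
      have := congrFun (congrFun hc 0) 1
      simp [ht, T] at this) (r := 3) (by decide)
    (by
      rw [pow_succ, pow_two, psi_mul_refl, psi_mul_refl]
      apply psi_one_of_scalar (c := 1)
      rw [Units.val_mul, Units.val_mul, hb, one_smul]
      ext i j
      fin_cases i <;> fin_cases j <;> simp [B, Matrix.mul_apply, Fin.sum_univ_three]
      · linear_combination hd3)
    (by
      rw [psi_mul_refl, psi_mul_refl]
      congr 1
      apply Units.ext
      rw [Units.val_mul, Units.val_mul, ht, hb]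
      ext i j
      fin_cases i <;> fin_cases j <;> simp [B, T, Matrix.mul_apply, Fin.sum_univ_three])
  obtain ⟨-, c, hc⟩ := H50.PSLUniq.psi_eq_one h1
  have e1 := congrFun (congrFun hc 0) 0
  have e2 := congrFun (congrFun hc 2) 2
  simp [hb, B] at e1 e2
  exact hd1 (e2.trans e1.symm)

theorem no_field (hS : Lead.CIT.Sep N) (hC : centralizer (L : Set N) = ⊥)
    (e : L ≃* ProjectiveSpecialLinearGroup (Fin 3) F) (h4 : Fintype.card F = 4)
    {g : GL (Fin 3) F} {σ : F ≃+* F} (hg : psi g σ ∈ (Phi e : N →* _).range) :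
    σ = RingEquiv.refl F := by
  by_contra hσ
  have hfrob := frob h4 hσ
  set d := (g : Matrix (Fin 3) (Fin 3) F).det with hd
  have hd0 : d ≠ 0 := by
    rw [hd]; exact ((Matrix.isUnit_iff_isUnit_det _).mp g.isUnit).ne_zero
  have h2 := two_eq_zero h4
  have hd3 := pow_three h4 hd0
  let B : Matrix (Fin 3) (Fin 3) F := !![1, 0, 0; 0, 1, 0; 0, 0, d]
  have hB : B.det = d := by simp [B, Matrix.det_fin_three]
  let b : GL (Fin 3) F := GeneralLinearGroup.mkOfDetNeZero B (by rw [hB]; exact hd0)
  have hb : (b : Matrix (Fin 3) (Fin 3) F) = B := rfl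
  have hbr : psi b σ ∈ (Phi e : N →* _).range := by
    have := shift e h4 (g' := b) (γ := 1) (by rw [mul_one]; exact hg) (by rw [hb, hB])
    rwa [mul_one] at this
  let T : Matrix (Fin 3) (Fin 3) F := !![0, 1, 0; 1, 1, 0; 0, 0, 1]
  have hT : T.det = 1 := by
    simp [T, Matrix.det_fin_three]
    linear_combination -h2
  let t : GL (Fin 3) F := GeneralLinearGroup.mkOfDetNeZero T (by rw [hT]; exact one_ne_zero)
  have ht : (t : Matrix (Fin 3) (Fin 3) F) = T := rfl
  obtain ⟨y, hy⟩ := inner_three h4 (g := t) (by rw [ht, hT])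
  have hσσ : σ.trans σ = RingEquiv.refl F := by
    ext x
    simp only [RingEquiv.trans_apply, RingEquiv.refl_apply]
    by_cases hx : x = 0
    · rw [hx]; simp
    · rw [hfrob, hfrob]
      have := pow_three h4 hx
      linear_combination x * this
  have h1 := sep_phi hS e hC (α := psi b σ) (β := psi t (RingEquiv.refl F)) hbr
    (by rw [← hy]; exact conj_mem_range e y)
    (by
      rw [psi_mul, hσσ]
      apply psi_one_of_scalar (c := 1)
      rw [Units.val_mul, glMap_coe, hb, one_smul]
      ext i j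
      fin_cases i <;> fin_cases j <;> simp [B, Matrix.mul_apply, Fin.sum_univ_three, Matrix.map_apply]
      · rw [hfrob]; linear_combination hd3)
    (by
      intro h
      obtain ⟨h, -⟩ := H50.PSLUniq.psi_eq_one h
      exact hσ h) (r := 3) (by decide)
    (by
      rw [pow_succ, pow_two, psi_mul_refl, psi_mul_refl]
      apply psi_one_of_scalar (c := 1)
      rw [Units.val_mul, Units.val_mul, ht, one_smul]
      ext i j
      fin_cases i <;> fin_cases j <;> simp [T, Matrix.mul_apply, Fin.sum_univ_three]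
      · linear_combination h2
      · linear_combination h2
      · linear_combination h2)
    (by
      rw [psi_mul, psi_mul, glMap_refl]
      congr 1
      apply Units.ext
      rw [Units.val_mul, Units.val_mul, glMap_coe, ht, hb]
      ext i j
      fin_cases i <;> fin_cases j <;> simp [B, T, Matrix.mul_apply, Fin.sum_univ_three, Matrix.map_apply])
  obtain ⟨-, c, hc⟩ := H50.PSLUniq.psi_eq_one h1
  have e1 := congrFun (congrFun hc 0) 1
  simp [ht, T] at e1

theorem no_graph (hS : Lead.CIT.Sep N) (hC : centralizer (L : Set N) = ⊥)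
    (e : L ≃* ProjectiveSpecialLinearGroup (Fin 3) F) (h4 : Fintype.card F = 4)
    {g : GL (Fin 3) F} (hg : psi g (RingEquiv.refl F) * iota ∈ (Phi e : N →* _).range) : False := by
  set d := (g : Matrix (Fin 3) (Fin 3) F).det with hd
  have hd0 : d ≠ 0 := by
    rw [hd]; exact ((Matrix.isUnit_iff_isUnit_det _).mp g.isUnit).ne_zero
  have h2 := two_eq_zero h4
  have hd3 := pow_three h4 hd0
  obtain ⟨w, hw0, hw1⟩ := exists_omega h4
  have hw := quad h4 hw0 hw1
  have hw3 := pow_three h4 hw0
  let B : Matrix (Fin 3) (Fin 3) F := !![0, 1, 0; 1, 0, 0; 0, 0, d]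
  have hB : B.det = d := by
    simp [B, Matrix.det_fin_three]
    linear_combination -d * h2
  let b : GL (Fin 3) F := GeneralLinearGroup.mkOfDetNeZero B (by rw [hB]; exact hd0)
  have hb : (b : Matrix (Fin 3) (Fin 3) F) = B := rfl
  have hbr : psi b (RingEquiv.refl F) * iota ∈ (Phi e : N →* _).range :=
    shift e h4 (g' := b) hg (by rw [hb, hB])
  let T : Matrix (Fin 3) (Fin 3) F := !![w, 0, 0; 0, w ^ 2, 0; 0, 0, 1]
  have hT : T.det = 1 := by
    simp [T, Matrix.det_fin_three]
    linear_combination hw3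
  let t : GL (Fin 3) F := GeneralLinearGroup.mkOfDetNeZero T (by rw [hT]; exact one_ne_zero)
  have ht : (t : Matrix (Fin 3) (Fin 3) F) = T := rfl
  obtain ⟨y, hy⟩ := inner_three h4 (g := t) (by rw [ht, hT])
  let T' : Matrix (Fin 3) (Fin 3) F := !![w ^ 2, 0, 0; 0, w, 0; 0, 0, 1]
  have hT' : T'.det = 1 := by
    simp [T', Matrix.det_fin_three]
    linear_combination hw3
  let t' : GL (Fin 3) F := GeneralLinearGroup.mkOfDetNeZero T' (by rw [hT']; exact one_ne_zero)
  have ht' : (t' : Matrix (Fin 3) (Fin 3) F) = T' := rfl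
  have htt' : glInvTr t = t' := by
    apply glInvTr_eq
    rw [ht, ht']
    ext i j
    fin_cases i <;> fin_cases j <;> simp [T, T', Matrix.mul_apply, Fin.sum_univ_three]
    · linear_combination hw3
    · linear_combination hw3
  have hbb : b * glInvTr b = 1 := by
    have h5 : glInvTr b = b⁻¹ := by
      apply Units.ext
      rw [glInvTr_coe]
      have h6 : (b : Matrix (Fin 3) (Fin 3) F).transpose = b := by
        rw [hb]
        ext i j
        fin_cases i <;> fin_cases j <;> simp [B]
      have h7 : (((b⁻¹ : GL (Fin 3) F) : Matrix (Fin 3) (Fin 3) F)).transpose *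
          (b : Matrix (Fin 3) (Fin 3) F) = 1 := by
        conv_lhs => rw [← h6]
        rw [← Matrix.transpose_mul, ← Units.val_mul, mul_inv_cancel, Units.val_one,
          Matrix.transpose_one]
      have h8 := congrArg (fun A => A * ((b⁻¹ : GL (Fin 3) F) : Matrix (Fin 3) (Fin 3) F)) h7
      simp only [Matrix.mul_assoc, ← Units.val_mul, mul_inv_cancel, Units.val_one, Matrix.mul_one,
        Matrix.one_mul] at h8
      exact h8
    rw [h5, mul_inv_cancel]
  have h1 := sep_phi hS e hC (α := psi b (RingEquiv.refl F) * iota) (β := psi t (RingEquiv.refl F))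
    hbr (by rw [← hy]; exact conj_mem_range e y)
    (by
      rw [mul_assoc, ← mul_assoc iota, iota_mul_psi, mul_assoc (psi _ _) iota, iota_mul_self, mul_one,
        psi_mul_refl, hbb, psi_one])
    (by
      intro h
      apply H50.PSLUniq.psi_ne_psi_iota (by decide) (1 : GL (Fin 3) F) b (RingEquiv.refl F)
        (RingEquiv.refl F)
      rw [h, psi_one]) (r := 3) (by decide)
    (by
      rw [pow_succ, pow_two, psi_mul_refl, psi_mul_refl]
      apply psi_one_of_scalar (c := 1)
      rw [Units.val_mul, Units.val_mul, ht, one_smul]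
      ext i j
      fin_cases i <;> fin_cases j <;> simp [T, Matrix.mul_apply, Fin.sum_univ_three]
      · linear_combination hw3
      · linear_combination (w ^ 3 + 1) * hw3)
    (by
      rw [← mul_assoc, psi_mul_refl, mul_assoc, iota_mul_psi, htt', ← mul_assoc, psi_mul_refl]
      congr 2
      apply Units.ext
      rw [Units.val_mul, Units.val_mul, ht, ht', hb]
      ext i j
      fin_cases i <;> fin_cases j <;> simp [B, T, T', Matrix.mul_apply, Fin.sum_univ_three])
  obtain ⟨-, c, hc⟩ := H50.PSLUniq.psi_eq_one h1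
  have e1 := congrFun (congrFun hc 0) 0
  have e2 := congrFun (congrFun hc 2) 2
  simp [ht, T] at e1 e2
  exact hw1 (e1.trans e2.symm)

theorem no_graph_field (hS : Lead.CIT.Sep N) (hC : centralizer (L : Set N) = ⊥)
    (e : L ≃* ProjectiveSpecialLinearGroup (Fin 3) F) (h4 : Fintype.card F = 4)
    {g : GL (Fin 3) F} {σ : F ≃+* F} (hσ : σ ≠ RingEquiv.refl F)
    (hg : psi g σ * iota ∈ (Phi e : N →* _).range) : False := by
  have hfrob := frob h4 hσ
  have h2 := two_eq_zero h4
  have hσσ : σ.trans σ = RingEquiv.refl F := by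
    ext x
    simp only [RingEquiv.trans_apply, RingEquiv.refl_apply]
    by_cases hx : x = 0
    · rw [hx]; simp
    · rw [hfrob, hfrob]
      have := pow_three h4 hx
      linear_combination x * this
  have hsq : (psi g σ * iota) * (psi g σ * iota) = psi (g * glMap σ (glInvTr g)) (RingEquiv.refl F) := by
    rw [mul_assoc, ← mul_assoc iota, iota_mul_psi, mul_assoc (psi _ _) iota, iota_mul_self, mul_one,
      psi_mul, hσσ]
  set d := (g : Matrix (Fin 3) (Fin 3) F).det with hd
  have hd0 : d ≠ 0 := by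
    rw [hd]; exact ((Matrix.isUnit_iff_isUnit_det _).mp g.isUnit).ne_zero
  have hd3 := pow_three h4 hd0
  have hd1 : d = 1 := by
    have h5 := (Phi e : N →* _).range.mul_mem hg hg
    rw [hsq] at h5
    have h6 := det_eq_one hS hC e h4 h5
    rw [Units.val_mul, Matrix.det_mul, glMap_coe, glInvTr_coe] at h6
    have h7 : (Matrix.map (((g⁻¹ : GL (Fin 3) F) : Matrix (Fin 3) (Fin 3) F)).transpose σ).det =
        σ (((g⁻¹ : GL (Fin 3) F) : Matrix (Fin 3) (Fin 3) F)).det := by
      rw [← Matrix.det_transpose ((g⁻¹ : GL (Fin 3) F) : Matrix (Fin 3) (Fin 3) F)]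
      exact (RingHom.map_det (σ : F →+* F) _).symm
    have h8 : (((g⁻¹ : GL (Fin 3) F) : Matrix (Fin 3) (Fin 3) F)).det * d = 1 := by
      rw [hd, ← Matrix.det_mul, ← Units.val_mul, inv_mul_cancel, Units.val_one, Matrix.det_one]
    rw [h7, hfrob] at h6
    set k := (((g⁻¹ : GL (Fin 3) F) : Matrix (Fin 3) (Fin 3) F)).det with hk
    -- d * k^2 = 1, k * d = 1
    have h9 : k = 1 := by
      have : d * k ^ 2 = k := by linear_combination k * h8
      rw [this] at h6; exact h6
    rw [h9, one_mul] at h8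
    exact h8
  have hbr : psi (1 : GL (Fin 3) F) σ * iota ∈ (Phi e : N →* _).range :=
    shift e h4 (g' := 1) hg (by rw [Units.val_one, Matrix.det_one, ← hd, hd1])
  let T : Matrix (Fin 3) (Fin 3) F := !![0, 1, 0; 0, 0, 1; 1, 0, 0]
  have hT : T.det = 1 := by simp [T, Matrix.det_fin_three]
  let t : GL (Fin 3) F := GeneralLinearGroup.mkOfDetNeZero T (by rw [hT]; exact one_ne_zero)
  have ht : (t : Matrix (Fin 3) (Fin 3) F) = T := rfl
  obtain ⟨y, hy⟩ := inner_three h4 (g := t) (by rw [ht, hT])
  have htt' : glInvTr t = t := by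
    apply glInvTr_eq
    rw [ht]
    ext i j
    fin_cases i <;> fin_cases j <;> simp [T, Matrix.mul_apply, Fin.sum_univ_three]
  have htσ : glMap σ t = t := by
    apply Units.ext
    rw [glMap_coe, ht]
    ext i j
    fin_cases i <;> fin_cases j <;> simp [T]
  have h1 := sep_phi hS e hC (α := psi (1 : GL (Fin 3) F) σ * iota) (β := psi t (RingEquiv.refl F))
    hbr (by rw [← hy]; exact conj_mem_range e y)
    (by
      rw [mul_assoc, ← mul_assoc iota, iota_mul_psi, mul_assoc (psi _ _) iota, iota_mul_self, mul_one,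
        psi_mul, hσσ, map_one, map_one, mul_one, psi_one])
    (by
      intro h
      apply H50.PSLUniq.psi_ne_psi_iota (by decide) (1 : GL (Fin 3) F) 1 (RingEquiv.refl F) σ
      rw [h, psi_one]) (r := 3) (by decide)
    (by
      rw [pow_succ, pow_two, psi_mul_refl, psi_mul_refl]
      apply psi_one_of_scalar (c := 1)
      rw [Units.val_mul, Units.val_mul, ht, one_smul]
      ext i j
      fin_cases i <;> fin_cases j <;> simp [T, Matrix.mul_apply, Fin.sum_univ_three])
    (by
      rw [← mul_assoc, psi_mul, glMap_refl, mul_assoc, iota_mul_psi, htt', ← mul_assoc, psi_mul,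
        htσ, mul_one, one_mul]
      rfl)
  obtain ⟨-, c, hc⟩ := H50.PSLUniq.psi_eq_one h1
  have e1 := congrFun (congrFun hc 0) 1
  simp [ht, T] at e1

/-- `PSL₃(4)` has no proper `Sep` overgroups -/
theorem top_of_psl3 (hS : Lead.CIT.Sep N) (hC : centralizer (L : Set N) = ⊥)
    (e : L ≃* ProjectiveSpecialLinearGroup (Fin 3) F) (h4 : Fintype.card F = 4) : L = ⊤ := by
  rw [eq_top_iff]
  intro n _
  have hex : ∃ (g : GL (Fin 3) F) (σ : F ≃+* F), Phi e n = psi g σ ∨ Phi e n = psi g σ * iota := by
    obtain ⟨p, hp⟩ := CharP.exists F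
    haveI := hp
    haveI : Fact p.Prime := ⟨CharP.char_is_prime F p⟩
    obtain ⟨g, σ, h | ⟨-, h⟩⟩ := H50.AutPSL2.aut_psl (p := p) (n := 3) (by norm_num) (Phi e n)
    · exact ⟨g, σ, Or.inl h⟩
    · exact ⟨g, σ, Or.inr h⟩
  obtain ⟨g, σ, h | h⟩ := hex
  · have hσ := no_field hS hC e h4 (g := g) (σ := σ) ⟨n, h⟩
    subst hσ
    have hd := det_eq_one hS hC e h4 (g := g) ⟨n, h⟩
    obtain ⟨y, hy⟩ := inner_three h4 hd
    exact mem_L_of_conj e hC (h.trans hy.symm)
  · exfalso
    by_cases hσ : σ = RingEquiv.refl F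
    · subst hσ
      exact no_graph hS hC e h4 (g := g) ⟨n, h⟩
    · exact no_graph_field hS hC e h4 hσ (g := g) ⟨n, h⟩

end three

end H36.SepOver
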