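import Mathlib

/-!
S2987, piece L1, the abstract core: an element of `p`-power order normalizing `E` and fixing the vectors on a line
acts on the natural module like an element of `E`.
-/

set_option autoImplicit false
set_option linter.all false

namespace H36.BZ

open Subgroup
open scoped MatrixGroups

theorem char_of_card {F : Type} [Field F] [Fintype F] {p n : ℕ} [hp : Fact p.Prime] (hF : Fintype.card F = p ^ n) :
    CharP F p := by
  obtain ⟨q, hq⟩ := CharP.exists F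
  obtain ⟨k, hqp, hk⟩ := FiniteField.card F q
  have h1 : q ∣ p ^ n := by
    rw [← hF, hk]
    exact dvd_pow_self q (by exact_mod_cast k.ne_zero)
  have h2 : q = p := (Nat.prime_dvd_prime_iff_eq hqp hp.out).1 (hqp.dvd_of_dvd_pow h1)
  rw [← h2]; exact hq

theorem one_of_pow {F : Type} [Field F] {p m : ℕ} [hp : Fact p.Prime] [CharP F p] {d : F} (h : d ^ p ^ m = 1) :
    d = 1 := by
  have h1 : (d - 1) ^ p ^ m = 0 := by
    rw [sub_pow_char_pow, one_pow, h, sub_self]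
  exact sub_eq_zero.1 (pow_eq_zero_iff (pow_ne_zero m hp.out.ne_zero) |>.1 h1)

theorem lin_core {G : Type*} [Group G] {p : ℕ} [Fact p.Prime] {F : Type} [Field F] [Fintype F] {n : ℕ}
    (hF : Fintype.card F = p ^ n)
    {E U U₀ : Subgroup G} {ρ : ↥E →* SL(2, F)} {ψ : ↥U →* Multiplicative (Fin 2 → F)}
    (hsur : Function.Surjective ψ) (hker : ∀ u : ↥U, ψ u = 1 ↔ (u : G) ∈ U₀) (hρ : Function.Surjective ρ)
    (hact : ∀ (e : ↥E) (u : ↥U), ∃ w : ↥U, (w : G) = (e : G) * (u : G) * (e : G)⁻¹ ∧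
      Multiplicative.toAdd (ψ w) =
        ((ρ e : SL(2, F)) : Matrix (Fin 2) (Fin 2) F).mulVec (Multiplicative.toAdd (ψ u)))
    (hsls : ∀ x : (Fin 2 → F) ≃+ (Fin 2 → F),
      (∀ g : SL(2, F), ∃ g' : SL(2, F), ∀ v, x ((g : Matrix (Fin 2) (Fin 2) F).mulVec v) =
        (g' : Matrix (Fin 2) (Fin 2) F).mulVec (x v)) → ∃ σ : F ≃+* F, ∀ (l : F) v, x (l • v) = σ l • x v)
    {b : G} (hbE : b ∈ normalizer (E : Set G)) (hbU : b ∈ normalizer (U : Set G))
    (hbU0 : ∀ u ∈ U₀, b * u * b⁻¹ ∈ U₀) (hbU0' : ∀ u ∈ U₀, b⁻¹ * u * b ∈ U₀) (hbp : ∃ m, b ^ p ^ m = 1)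
    {v₀ : Fin 2 → F} (hv0 : v₀ ≠ 0)
    (hfix : ∀ l : F, ∃ u : ↥U, Multiplicative.toAdd (ψ u) = l • v₀ ∧ b * (u : G) * b⁻¹ = u) :
    ∃ e ∈ E, ∀ u ∈ U, ∃ z ∈ U₀, b * u * b⁻¹ = e * u * e⁻¹ * z := by
  classical
  haveI := char_of_card hF
  have hbm : ∀ u : ↥U, b * (u : G) * b⁻¹ ∈ U := fun u => (mem_normalizer_iff.1 hbU u).1 u.2
  let β : ↥U → ↥U := fun u => ⟨b * (u : G) * b⁻¹, hbm u⟩
  have hβm : ∀ u v : ↥U, β (u * v) = β u * β v := by
    intro u v
    apply Subtype.ext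
    show b * ((u : G) * v) * b⁻¹ = (b * u * b⁻¹) * (b * v * b⁻¹)
    group
  have heq : ∀ u v : ↥U, ψ u = ψ v → ∃ w : ↥U, (w : G) ∈ U₀ ∧ u = v * w := by
    intro u v h
    refine ⟨v⁻¹ * u, ?_, by group⟩
    rw [← hker, map_mul, map_inv, h, inv_mul_cancel]
  have hβψ : ∀ u v : ↥U, ψ u = ψ v → ψ (β u) = ψ (β v) := by
    intro u v h
    obtain ⟨w, hw, rfl⟩ := heq u v h
    rw [hβm, map_mul, (hker (β w)).2 (hbU0 _ hw), mul_one]
  let s : (Fin 2 → F) → ↥U := fun v => Function.surjInv hsur (Multiplicative.ofAdd v)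
  have hs : ∀ v, ψ (s v) = Multiplicative.ofAdd v := fun v => Function.surjInv_eq hsur _
  let x0 : (Fin 2 → F) → (Fin 2 → F) := fun v => Multiplicative.toAdd (ψ (β (s v)))
  have hx : ∀ u : ↥U, Multiplicative.toAdd (ψ (β u)) = x0 (Multiplicative.toAdd (ψ u)) := by
    intro u
    show Multiplicative.toAdd (ψ (β u)) = Multiplicative.toAdd (ψ (β (s _)))
    rw [hβψ u (s (Multiplicative.toAdd (ψ u))) (by rw [hs, ofAdd_toAdd])]
  have hxadd : ∀ v w, x0 (v + w) = x0 v + x0 w := by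
    intro v w
    have h1 := hx (s v * s w)
    have h2 : ψ (β (s v * s w)) = ψ (β (s v)) * ψ (β (s w)) := by rw [hβm, map_mul ψ]
    have h3 : ψ (s v * s w) = Multiplicative.ofAdd (v + w) := by rw [map_mul ψ, hs, hs]; rfl
    rw [h2, h3] at h1
    exact h1.symm
  let xh : (Fin 2 → F) →+ (Fin 2 → F) := AddMonoidHom.mk' x0 hxadd
  have hxh : ∀ v, xh v = x0 v := fun v => rfl
  have hinj : Function.Injective xh := by
    rw [injective_iff_map_eq_zero]
    intro v hv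
    have h1 : ψ (β (s v)) = 1 := hv
    rw [hker] at h1
    have h2 := hbU0' _ h1
    have h3 : b⁻¹ * (β (s v) : G) * b = s v := by
      show b⁻¹ * (b * (s v : G) * b⁻¹) * b = s v
      group
    rw [h3, ← hker, hs] at h2
    exact h2
  let x : (Fin 2 → F) ≃+ (Fin 2 → F) := AddEquiv.ofBijective xh (Finite.injective_iff_bijective.1 hinj)
  have hxx : ∀ v, x v = x0 v := fun v => rfl
  have hxψ : ∀ u : ↥U, x (Multiplicative.toAdd (ψ u)) = Multiplicative.toAdd (ψ (β u)) := fun u => (hx u).symm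
  have hsψ : ∀ v : Fin 2 → F, ∃ u : ↥U, Multiplicative.toAdd (ψ u) = v := fun v => ⟨s v, by rw [hs, toAdd_ofAdd]⟩
  obtain ⟨σ, hσ⟩ := hsls x (by
    intro g
    obtain ⟨e, rfl⟩ := hρ g
    have he' : b * (e : G) * b⁻¹ ∈ E := (mem_normalizer_iff.1 hbE e).1 e.2
    refine ⟨ρ ⟨_, he'⟩, fun v => ?_⟩
    obtain ⟨u, rfl⟩ := hsψ v
    obtain ⟨w, hw1, hw2⟩ := hact e u
    obtain ⟨w', hw1', hw2'⟩ := hact ⟨_, he'⟩ (β u)
    rw [← hw2, hxψ, hxψ, ← hw2']
    have : β w = w' := by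
      apply Subtype.ext
      rw [hw1']
      show b * (w : G) * b⁻¹ = (b * (e : G) * b⁻¹) * (b * (u : G) * b⁻¹) * (b * (e : G) * b⁻¹)⁻¹
      rw [hw1]; group
    rw [this])
  have hfx : ∀ l : F, x (l • v₀) = l • v₀ := by
    intro l
    obtain ⟨u, hu1, hu2⟩ := hfix l
    rw [← hu1, hxψ]
    have : β u = u := Subtype.ext hu2
    rw [this]
  have hσ1 : ∀ l : F, σ l = l := by
    intro l
    have h1 := hσ l v₀
    have h2 : x v₀ = v₀ := by
      have := hfx 1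
      rwa [one_smul] at this
    rw [hfx, h2] at h1
    have h3 : (l - σ l) • v₀ = 0 := by rw [sub_smul, ← h1, sub_self]
    rcases smul_eq_zero.1 h3 with h4 | h4
    · exact (sub_eq_zero.1 h4).symm
    · exact absurd h4 hv0
  let L : (Fin 2 → F) →ₗ[F] (Fin 2 → F) :=
    { toFun := fun v => x v
      map_add' := fun v w => map_add x v w
      map_smul' := fun l v => by rw [hσ, hσ1]; rfl }
  let M : Matrix (Fin 2) (Fin 2) F := LinearMap.toMatrix' L
  have hM : ∀ v, M.mulVec v = x v := fun v => LinearMap.toMatrix'_mulVec L v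
  have hpow : ∀ (k : ℕ) (u : ↥U), ∃ w : ↥U, (w : G) = b ^ k * u * (b ^ k)⁻¹ ∧
      Multiplicative.toAdd (ψ w) = (M ^ k).mulVec (Multiplicative.toAdd (ψ u)) := by
    intro k
    induction k with
    | zero => intro u; exact ⟨u, by simp, by simp⟩
    | succ k ih =>
      intro u
      obtain ⟨w, hw1, hw2⟩ := ih u
      refine ⟨β w, ?_, ?_⟩
      · show b * (w : G) * b⁻¹ = _
        rw [hw1, pow_succ']
        group
      · rw [← hxψ, hw2, ← hM, Matrix.mulVec_mulVec, ← pow_succ']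
  obtain ⟨m, hm⟩ := hbp
  have hMm : M ^ p ^ m = 1 := by
    apply Matrix.mulVec_injective
    funext v
    obtain ⟨u, rfl⟩ := hsψ v
    obtain ⟨w, hw1, hw2⟩ := hpow (p ^ m) u
    have : w = u := by
      apply Subtype.ext
      rw [hw1, hm]; simp
    rw [← hw2, this, Matrix.one_mulVec]
  have hdet : M.det = 1 := by
    apply one_of_pow (p := p) (m := m)
    rw [← Matrix.det_pow, hMm, Matrix.det_one]
  obtain ⟨e, he⟩ := hρ ⟨M, hdet⟩
  refine ⟨e, e.2, fun u hu => ?_⟩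
  obtain ⟨w, hw1, hw2⟩ := hact e ⟨u, hu⟩
  have h1 : ψ (β ⟨u, hu⟩) = ψ w := by
    apply Multiplicative.toAdd.injective
    rw [hw2, he, ← hxψ, ← hM]
  obtain ⟨z, hz, hz2⟩ := heq _ _ h1
  refine ⟨z, hz, ?_⟩
  have h2 := congrArg Subtype.val hz2
  rw [show (((w * z : ↥U)) : G) = (w : G) * z from rfl, hw1] at h2
  exact h2

end H36.BZ
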