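import Mathlib
import Cfsg.Agent.Lib.H36.CN3
import Cfsg.Agent.Lib.H36.CITfin
import Cfsg.Agent.S1326
import Cfsg.Agent.S0071

/-!
CN-groups with trivial Fitting subgroup: a simple normal subgroup, and centralisers of involutions
are 2-groups.
-/
set_option autoImplicit false
set_option linter.style.haveILetI false

namespace H36.CNFit

open Subgroup Cfsg

universe u

variable {G : Type u} [Group G] [Finite G]

theorem cn_subgroup (hCN : IsCNGroup G) (K : Subgroup G) : IsCNGroup K := by
  intro k hk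
  haveI := hCN (k : G) (fun h => hk (Subtype.ext h))
  let f : centralizer ({k} : Set K) →* centralizer ({(k : G)} : Set G) :=
    { toFun := fun c => ⟨((c : K) : G), mem_centralizer_singleton_iff.mpr
        (congrArg Subtype.val (mem_centralizer_singleton_iff.mp c.2))⟩
      map_one' := rfl
      map_mul' := fun _ _ => rfl }
  have hf : Function.Injective f := by
    intro a b hab
    have h1 : (((a : K) : G)) = ((b : K) : G) := by
      have h2 := congrArg Subtype.val hab
      exact h2
    exact Subtype.ext (Subtype.ext h1)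
  exact Subgroup.isNilpotent_of_ker_le_center f (by rw [(MonoidHom.ker_eq_bot_iff f).2 hf]; exact bot_le)

theorem cent_component (hCN : IsCNGroup G) {K : Subgroup G} (hK : IsComponent K) :
    centralizer (K : Set G) = ⊥ := by
  rw [eq_bot_iff]
  intro c hc
  rw [Subgroup.mem_bot]
  by_contra hc1
  have hle : K ≤ centralizer ({c} : Set G) := fun k hk =>
    mem_centralizer_singleton_iff.mpr (mem_centralizer_iff.mp hc k hk)
  haveI := hCN c hc1
  exact H26.Components.not_isSolvable_of_le hK hle inferInstance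

theorem exists_simple [Nontrivial G] (hCN : IsCNGroup G) (hF : fittingSubgroup G = ⊥) :
    ∃ K : Subgroup G, K.Normal ∧ IsSimpleGroup K ∧ (∃ a b : K, a * b ≠ b * a) ∧
      centralizer (K : Set G) = ⊥ := by
  have hlay : layer G ≠ ⊥ := by
    intro h
    have h1 := Cfsg.Agent.S1326.result.mpr h
    rw [hF] at h1
    have h2 : centralizer ((⊥ : Subgroup G) : Set G) = ⊤ := by
      rw [eq_top_iff]
      intro g _
      rw [mem_centralizer_iff]
      intro h hh
      rw [Subgroup.mem_bot.mp hh, one_mul, mul_one]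
    rw [h2] at h1
    exact top_ne_bot (le_bot_iff.mp h1)
  obtain ⟨K, hK⟩ : ∃ K : Subgroup G, IsComponent K := by
    by_contra hcon
    push Not at hcon
    exact hlay (H26.Components.layer_eq_bot_iff.mpr hcon)
  have hC := cent_component hCN hK
  have huniq : ∀ L : Subgroup G, IsComponent L → L = K := by
    intro L hL
    by_contra hne
    have h1 := H26.Components.commutator_eq_bot_of_ne hL hK hne
    rw [commutator_eq_bot_iff_le_centralizer, hC] at h1
    exact H26.Components.ne_bot hL (le_bot_iff.mp h1)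
  have hKn : K.Normal := by
    constructor
    intro n hn g
    have h1 := huniq _ ((H26.Components.map_conj_iff g).mpr hK)
    rw [← h1]
    exact ⟨n, hn, rfl⟩
  have hcen : center K = ⊥ := by
    rw [eq_bot_iff]
    intro c hc
    rw [Subgroup.mem_bot]
    apply Subtype.ext
    have h1 : (c : G) ∈ centralizer (K : Set G) := by
      rw [mem_centralizer_iff]
      intro k hk
      exact congrArg Subtype.val (mem_center_iff.mp hc ⟨k, hk⟩)
    rw [hC, Subgroup.mem_bot] at h1
    exact h1
  have hs : IsSimpleGroup K := by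
    haveI := hK.2.2
    have e1 : K ⧸ (⊥ : Subgroup K) ≃* K := QuotientGroup.quotientBot
    have e : (K ⧸ center K) ≃* K := (QuotientGroup.quotientMulEquivOfEq hcen).trans e1
    exact e.symm.isSimpleGroup
  refine ⟨K, hKn, hs, ?_, hC⟩
  by_contra hcon
  push Not at hcon
  apply H26.Components.not_commutative hK
  rw [Subgroup.commutator_eq_bot_iff_le_centralizer]
  intro a ha
  rw [mem_centralizer_iff]
  intro b hb
  exact congrArg Subtype.val (hcon ⟨b, hb⟩ ⟨a, ha⟩)

theorem exists_invol {X : Type u} [Group X] [Finite X] {Q : Subgroup X} (hQ : IsPGroup 2 Q) (hQ1 : Q ≠ ⊥) :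
    ∃ t ∈ Q, orderOf t = 2 := H36.CITM1.exists_inv hQ hQ1

/-- CN-groups with trivial Fitting subgroup are `Sep` -/
theorem sep [Nontrivial G] (hCN : IsCNGroup G) (hF : fittingSubgroup G = ⊥) : Lead.CIT.Sep G := by
  haveI : Fact (Nat.Prime 2) := ⟨Nat.prime_two⟩
  by_contra hS
  obtain ⟨S, z, x, h⟩ := H36.CN2.exists_conf hCN hS
  obtain ⟨K, hKn, hKs, hna, hC⟩ := exists_simple hCN hF
  have hSK : Lead.CIT.Sep K := H36.CN3.sep_of_cn hna (cn_subgroup hCN K)
  obtain ⟨P⟩ : Nonempty (Sylow 2 K) := inferInstance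
  -- an odd element centralising `P`
  obtain ⟨x', hx'o, hx'1, hx'c⟩ : ∃ x' : G, Odd (orderOf x') ∧ x' ≠ 1 ∧
      ∀ s : K, s ∈ P → (s : G) * x' = x' * s := by
    have h1 : IsPGroup 2 ((P : Subgroup K).map K.subtype) := P.2.map _
    obtain ⟨g, -, hg⟩ := h.syl.exists_conj_le h1 le_top
    have ho : orderOf (g⁻¹ * x * g) = orderOf x := by
      have := MulEquiv.orderOf_eq (MulAut.conj g⁻¹) x
      simpa [MulAut.conj_apply] using this
    refine ⟨g⁻¹ * x * g, by rw [ho]; exact h.xo, fun h2 => ?_, fun s hs => ?_⟩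
    · rw [h2, orderOf_one] at ho
      exact h.x1 (orderOf_eq_one_iff.mp ho.symm)
    · have h2 : g * (s : G) * g⁻¹ ∈ S := by
        apply hg
        exact H28.Cj.conj_mem_cj.mpr ⟨s, hs, rfl⟩
      have h3 := h.xc _ h2
      calc (s : G) * (g⁻¹ * x * g) = g⁻¹ * ((g * s * g⁻¹) * x) * g := by group
        _ = g⁻¹ * (x * (g * s * g⁻¹)) * g := by rw [h3]
        _ = (g⁻¹ * x * g) * s := by group
  obtain ⟨N, hNn, hNP⟩ := (Cfsg.Agent.S0071.result P).mpr (by
    intro Q hQP n hn hno
    by_cases hQ1 : Q = ⊥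
    · rw [hQ1, mem_centralizer_iff]
      intro q hq
      rw [Subgroup.mem_bot.mp hq, one_mul, mul_one]
    obtain ⟨t, htQ, ht⟩ := exists_invol (P.2.to_le hQP) hQ1
    have htG : orderOf (t : G) = 2 := by rw [Subgroup.orderOf_coe, ht]
    have ht1 : (t : G) ≠ 1 := by intro h1; rw [h1, orderOf_one] at htG; omega
    -- `y = n x' n⁻¹`
    set y : G := (n : G) * x' * (n : G)⁻¹ with hy
    have hty : (t : G) * y = y * t := by
      have h1 : n⁻¹ * t * n ∈ Q := by
        have := (mem_normalizer_iff.mp ((normalizer (Q : Set K)).inv_mem hn) t).mp htQ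
        rwa [inv_inv] at this
      have h2 := hx'c _ (hQP h1)
      rw [Subgroup.coe_mul, Subgroup.coe_mul, Subgroup.coe_inv] at h2
      calc (t : G) * y = n * (((n : G)⁻¹ * t * n) * x') * (n : G)⁻¹ := by rw [hy]; group
        _ = n * (x' * ((n : G)⁻¹ * t * n)) * (n : G)⁻¹ := by rw [h2]
        _ = y * t := by rw [hy]; group
    have htx := hx'c t (hQP htQ)
    have hyo : Odd (orderOf y) := by
      have := MulEquiv.orderOf_eq (MulAut.conj (n : G)) x'
      rw [MulAut.conj_apply] at this
      rw [hy, this]; exact hx'o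
    have huK : x'⁻¹ * y ∈ K := by
      have h1 : x'⁻¹ * y = (x'⁻¹ * n * x'⁻¹⁻¹) * (n : G)⁻¹ := by rw [hy]; group
      rw [h1]
      exact K.mul_mem (hKn.conj_mem _ n.2 _) (K.inv_mem n.2)
    have hut : (x'⁻¹ * y) * (t : G) = t * (x'⁻¹ * y) :=
      ((Commute.inv_right (show Commute (t : G) x' from htx)).mul_right (show Commute (t : G) y from hty)).symm.eq
    -- `u` is a 2-element
    have hu2 : ∃ k, orderOf (x'⁻¹ * y) = 2 ^ k := by
      have h1 := H36.CITfin.cit_of_sep hSK t ht
      have h2 : (⟨x'⁻¹ * y, huK⟩ : K) ∈ centralizer ({t} : Set K) :=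
        mem_centralizer_singleton_iff.mpr (Subtype.ext hut)
      obtain ⟨k, hk⟩ := (IsPGroup.iff_orderOf.mp h1) ⟨_, h2⟩
      rw [Subgroup.orderOf_mk, Subgroup.orderOf_mk] at hk
      exact ⟨k, hk⟩
    have hux : (x'⁻¹ * y) * x' = x' * (x'⁻¹ * y) :=
      H36.CN2.nil_comm hCN ht1 hut htx.symm hu2 hx'o
    have hu1 : x'⁻¹ * y = 1 := by
      obtain ⟨k, hk⟩ := hu2
      have h1 : y = x' * (x'⁻¹ * y) := by group
      have h2 : (x' * (x'⁻¹ * y)) ^ (orderOf x' * orderOf y) = 1 := by
        rw [← h1, mul_comm, pow_mul, pow_orderOf_eq_one, one_pow]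
      rw [(show Commute x' (x'⁻¹ * y) from hux.symm).mul_pow, pow_mul, pow_orderOf_eq_one, one_pow,
        one_mul] at h2
      have h3 := orderOf_dvd_of_pow_eq_one h2
      have h4 : Nat.Coprime (orderOf (x'⁻¹ * y)) (orderOf x' * orderOf y) := by
        rw [hk]
        exact Nat.Coprime.pow_left k (Nat.coprime_two_left.mpr (hx'o.mul hyo))
      rw [← orderOf_eq_one_iff]
      exact Nat.Coprime.eq_one_of_dvd h4 h3
    have hnx : (n : G) * x' = x' * n := by
      have h1 : y = x' := by
        have := congrArg (fun g => x' * g) hu1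
        simpa using this
      rw [hy] at h1
      exact mul_inv_eq_iff_eq_mul.mp h1
    rw [mem_centralizer_iff]
    intro s hs
    apply Subtype.ext
    have hs2 : ∃ k, orderOf (s : G) = 2 ^ k := by
      obtain ⟨k, hk⟩ := (IsPGroup.iff_orderOf.mp P.2) ⟨s, hQP hs⟩
      rw [Subgroup.orderOf_mk] at hk
      exact ⟨k, by rw [Subgroup.orderOf_coe, hk]⟩
    have hno' : Odd (orderOf (n : G)) := by
      rw [Subgroup.orderOf_coe]
      exact Nat.coprime_two_right.mp hno
    exact H36.CN2.nil_comm hCN hx'1 (hx'c s (hQP hs)) hnx hs2 hno')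
  have hev := H36.CITfin.even_card hna
  rcases hNn.eq_bot_or_eq_top with hN | hN
  · rw [hN, isComplement'_bot_left] at hNP
    have h1 : IsPGroup 2 K := by
      intro k
      have h2 : k ∈ (P : Subgroup K) := by rw [hNP]; trivial
      obtain ⟨j, hj⟩ := P.2 ⟨k, h2⟩
      exact ⟨j, congrArg Subtype.val hj⟩
    haveI := h1.isNilpotent
    obtain ⟨a, b, hab⟩ := hna
    exact hab ((IsSimpleGroup.comm_iff_isSolvable (G := K)).mpr inferInstance a b)
  · rw [hN, isComplement'_top_left] at hNP
    have h1 := P.not_dvd_index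
    rw [hNP, index_bot] at h1
    exact h1 hev

end H36.CNFit
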