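import Mathlib
import Cfsg.Agent.Lib.H36.CentTI2
import Cfsg.Agent.Lib.H36.CentTI3
import Cfsg.Agent.Lib.H18.SepTop
import Cfsg.Agent.Lib.H8.SuzCent
import Cfsg.Agent.Lib.H21.PSLTransport
import Cfsg.Agent.S1474

/-!
Groups in which all centralisers of elements are TI: the non-solvable case.
-/
set_option autoImplicit false
set_option linter.style.haveILetI false

namespace H36.CentTI

open Subgroup Cfsg

universe u

variable {G : Type u} [Group G]

open H8.SuzMat H8.SuzField H8.SuzSylow H8.SuzCent in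
theorem suzuki_false {F : Type} [Field F] [Fintype F] {m : ℕ} (hm : 1 ≤ m)
    (hF : Fintype.card F = 2 ^ (2 * m + 1)) (e : G ≃* Sz F m)
    (hTI : ∀ x : G, IsTISubset (centralizer ({x} : Set G) : Set G)) : False := by
  obtain ⟨k, hk⟩ : ∃ k : Fˣ, th m (k : F) ≠ k := by
    by_contra hcon
    push Not at hcon
    obtain ⟨g, hg⟩ := IsCyclic.exists_generator (α := Fˣ)
    have ho : orderOf g = Nat.card Fˣ := orderOf_eq_card_of_forall_mem_zpowers hg
    classical
    rw [Nat.card_eq_fintype_card, Fintype.card_units, hF] at ho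
    have h1 : g ^ (2 ^ (m + 1)) = g := Units.ext (by
      rw [Units.val_pow_eq_pow_val]; exact hcon g)
    have h2 : g ^ (2 ^ (m + 1) - 1) = 1 := by
      have h3 : 2 ^ (m + 1) - 1 + 1 = 2 ^ (m + 1) := Nat.sub_add_cancel Nat.one_le_two_pow
      have h4 : g ^ (2 ^ (m + 1) - 1) * g = g := by rw [← pow_succ, h3, h1]
      exact mul_eq_right.mp h4
    have h5 := Nat.le_of_dvd (Nat.sub_pos_of_lt (Nat.one_lt_two_pow (by omega))) (orderOf_dvd_of_pow_eq_one h2)
    rw [ho] at h5
    have h6 : 2 ^ (m + 1) < 2 ^ (2 * m + 1) := Nat.pow_lt_pow_right (by norm_num) (by omega)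
    have h7 : 0 < 2 ^ (m + 1) := by positivity
    clear ho h1 h2
    generalize 2 ^ (2 * m + 1) = X at *
    generalize 2 ^ (m + 1) = Y at *
    omega
  set a : G := e.symm (tG hF 1 0) with ha
  set z : G := e.symm (tG hF 0 1) with hz
  set h : G := e.symm (dG hF k) with hh
  have hconj : ∀ x y : F, dG (m := m) hF k * tG hF x y * (dG hF k)⁻¹ = tG hF (k * x) (k * th m (k : F) * y) := by
    intro x y
    rw [D_T, mul_inv_cancel_right]
  have hz1 : z ≠ 1 := by
    intro h1
    have h2 : tG hF (0 : F) 1 = (1 : Sz F m) := by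
      have := congrArg e h1
      rwa [hz, MulEquiv.apply_symm_apply, map_one] at this
    rw [← tG_one hF] at h2
    exact one_ne_zero (tG_inj hF h2).2
  have hth0 : th m (0 : F) = 0 := zero_pow (by positivity)
  have hc : ∀ x y : F, (tG hF 0 y : Sz F m) * tG hF x 0 = tG hF x 0 * tG hF 0 y := by
    intro x y
    rw [tG_mul, tG_mul, hth0]
    simp [add_comm]
  have h1 : z * a = a * z := by
    rw [hz, ha, ← map_mul, ← map_mul, hc]
  have h2 : (h * z * h⁻¹) * a = a * (h * z * h⁻¹) := by
    rw [hz, ha, hh, ← map_inv, ← map_mul, ← map_mul, ← map_mul, ← map_mul, hconj, mul_zero, hc]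
  have h3 := mem_norm hTI hz1 h1 h2
  have h4 := (mem_normalizer_iff.mp h3 a).mp (mem_centralizer_singleton_iff.mpr rfl)
  have h5 : (h * a * h⁻¹) * a = a * (h * a * h⁻¹) := mem_centralizer_singleton_iff.mp h4
  rw [ha, hh, ← map_inv, ← map_mul, ← map_mul, ← map_mul, ← map_mul, hconj] at h5
  have h6 := e.symm.injective h5
  rw [tG_mul, tG_mul] at h6
  have h7 := (tG_inj hF h6).2
  have hth1 : th m (1 : F) = 1 := one_pow _
  have hthk : th m ((k : F) * 1) = th m (k : F) := by rw [mul_one]
  rw [hthk, hth1] at h7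
  apply hk
  simpa using h7

theorem nonsolvable_case [Finite G] (hns : ¬ Group.IsSolvable G)
    (hTI : ∀ x : G, IsTISubset (centralizer ({x} : Set G) : Set G)) :
    ∃ n : ℕ, 2 ≤ n ∧ Nonempty (G ≃* Matrix.ProjectiveSpecialLinearGroup (Fin 2) (GaloisField 2 n)) := by
  haveI : Fact (Nat.Prime 2) := ⟨Nat.prime_two⟩
  have hCN := isCN hTI
  haveI : Nontrivial G := by
    by_contra h
    rw [not_nontrivial_iff_subsingleton] at h
    exact hns inferInstance
  have hF : fittingSubgroup G = ⊥ := by
    rw [H1.Cores.fittingSubgroup_eq_iSup_pCore]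
    rw [iSup_eq_bot]
    intro p
    by_contra h0
    haveI : Fact (p : ℕ).Prime := by
      first
        | exact ⟨p.2⟩
        | exact ⟨Nat.Prime_of_mem_primeFactors p.2⟩
    haveI := (nontrivial_iff_ne_bot _).mpr h0
    obtain ⟨⟨y, hy⟩, hy1⟩ := exists_ne (1 : pCore p G)
    obtain ⟨P⟩ : Nonempty (Sylow p G) := inferInstance
    have huniq : ∀ R : Sylow p G, R = P := fun R =>
      sylow_ti hTI R P (H1.Cores.pCore_le_sylow R hy) (H1.Cores.pCore_le_sylow P hy)
        (fun h => hy1 (Subtype.ext h))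
    have hPn : (P : Subgroup G).Normal := by
      haveI : Subsingleton (Sylow p G) := ⟨fun R S => (huniq R).trans (huniq S).symm⟩
      exact P.normal_of_subsingleton
    have hP1 : (P : Subgroup G) ≠ ⊥ := by
      intro h
      have := H1.Cores.pCore_le_sylow P hy
      rw [h, Subgroup.mem_bot] at this
      exact hy1 (Subtype.ext this)
    have hnn : ¬ Group.IsNilpotent G := fun h => hns inferInstance
    obtain ⟨-, -, -, hq⟩ := Cfsg.Agent.S1474.result hCN hnn p P hP1 hPn
    have hle : fittingHall G ≤ fittingSubgroup G := by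
      apply sSup_le
      rintro N ⟨hN, hN2, -⟩
      exact H1.Cores.le_fittingSubgroup hN hN2
    apply hns
    haveI := H1.Cores.isNilpotent_fittingSubgroup (G := G)
    haveI : Group.IsSolvable (fittingHall G) := solvable_of_solvable_injective (f := inclusion hle)
      (inclusion_injective hle)
    haveI : Group.IsSolvable (G ⧸ fittingHall G) := inferInstance
    exact solvable_of_ker_le_range (fittingHall G).subtype (QuotientGroup.mk' (fittingHall G))
      (by rw [QuotientGroup.ker_mk', range_subtype])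
  have hS := H36.CNFit.sep hCN hF
  obtain ⟨K, hKn, hKs, hna, hC⟩ := H36.CNFit.exists_simple hCN hF
  have hSK : Lead.CIT.Sep K := Lead.CITQ.sep_subgroup hS K
  have hev := H36.CITfin.even_card hna
  have hTIK : Lead.CITA.TI K := by
    intro P Q hPQ
    by_contra hne
    haveI := (nontrivial_iff_ne_bot _).mpr hne
    obtain ⟨⟨y, hy⟩, hy1'⟩ := exists_ne (1 : ((P : Subgroup K) ⊓ Q : Subgroup K))
    have hy1 : y ≠ 1 := fun h => hy1' (Subtype.ext h)
    obtain ⟨P', hP'⟩ := Sylow.exists_comap_subtype_eq P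
    obtain ⟨Q', hQ'⟩ := Sylow.exists_comap_subtype_eq Q
    have h1 : P' = Q' := by
      apply sylow_ti hTI P' Q' (y := (y : G))
      · have h2 : y ∈ (P'  : Subgroup G).comap K.subtype := by rw [hP']; exact hy.1
        exact h2
      · have h2 : y ∈ (Q'  : Subgroup G).comap K.subtype := by rw [hQ']; exact hy.2
        exact h2
      · intro h2; exact hy1 (Subtype.ext h2)
    apply hPQ
    apply Sylow.ext
    rw [← hP', ← hQ', h1]
  have htop := H18.SepTop.ti_top hS K hna hev hTIK
  have eG : G ≃* K := by rw [htop]; exact Subgroup.topEquiv.symm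
  rcases H36.CITfin.classify hna hSK with ⟨-, F, _, _, n, hn, hF, ⟨e⟩⟩ | ⟨-, -, F, _, _, m, hm, hF, ⟨e⟩⟩ |
    ⟨h, -⟩ | ⟨h, -⟩
  · refine ⟨n, hn, ?_⟩
    haveI : Fintype (GaloisField 2 n) := Fintype.ofFinite _
    have hcard : Fintype.card (GaloisField 2 n) = 2 ^ n := by
      rw [← Nat.card_eq_fintype_card, GaloisField.card 2 n (by omega)]
    obtain ⟨e'⟩ := H21.PSLTransport.psl_congr_card (K := F) (L := GaloisField 2 n)
      (by rw [hF, hcard]) (Fin 2)
    exact ⟨(eG.trans e).trans e'⟩
  · exact (suzuki_false hm hF (eG.trans e) hTI).elim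
  · exact (h hTIK).elim
  · exact (h hTIK).elim

end H36.CentTI
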