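import Mathlib
import Cfsg.Agent.Lib.H36.CITfin
import Cfsg.Agent.Lib.H36.SepOver2
import Cfsg.Agent.Lib.H36.CN2
import Cfsg.Agent.Lib.H18.SepBase
import Cfsg.Agent.Lib.H18.SepTop
import Cfsg.Agent.Lib.H29.CITM12

/-!
The structure of non-solvable finite groups in which centralisers of involutions are 2-groups.
-/
set_option autoImplicit false

namespace H36.SepMain

open Subgroup Cfsg H28.Cj

universe u

theorem pCore_bot {G : Type u} [Group G] [Finite G] (hS : Lead.CIT.Sep G)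
    (L : Subgroup (G ⧸ pCore 2 G)) {X : Type} [Group X] (e : L ≃* X)
    (hmod : ∀ (V : Type u) [CommGroup V] [Finite V] [Nontrivial V] (_ : ∀ v : V, v * v = 1)
      [MulDistribMulAction X V] (_ : ∀ x : X, x ≠ 1 → Odd (orderOf x) → ∀ v : V, x • v = v → v = 1),
      False) : pCore 2 G = ⊥ := by
  haveI : Fact (Nat.Prime 2) := ⟨Nat.prime_two⟩
  by_contra hR
  have hR2 : IsPGroup 2 (pCore 2 G) := H1.Cores.isPGroup_pCore 2
  have hRn : (pCore 2 G).Normal := inferInstance
  set R := pCore 2 G with hRdef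
  let V : Subgroup G := Lead.CIT.OZ R
  have hVn : V.Normal := by
    rw [← Subgroup.normalizer_eq_top_iff, eq_top_iff]
    intro g _
    rw [mem_normalizer_iff_cj, Lead.CIT6.cj_OZ]
    congr 1
    rw [← mem_normalizer_iff_cj, Subgroup.normalizer_eq_top_iff.mpr hRn]
    trivial
  obtain ⟨z, hz, hz2⟩ := Lead.CIT3.exists_central_inv hR2 hR
  letI : CommGroup V := { (inferInstance : Group V) with
    mul_comm := fun a b => Subtype.ext ((Lead.CIT.IsEA_OZ R).comm a.2 b.2) }
  haveI : Nontrivial V := by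
    refine ⟨⟨⟨z, hz⟩, 1, fun h => ?_⟩⟩
    have : z = 1 := congrArg Subtype.val h
    rw [this, orderOf_one] at hz2
    omega
  let f : G →* MulAut V := MulAut.conjNormal
  have hf : ∀ r ∈ R, f r = 1 := by
    intro r hr
    ext v
    change (r : G) * v * (r : G)⁻¹ = v
    rw [← Lead.CIT.OZ_comm v.2 hr, mul_inv_cancel_right]
  let fq : G ⧸ R →* MulAut V := QuotientGroup.lift R f hf
  letI : MulDistribMulAction X V :=
    MulDistribMulAction.compHom V (fq.comp (L.subtype.comp e.symm.toMonoidHom))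
  apply hmod V (fun v => Subtype.ext ((Lead.CIT.IsEA_OZ R) v v.2))
  intro x hx hxo v hxv
  by_contra hv
  obtain ⟨g, hg⟩ := QuotientGroup.mk_surjective ((e.symm x : L) : G ⧸ R)
  have h1 : (g : G) * v * (g : G)⁻¹ = v := by
    have h2 : fq ((e.symm x : L) : G ⧸ R) v = v := hxv
    rw [← hg] at h2
    exact congrArg Subtype.val h2
  obtain ⟨k, m, hm, -, h3, -, -⟩ := H36.CN2.parts g
  have hvo : orderOf (v : G) = 2 := by
    apply (Lead.CIT.IsEA_OZ R).orderOf v.2
    intro h; exact hv (Subtype.ext h)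
  have h4 : g ^ 2 ^ k = 1 := by
    apply hS _ (v : G) hvo (by rw [h3]; exact hm)
    have h5 : Commute g (v : G) := mul_inv_eq_iff_eq_mul.mp h1
    exact (h5.pow_left _).eq
  apply hx
  have h6 : (e.symm x) ^ 2 ^ k = 1 := by
    apply Subtype.ext
    rw [Subgroup.coe_pow, ← hg, ← QuotientGroup.mk_pow, h4]
    rfl
  have h7 : x ^ 2 ^ k = 1 := by
    have := congrArg e h6
    rwa [map_pow, MulEquiv.apply_symm_apply, map_one] at this
  have h8 : orderOf x ∣ 2 ^ k := orderOf_dvd_of_pow_eq_one h7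
  rw [← orderOf_eq_one_iff]
  exact Nat.Coprime.eq_one_of_dvd (Nat.Coprime.pow_right k (Nat.coprime_two_right.mpr hxo)) h8

/-- the four types -/
theorem sep_main {G : Type u} [Group G] [Finite G] (hS : Lead.CIT.Sep G)
    (hns : ¬ Group.IsSolvable G) :
    (IsSimpleGroup (G ⧸ pCore 2 G) ∧ Lead.CITA.TI (G ⧸ pCore 2 G) ∧
      ∃ (F : Type) (_ : Field F) (_ : Fintype F) (n : ℕ), 2 ≤ n ∧ Fintype.card F = 2 ^ n ∧
        Nonempty ((G ⧸ pCore 2 G) ≃* Matrix.ProjectiveSpecialLinearGroup (Fin 2) F)) ∨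
    (IsSimpleGroup (G ⧸ pCore 2 G) ∧ Lead.CITA.TI (G ⧸ pCore 2 G) ∧
      Cfsg.Lie.IsoSuzuki (G ⧸ pCore 2 G) ∧
      ∃ (F : Type) (_ : Field F) (_ : Fintype F) (m : ℕ), 1 ≤ m ∧ Fintype.card F = 2 ^ (2 * m + 1) ∧
        Nonempty ((G ⧸ pCore 2 G) ≃* Cfsg.Sz F m)) ∨
    (pCore 2 G = ⊥ ∧ ((∃ (F : Type) (_ : Field F) (_ : Fintype F),
        (Fintype.card F = 9 ∨ (7 ≤ Fintype.card F ∧ (Fintype.card F).Prime ∧
          ∃ k : ℕ, Fintype.card F = 2 ^ k + 1 ∨ Fintype.card F + 1 = 2 ^ k)) ∧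
        Nonempty (G ≃* Matrix.ProjectiveSpecialLinearGroup (Fin 2) F)) ∨
      (∃ (L : Subgroup G), L.Normal ∧ L.index = 2 ∧ centralizer (L : Set G) = ⊥ ∧
        ∃ (F : Type) (_ : Field F) (_ : Fintype F), Fintype.card F = 9 ∧
        Nonempty (L ≃* Matrix.ProjectiveSpecialLinearGroup (Fin 2) F)) ∨
      (∃ (F : Type) (_ : Field F) (_ : Fintype F), Fintype.card F = 4 ∧
        Nonempty (G ≃* Matrix.ProjectiveSpecialLinearGroup (Fin 3) F)))) := by
  haveI : Fact (Nat.Prime 2) := ⟨Nat.prime_two⟩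
  obtain ⟨hSN, hnsN, L, hLn, hLs, hev, hna, hC⟩ := H18.SepBase.base hS hns
  have hSL : Lead.CIT.Sep L := Lead.CITQ.sep_subgroup hSN L
  -- the isomorphism when `L` is everything
  have htopiso : L = ⊤ → Nonempty (L ≃* (G ⧸ pCore 2 G)) := fun h => ⟨by
    rw [h]; exact Subgroup.topEquiv⟩
  have hbotiso : pCore 2 G = ⊥ → Nonempty (G ≃* (G ⧸ pCore 2 G)) := fun h => ⟨by
    have e1 : G ⧸ (⊥ : Subgroup G) ≃* G := QuotientGroup.quotientBot
    exact e1.symm.trans (QuotientGroup.quotientMulEquivOfEq h.symm)⟩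
  rcases H36.CITfin.classify hna hSL with ⟨hTI, F, _, _, n, hn, hF, ⟨e⟩⟩ |
    ⟨hTI, hSz, F, _, _, m, hm, hF, ⟨e⟩⟩ | ⟨-, F, _, _, hF, ⟨e⟩⟩ | ⟨-, F, _, _, hF, ⟨e⟩⟩
  · have htop := H18.SepTop.ti_top hSN L hna hev hTI
    obtain ⟨f⟩ := htopiso htop
    left
    refine ⟨f.symm.isSimpleGroup, H28.CITM5.ti_overgroup hSN L hna hev hTI, F, inferInstance,
      inferInstance, n, hn, hF, ⟨f.symm.trans e⟩⟩
  · have htop := H18.SepTop.ti_top hSN L hna hev hTI
    obtain ⟨f⟩ := htopiso htop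
    right; left
    refine ⟨f.symm.isSimpleGroup, H28.CITM5.ti_overgroup hSN L hna hev hTI, ?_, F, inferInstance,
      inferInstance, m, hm, hF, ⟨f.symm.trans e⟩⟩
    obtain ⟨F', i1, i2, m', hm', hF', ⟨e'⟩⟩ := hSz
    exact ⟨F', i1, i2, m', hm', hF', ⟨f.symm.trans e'⟩⟩
  · have h5 : 5 < Fintype.card F := by
      rcases hF with h | ⟨h, -⟩ <;> omega
    have hbot : pCore 2 G = ⊥ := by
      apply pCore_bot hS L e
      intro V _ _ _ h2 _ hfix
      exact H29.CITM12.psl2_no_module' h5 (hF.imp_right fun h => h.2.1) h2 hfix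
    obtain ⟨g⟩ := hbotiso hbot
    right; right
    refine ⟨hbot, ?_⟩
    rcases hF with h9 | hF'
    · rcases H36.SepOver.index_of_nine hSN hC e h9 with htop | hidx
      · obtain ⟨f⟩ := htopiso htop
        exact Or.inl ⟨F, inferInstance, inferInstance, Or.inl h9, ⟨(g.trans f.symm).trans e⟩⟩
      · right; left
        have hcm : L.comap g.toMonoidHom = L.map g.symm.toMonoidHom :=
          Subgroup.comap_equiv_eq_map_symm' g L
        refine ⟨L.comap g.toMonoidHom, hLn.comap _, ?_, ?_, F, inferInstance, inferInstance, h9,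
          ⟨((MulEquiv.subgroupCongr hcm).trans (g.symm.subgroupMap L).symm).trans e⟩⟩
        · rw [Subgroup.index_comap_of_surjective _ g.surjective, hidx]
        · rw [eq_bot_iff]
          intro x hx
          rw [Subgroup.mem_bot]
          have h1 : g x ∈ centralizer (L : Set (G ⧸ pCore 2 G)) := by
            rw [mem_centralizer_iff]
            intro y hy
            have h2 := mem_centralizer_iff.mp hx (g.symm y) (by
              change g (g.symm y) ∈ L
              rw [MulEquiv.apply_symm_apply]; exact hy)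
            have h3 := congrArg g h2
            rwa [map_mul, map_mul, MulEquiv.apply_symm_apply] at h3
          rw [hC, Subgroup.mem_bot] at h1
          exact g.injective (h1.trans (map_one g).symm)
    · have hodd : Odd (Fintype.card F) := by
        rcases hF'.2.1.eq_two_or_odd' with h | h
        · omega
        · exact h
      have htop := H36.SepOver.top_of_prime hSN hC e hodd (by omega) hF'.2.1
      obtain ⟨f⟩ := htopiso htop
      exact Or.inl ⟨F, inferInstance, inferInstance, Or.inr hF', ⟨(g.trans f.symm).trans e⟩⟩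
  · have hbot : pCore 2 G = ⊥ := by
      apply pCore_bot hS L e
      intro V _ _ _ h2 _ hfix
      exact H29.CITM12.psl34_no_module hF h2 hfix
    obtain ⟨g⟩ := hbotiso hbot
    right; right
    refine ⟨hbot, Or.inr (Or.inr ?_)⟩
    have htop := H36.SepOver.top_of_psl3 hSN hC e hF
    obtain ⟨f⟩ := htopiso htop
    exact ⟨F, inferInstance, inferInstance, hF, ⟨(g.trans f.symm).trans e⟩⟩

end H36.SepMain
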