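import Mathlib
import Cfsg.Agent.Lib.H36.SepMain
import Cfsg.Agent.Lib.H11.Eppo4
import Cfsg.Agent.S0333
import Cfsg.Agent.Lib.H6.SmallIsoB

/-!
Simple groups all of whose elements have prime power order.
-/
set_option autoImplicit false

namespace H36.Eppo

open H11.Eppo

universe u

/-! ### arithmetic -/

theorem three_dvd_sub {n : ℕ} (h : Even n) : 3 ∣ 2 ^ n - 1 := by
  obtain ⟨j, rfl⟩ := h
  have h1 : 2 ^ (j + j) = 4 ^ j := by rw [← two_mul, pow_mul]; norm_num
  have h2 : 4 ^ j ≡ 1 [MOD 3] := by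
    have : 4 ≡ 1 [MOD 3] := by decide
    simpa using this.pow j
  rw [h1]
  exact (Nat.modEq_iff_dvd' (Nat.one_le_pow _ _ (by norm_num))).mp h2.symm

theorem three_dvd_add {n : ℕ} (h : Odd n) : 3 ∣ 2 ^ n + 1 := by
  obtain ⟨j, rfl⟩ := h
  have h1 : 2 ^ (2 * j + 1) + 1 = 2 * (4 ^ j - 1) + 3 := by
    have : 2 ^ (2 * j + 1) = 2 * 4 ^ j := by rw [pow_succ, pow_mul]; ring
    have h3 : 1 ≤ 4 ^ j := Nat.one_le_pow _ _ (by norm_num)
    omega
  have h2 : 3 ∣ 4 ^ j - 1 := by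
    have := three_dvd_sub (n := 2 * j) ⟨j, by ring⟩
    rwa [pow_mul] at this
  rw [h1]
  exact (Nat.dvd_add (h2.mul_left 2) dvd_rfl)

theorem eq_three_pow {x : ℕ} (hx : IsPrimePow x) (h : 3 ∣ x) : ∃ k, 1 ≤ k ∧ x = 3 ^ k := by
  obtain ⟨p, k, hp, hk, rfl⟩ := hx
  have hp' := hp.nat_prime
  have : 3 = p := (Nat.prime_dvd_prime_iff_eq Nat.prime_three hp').mp
    (Nat.prime_three.dvd_of_dvd_pow h)
  subst this
  exact ⟨k, hk, rfl⟩

theorem add_three {n k : ℕ} (h : 2 ^ n + 1 = 3 ^ k) : n = 1 ∨ n = 3 := by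
  rcases Nat.even_or_odd k with he | ho
  · obtain ⟨j, hj⟩ := he
    rcases Nat.eq_zero_or_pos j with h0 | hpos
    · exfalso
      rw [hj, h0] at h
      have : 0 < 2 ^ n := by positivity
      simp at h
    · have h1 := H44.CITM11.even_pow_sub (p := 3) (m := j) (k := n) (by norm_num) hpos
        (by rw [two_mul, ← hj, ← h]) (by decide)
      rw [two_mul, ← hj, ← h] at h1
      have h2 : 2 ^ n = 2 ^ 3 := by omega
      exact Or.inr (Nat.pow_right_injective (le_refl 2) h2)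
  · have h1 := H44.CITM11.odd_pow_sub (p := 3) (n := k) (k := n) (by decide) ho (by norm_num) h.symm
    rw [h1] at h
    have h2 : 2 ^ n = 2 ^ 1 := by omega
    exact Or.inl (Nat.pow_right_injective (le_refl 2) h2)

theorem sub_three {n k : ℕ} (hn : 2 ≤ n) (h : 2 ^ n - 1 = 3 ^ k) : n = 2 := by
  have hn1 : 1 ≤ 2 ^ n := Nat.one_le_two_pow
  have h' : 3 ^ k + 1 = 2 ^ n := by omega
  rcases Nat.even_or_odd k with he | ho
  · exfalso
    obtain ⟨j, rfl⟩ := he
    have h1 : 3 ^ (j + j) = 9 ^ j := by rw [← two_mul, pow_mul]; norm_num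
    have h2 : 9 ^ j ≡ 1 [MOD 4] := by
      have : 9 ≡ 1 [MOD 4] := by decide
      simpa using this.pow j
    have h3 : 4 ∣ 2 ^ n := ⟨2 ^ (n - 2), by rw [show (4 : ℕ) = 2 ^ 2 by norm_num, ← pow_add]; congr 1; omega⟩
    rw [← h', h1] at h3
    have h4 : 9 ^ j % 4 = 1 := h2
    omega
  · have h1 := H44.CITM11.odd_pow_add (p := 3) (n := k) (k := n) (by decide) ho (by norm_num) h'
    rw [h1] at h'
    have h2 : 2 ^ n = 2 ^ 2 := by omega
    exact Nat.pow_right_injective (le_refl 2) h2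

theorem two_pow_case {n : ℕ} (hn : 2 ≤ n) (h1 : IsPrimePow (2 ^ n - 1)) (h2 : IsPrimePow (2 ^ n + 1)) :
    n = 2 ∨ n = 3 := by
  rcases Nat.even_or_odd n with he | ho
  · obtain ⟨k, -, hk⟩ := eq_three_pow h1 (three_dvd_sub he)
    exact Or.inl (sub_three hn hk)
  · obtain ⟨k, -, hk⟩ := eq_three_pow h2 (three_dvd_add ho)
    rcases add_three hk with h | h
    · omega
    · exact Or.inr h

theorem fermat_case {p k : ℕ} (hp : p.Prime) (h7 : 7 ≤ p) (hk : p = 2 ^ k + 1)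
    (h : IsPrimePow ((p + 1) / 2)) : p = 17 := by
  have hk1 : 1 ≤ k := by
    by_contra h0
    have : k = 0 := by omega
    rw [this] at hk; omega
  rcases Nat.even_or_odd k with he | ho
  · have h1 : (p + 1) / 2 = 2 ^ (k - 1) + 1 := by
      have : 2 ^ k = 2 * 2 ^ (k - 1) := by rw [← pow_succ']; congr 1; omega
      omega
    rw [h1] at h
    have ho : Odd (k - 1) := by
      obtain ⟨j, hj⟩ := he
      exact ⟨j - 1, by omega⟩
    obtain ⟨s, -, hs⟩ := eq_three_pow h (three_dvd_add ho)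
    rcases add_three hs with h2 | h2
    · have : k = 2 := by omega
      rw [this] at hk; omega
    · have : k = 4 := by omega
      rw [this] at hk; omega
  · exfalso
    have h3 := three_dvd_add ho
    rw [← hk] at h3
    have := (Nat.prime_dvd_prime_iff_eq Nat.prime_three hp).mp h3
    omega

theorem mersenne_case {p k : ℕ} (hp : p.Prime) (h7 : 7 ≤ p) (hk : p + 1 = 2 ^ k)
    (h : IsPrimePow ((p - 1) / 2)) : p = 7 := by
  have hk3 : 3 ≤ k := by
    by_contra h0
    have : 2 ^ k ≤ 2 ^ 2 := Nat.pow_le_pow_right (by norm_num) (by omega)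
    omega
  rcases Nat.even_or_odd k with he | ho
  · exfalso
    have h3 := three_dvd_sub he
    rw [← hk, Nat.add_sub_cancel] at h3
    have := (Nat.prime_dvd_prime_iff_eq Nat.prime_three hp).mp h3
    omega
  · have h1 : (p - 1) / 2 = 2 ^ (k - 1) - 1 := by
      have : 2 ^ k = 2 * 2 ^ (k - 1) := by rw [← pow_succ']; congr 1; omega
      omega
    rw [h1] at h
    have he : Even (k - 1) := by
      obtain ⟨j, hj⟩ := ho
      exact ⟨j, by omega⟩
    obtain ⟨s, -, hs⟩ := eq_three_pow h (three_dvd_sub he)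
    have h2 := sub_three (by omega) hs
    have : k = 3 := by omega
    rw [this] at hk; omega

theorem five_lift : ∀ j s : ℕ, 2 ^ (j + 2) ∣ 5 ^ s - 1 → 2 ^ j ∣ s := by
  intro j
  induction j with
  | zero => intro s _; rw [pow_zero]; exact one_dvd s
  | succ j ih =>
    intro s hs
    have h8 : 8 ∣ 5 ^ s - 1 := by
      refine dvd_trans ?_ hs
      exact ⟨2 ^ j, by rw [show (8 : ℕ) = 2 ^ 3 by norm_num, ← pow_add]; congr 1; omega⟩
    have h5 : 1 ≤ 5 ^ s := Nat.one_le_pow _ _ (by norm_num)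
    rcases Nat.even_or_odd s with he | ho
    · obtain ⟨r, rfl⟩ := he
      have hr1 : 1 ≤ 5 ^ r := Nat.one_le_pow _ _ (by norm_num)
      have h1 : 5 ^ (r + r) - 1 = (5 ^ r - 1) * (5 ^ r + 1) := by
        obtain ⟨a, ha⟩ := Nat.exists_eq_add_of_le hr1
        rw [pow_add, ha]
        have : 1 + a - 1 = a := by omega
        rw [this]
        have : (1 + a) * (1 + a) = a * (1 + a + 1) + 1 := by ring
        omega
      have h2 : 5 ^ r % 4 = 1 := by
        have : 5 ≡ 1 [MOD 4] := by decide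
        have h3 := this.pow r
        rw [one_pow] at h3
        exact h3
      obtain ⟨w, hw⟩ : ∃ w, 5 ^ r + 1 = 2 * (2 * w + 1) := ⟨(5 ^ r - 1) / 4, by omega⟩
      rw [h1, hw] at hs
      have h3 : 2 ^ (j + 2) ∣ (5 ^ r - 1) * (2 * w + 1) := by
        have h4 : 2 ^ (j + 1 + 2) = 2 * 2 ^ (j + 2) := by ring
        rw [h4] at hs
        have h5 : (5 ^ r - 1) * (2 * (2 * w + 1)) = 2 * ((5 ^ r - 1) * (2 * w + 1)) := by ring
        rw [h5] at hs
        exact Nat.dvd_of_mul_dvd_mul_left (by norm_num) hs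
      have h4 : Nat.Coprime (2 ^ (j + 2)) (2 * w + 1) :=
        Nat.Coprime.pow_left _ (Nat.coprime_two_left.mpr ⟨w, rfl⟩)
      have h5 := ih r (h4.dvd_of_dvd_mul_right h3)
      rw [← two_mul, pow_succ']
      exact Nat.mul_dvd_mul_left 2 h5
    · exfalso
      obtain ⟨r, rfl⟩ := ho
      have h1 : 5 ^ (2 * r + 1) % 8 = 5 := by
        have h2 : 25 ≡ 1 [MOD 8] := by decide
        have h3 := (h2.pow r).mul_right 5
        rw [one_pow, one_mul] at h3
        have h4 : 5 ^ (2 * r + 1) = 25 ^ r * 5 := by rw [pow_succ, pow_mul]; norm_num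
        rw [h4]
        exact h3
      have h6 : 1 ≤ 5 ^ (2 * r + 1) := Nat.one_le_pow _ _ (by norm_num)
      clear hs h5
      generalize 5 ^ (2 * r + 1) = X at *
      omega

theorem suzuki_case {m : ℕ} (hm : 1 ≤ m) (h1 : IsPrimePow (2 ^ (2 * m + 1) + 2 ^ (m + 1) + 1))
    (h2 : IsPrimePow (2 ^ (2 * m + 1) - 2 ^ (m + 1) + 1)) : m = 1 ∨ m = 2 := by
  by_contra hcon
  have hm3 : 3 ≤ m := by omega
  have hlt : 2 ^ (m + 1) ≤ 2 ^ (2 * m + 1) := Nat.pow_le_pow_right (by norm_num) (by omega)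
  set b := 2 ^ (2 * m + 1) with hb
  set r := 2 ^ (m + 1) with hr
  have hbr : 2 * b = r * r := by
    rw [hb, hr, ← pow_succ', ← pow_add]; congr 1; omega
  -- `5` divides one of them
  have h5 : 5 ∣ (b + r + 1) * (b - r + 1) := by
    obtain ⟨c, hc⟩ := Nat.exists_eq_add_of_le hlt
    have e : (b + r + 1) * (b - r + 1) = b * b + 1 := by
      have h6 : b - r + 1 = c + 1 := by omega
      rw [h6, hc]
      rw [hc] at hbr
      nlinarith
    rw [e]
    have h7 : b * b = 4 ^ (2 * m + 1) := by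
      rw [hb, ← pow_add, show (4 : ℕ) = 2 ^ 2 by norm_num, ← pow_mul]; congr 1; ring
    rw [h7]
    have h8 : 16 ≡ 1 [MOD 5] := by decide
    have h9 : 4 ^ (2 * m + 1) % 5 = 4 := by
      have h10 := (h8.pow m).mul_right 4
      rw [one_pow, one_mul] at h10
      have h11 : 4 ^ (2 * m + 1) = 16 ^ m * 4 := by rw [pow_succ, pow_mul]; norm_num
      rw [h11]; exact h10
    omega
  have key : ∀ x : ℕ, IsPrimePow x → 5 ∣ x → r ∣ x - 1 → x ≤ b + r + 1 → 1 < x → False := by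
    intro x hx hx5 hxr hxle hx1
    obtain ⟨p, s, hp, hs, rfl⟩ := hx
    have hp' := hp.nat_prime
    have : 5 = p := (Nat.prime_dvd_prime_iff_eq Nat.prime_five hp').mp
      (Nat.prime_five.dvd_of_dvd_pow hx5)
    subst this
    have h6 : 2 ^ (m - 1) ∣ s := by
      apply five_lift
      rw [hr] at hxr
      have : m - 1 + 2 = m + 1 := by omega
      rw [this]; exact hxr
    have h7 : 2 ^ (m - 1) ≤ s := Nat.le_of_dvd hs h6
    have h8 : m + 1 ≤ 2 ^ (m - 1) := by
      obtain ⟨a, ha⟩ := Nat.exists_eq_add_of_le hm3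
      have h9 : m - 1 = a + 2 := by omega
      rw [h9, ha, pow_add]
      have : a < 2 ^ a := Nat.lt_two_pow_self
      omega
    have h9 : 5 ^ (m + 1) ≤ 5 ^ s := Nat.pow_le_pow_right (by norm_num) (by omega)
    have h10 : 4 ^ (m + 1) < 5 ^ (m + 1) := Nat.pow_lt_pow_left (by norm_num) (by omega)
    have h11 : 4 ^ (m + 1) = 2 * b := by
      rw [hb, ← pow_succ', show (4 : ℕ) = 2 ^ 2 by norm_num, ← pow_mul]; congr 1
    have h12 : r < b := by
      rw [hr, hb]; exact Nat.pow_lt_pow_right (by norm_num) (by omega)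
    omega
  have hrb : r ∣ b := by rw [hr, hb]; exact pow_dvd_pow 2 (by omega)
  have hr1 : 1 < r := by rw [hr]; exact Nat.one_lt_two_pow (by omega)
  have hrlt : r < b := by
    rw [hr, hb]; exact Nat.pow_lt_pow_right (by norm_num) (by omega)
  rcases (Nat.prime_five.dvd_mul).mp h5 with h | h
  · exact key _ h1 h (by rw [Nat.add_sub_cancel]; exact Nat.dvd_add hrb dvd_rfl) le_rfl (by omega)
  · exact key _ h2 h (by rw [Nat.add_sub_cancel]; exact Nat.dvd_sub hrb dvd_rfl) (by omega) (by omega)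

/-! ### the list -/

theorem sz_case {M : Type u} [Group M] [Finite M] (h : PP M) {F : Type} [Field F] [Fintype F]
    {m : ℕ} (hm : 1 ≤ m) (hF : Fintype.card F = 2 ^ (2 * m + 1)) (e : M ≃* Cfsg.Sz F m) :
    (Fintype.card F = 8 ∧ Nonempty (M ≃* ↥(Cfsg.Lie.Sz F 4))) ∨
    (Fintype.card F = 32 ∧ Nonempty (M ≃* ↥(Cfsg.Lie.Sz F 8))) := by
  have hlt : 2 ^ (m + 1) ≤ 2 ^ (2 * m + 1) := Nat.pow_le_pow_right (by norm_num) (by omega)
  have hlt' : 2 ^ (m + 1) < 2 ^ (2 * m + 1) := Nat.pow_lt_pow_right (by norm_num) (by omega)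
  have key : ∀ k ∈ ({2 ^ (2 * m + 1) + 2 ^ (m + 1) + 1, 2 ^ (2 * m + 1) - 2 ^ (m + 1) + 1} : Set ℕ),
      IsPrimePow k := by
    intro k hk
    obtain ⟨U, hU, hUk, -, -⟩ := Cfsg.Agent.S0333.result hm hF k hk
    obtain ⟨g, hg⟩ := hU.exists_generator
    have h1 : orderOf (g : Cfsg.Sz F m) = k := by
      rw [Subgroup.orderOf_coe, ← hUk]
      exact orderOf_eq_card_of_forall_mem_zpowers hg
    have h2 : orderOf (e.symm (g : Cfsg.Sz F m)) = k := by rw [MulEquiv.orderOf_eq, h1]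
    rw [← h2]
    apply h
    intro h3
    rw [h3, orderOf_one] at h2
    have hpos : 0 < 2 ^ (m + 1) := by positivity
    clear h1 hUk hU hg
    rcases hk with hk | hk
    · rw [hk] at h2
      generalize 2 ^ (2 * m + 1) = X at *
      generalize 2 ^ (m + 1) = Y at *
      omega
    · have hk' : k = 2 ^ (2 * m + 1) - 2 ^ (m + 1) + 1 := hk
      rw [hk'] at h2
      generalize 2 ^ (2 * m + 1) = X at *
      generalize 2 ^ (m + 1) = Y at *
      omega
  rcases suzuki_case hm (key _ (Or.inl rfl)) (key _ (Or.inr rfl)) with h1 | h1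
  · subst h1
    left
    refine ⟨by rw [hF]; norm_num, ⟨e.trans ?_⟩⟩
    exact (H24.SzIso.equiv hF hm)
  · subst h1
    right
    refine ⟨by rw [hF]; norm_num, ⟨e.trans ?_⟩⟩
    exact (H24.SzIso.equiv hF hm)

theorem simple_list {G : Type u} [Group G] [Finite G] [IsSimpleGroup G]
    (hna : ∃ a b : G, a * b ≠ b * a) (h : PP G) :
    Nonempty (G ≃* alternatingGroup (Fin 6)) ∨
    (∃ (F : Type) (_ : Field F) (_ : Fintype F), Fintype.card F ∈ ({4, 7, 8, 17} : Finset ℕ) ∧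
      Nonempty (G ≃* Matrix.ProjectiveSpecialLinearGroup (Fin 2) F)) ∨
    (∃ (F : Type) (_ : Field F) (_ : Fintype F), Fintype.card F = 4 ∧
      Nonempty (G ≃* Matrix.ProjectiveSpecialLinearGroup (Fin 3) F)) ∨
    (∃ (F : Type) (_ : Field F) (_ : Fintype F),
      (Fintype.card F = 8 ∧ Nonempty (G ≃* ↥(Cfsg.Lie.Sz F 4))) ∨
      (Fintype.card F = 32 ∧ Nonempty (G ≃* ↥(Cfsg.Lie.Sz F 8)))) := by
  have hS := H36.CITfin.sep_of_cit h.cit
  have hord : ∀ m : ℕ, m ≠ 1 → (∃ g : G, orderOf g = m) → IsPrimePow m := by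
    rintro m hm ⟨g, rfl⟩
    apply h
    intro h1
    exact hm (by rw [h1, orderOf_one])
  rcases H36.CITfin.classify hna hS with ⟨-, F, _, _, n, hn, hF, ⟨e⟩⟩ | ⟨-, -, F, _, _, m, hm, hF, ⟨e⟩⟩ |
    ⟨-, F, _, _, hF, ⟨e⟩⟩ | ⟨-, h1⟩
  · have h4 : 2 ^ 2 ≤ 2 ^ n := Nat.pow_le_pow_right (by norm_num) hn
    have h1 := two_pow_case hn (hord _ (by omega) (psl_orders_even hF e (Or.inr (Or.inl dvd_rfl))))
      (hord _ (by omega) (psl_orders_even hF e (Or.inr (Or.inr dvd_rfl))))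
    refine Or.inr (Or.inl ⟨F, inferInstance, inferInstance, ?_, ⟨e⟩⟩)
    rcases h1 with h1 | h1
    · rw [hF, h1]; decide
    · rw [hF, h1]; decide
  · exact Or.inr (Or.inr (Or.inr ⟨F, inferInstance, inferInstance, sz_case h hm hF e⟩))
  · rcases hF with hF | ⟨h7, hp, k, hk⟩
    · obtain ⟨e'⟩ := H6.SmallIsoB.psl2_nine hF
      exact Or.inl ⟨e.trans e'⟩
    · refine Or.inr (Or.inl ⟨F, inferInstance, inferInstance, ?_, ⟨e⟩⟩)
      rcases hk with hk | hk
      · have h1 := fermat_case hp h7 hk (hord _ (by omega)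
          (psl_orders_prime hp rfl (by omega) e (Or.inr (Or.inr dvd_rfl))))
        rw [h1]; decide
      · have h1 := mersenne_case hp h7 hk (hord _ (by omega)
          (psl_orders_prime hp rfl (by omega) e (Or.inr (Or.inl dvd_rfl))))
        rw [h1]; decide
  · exact Or.inr (Or.inr (Or.inl h1))

end H36.Eppo
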