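import Mathlib
import Cfsg.Agent.Lib.H36.EppoSimple
import Cfsg.Agent.S1475
import Cfsg.Agent.S0324

/-!
The number of primes dividing the order of a finite group all of whose elements have prime power
order.
-/
set_option autoImplicit false

namespace H36.Eppo

open H11.Eppo

universe u

theorem pf3 {n a b c q r : ℕ} (hq : q.Prime) (hr : r.Prime) (h : n = 2 ^ a * q ^ b * r ^ c) :
    n.primeFactors.card ≤ 3 := by
  have h1 : n.primeFactors ⊆ {2, q, r} := by
    intro p hp
    have hp' := Nat.prime_of_mem_primeFactors hp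
    have hd := Nat.dvd_of_mem_primeFactors hp
    rw [h] at hd
    rw [Finset.mem_insert, Finset.mem_insert, Finset.mem_singleton]
    rcases (hp'.dvd_mul).mp hd with h1 | h1
    · rcases (hp'.dvd_mul).mp h1 with h2 | h2
      · exact Or.inl ((Nat.prime_dvd_prime_iff_eq hp' Nat.prime_two).mp (hp'.dvd_of_dvd_pow h2))
      · exact Or.inr (Or.inl ((Nat.prime_dvd_prime_iff_eq hp' hq).mp (hp'.dvd_of_dvd_pow h2)))
    · exact Or.inr (Or.inr ((Nat.prime_dvd_prime_iff_eq hp' hr).mp (hp'.dvd_of_dvd_pow h1)))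
  exact (Finset.card_le_card h1).trans Finset.card_le_three

theorem pf4 {n a b c d q r s : ℕ} (hq : q.Prime) (hr : r.Prime) (hs : s.Prime)
    (h : n = 2 ^ a * q ^ b * r ^ c * s ^ d) : n.primeFactors.card ≤ 4 := by
  have h1 : n.primeFactors ⊆ {2, q, r, s} := by
    intro p hp
    have hp' := Nat.prime_of_mem_primeFactors hp
    have hd := Nat.dvd_of_mem_primeFactors hp
    rw [h] at hd
    rw [Finset.mem_insert, Finset.mem_insert, Finset.mem_insert, Finset.mem_singleton]
    rcases (hp'.dvd_mul).mp hd with h0 | h0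
    · rcases (hp'.dvd_mul).mp h0 with h1 | h1
      · rcases (hp'.dvd_mul).mp h1 with h2 | h2
        · exact Or.inl ((Nat.prime_dvd_prime_iff_eq hp' Nat.prime_two).mp (hp'.dvd_of_dvd_pow h2))
        · exact Or.inr (Or.inl ((Nat.prime_dvd_prime_iff_eq hp' hq).mp (hp'.dvd_of_dvd_pow h2)))
      · exact Or.inr (Or.inr (Or.inl ((Nat.prime_dvd_prime_iff_eq hp' hr).mp (hp'.dvd_of_dvd_pow h1))))
    · exact Or.inr (Or.inr (Or.inr ((Nat.prime_dvd_prime_iff_eq hp' hs).mp (hp'.dvd_of_dvd_pow h0))))
  exact (Finset.card_le_card h1).trans Finset.card_le_four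

theorem card_psl_of {M : Type u} [Group M] {F : Type*} [Field F] [Fintype F] {q g c : ℕ} (hF : Fintype.card F = q)
    (e : M ≃* Matrix.ProjectiveSpecialLinearGroup (Fin 2) F) (hg : Nat.gcd 2 (q - 1) = g)
    (hpos : 0 < g * (q - 1)) (hc : g * (q - 1) * c = (q ^ 2 - 1) * (q ^ 2 - q)) : Nat.card M = c := by
  have h := H6.SmallIsoA.card_psl2 (F := F)
  rw [hF, hg, ← mul_assoc] at h
  rw [Nat.card_congr e.toEquiv]
  exact Nat.eq_of_mul_eq_mul_left hpos (h.trans hc.symm)

theorem primes_main {G : Type u} [Group G] [Finite G] (h : PP G) :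
    (Nat.card G).primeFactors.card ≤ 3 ∨ ((Nat.card G).primeFactors.card ≤ 4 ∧
      ((∃ (F : Type) (_ : Field F) (_ : Fintype F), Fintype.card F = 4 ∧
        Nonempty (G ≃* Matrix.ProjectiveSpecialLinearGroup (Fin 3) F)) ∨
      (∃ (N : Subgroup G) (_ : N.Normal), IsPGroup 2 ↥N ∧
        ∃ (F : Type) (_ : Field F) (_ : Fintype F),
          (Fintype.card F = 8 ∧ Nonempty (G ⧸ N ≃* ↥(Cfsg.Lie.Sz F 4))) ∨
          (Fintype.card F = 32 ∧ Nonempty (G ⧸ N ≃* ↥(Cfsg.Lie.Sz F 8)))))) := by
  haveI : Fact (Nat.Prime 2) := ⟨Nat.prime_two⟩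
  have hord : ∀ m : ℕ, m ≠ 1 → (∃ g : G, orderOf g = m) → IsPrimePow m := by
    rintro m hm ⟨g, rfl⟩
    apply h
    intro h1
    exact hm (by rw [h1, orderOf_one])
  have hordq : ∀ m : ℕ, m ≠ 1 → (∃ g : G ⧸ Cfsg.pCore 2 G, orderOf g = m) → IsPrimePow m := by
    rintro m hm ⟨g, rfl⟩
    apply h.quotient _
    intro h1
    exact hm (by rw [h1, orderOf_one])
  by_cases hsol : Group.IsSolvable G
  · left
    have := Cfsg.Agent.S1475.result (G := G) (fun g => by
      by_cases hg : g = 1
      · exact Or.inr hg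
      · exact Or.inl (h g hg))
    omega
  have hS := H36.CITfin.sep_of_cit h.cit
  obtain ⟨a, ha⟩ := IsPGroup.iff_card.mp (H1.Cores.isPGroup_pCore (G := G) 2)
  have hcard : Nat.card G = 2 ^ a * Nat.card (G ⧸ Cfsg.pCore 2 G) := by
    rw [← ha, mul_comm]
    exact Subgroup.card_eq_card_quotient_mul_card_subgroup _
  rcases H36.SepMain.sep_main hS hsol with ⟨hs, -, F, _, _, n, hn, hF, ⟨e⟩⟩ |
    ⟨hs, -, -, F, _, _, m, hm, hF, ⟨e⟩⟩ | ⟨-, h3⟩
  · left
    have h4 : 2 ^ 2 ≤ 2 ^ n := Nat.pow_le_pow_right (by norm_num) hn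
    have h1 := two_pow_case hn (hordq _ (by omega) (psl_orders_even hF e (Or.inr (Or.inl dvd_rfl))))
      (hordq _ (by omega) (psl_orders_even hF e (Or.inr (Or.inr dvd_rfl))))
    rcases h1 with h1 | h1
    · subst h1
      have h2 := card_psl_of (q := 4) (g := 1) (c := 60) (by rw [hF]; norm_num) e (by decide) (by norm_num)
        (by norm_num)
      exact pf3 (q := 3) (r := 5) (a := a + 2) (b := 1) (c := 1) (by norm_num) (by norm_num)
        (by rw [hcard, h2]; ring)
    · subst h1
      have h2 := card_psl_of (q := 8) (g := 1) (c := 504) (by rw [hF]; norm_num) e (by decide) (by norm_num)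
        (by norm_num)
      exact pf3 (q := 3) (r := 7) (a := a + 3) (b := 2) (c := 1) (by norm_num) (by norm_num)
        (by rw [hcard, h2]; ring)
  · right
    have h5 := sz_case (h.quotient _) hm hF e
    constructor
    · have h2 : Nat.card (G ⧸ Cfsg.pCore 2 G) = _ := (Nat.card_congr e.toEquiv).trans
        (Cfsg.Agent.S0324.result hm hF)
      rw [← hF] at h2
      rcases h5 with ⟨h6, -⟩ | ⟨h6, -⟩
      · rw [h6] at h2
        exact pf4 (q := 5) (r := 7) (s := 13) (a := a + 6) (b := 1) (c := 1) (d := 1) (by norm_num) (by norm_num)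
          (by norm_num) (by rw [hcard, h2]; norm_num; ring)
      · rw [h6] at h2
        exact pf4 (q := 5) (r := 31) (s := 41) (a := a + 10) (b := 2) (c := 1) (d := 1) (by norm_num) (by norm_num)
          (by norm_num) (by rw [hcard, h2]; norm_num; ring)
    · right
      exact ⟨Cfsg.pCore 2 G, inferInstance, H1.Cores.isPGroup_pCore (G := G) 2, F, inferInstance,
        inferInstance, h5⟩
  · rcases h3 with ⟨F, _, _, hF, ⟨e⟩⟩ | ⟨L, -, hL, -, F, _, _, hF, ⟨e⟩⟩ | ⟨F, _, _, hF, ⟨e⟩⟩
    · left
      rcases hF with hF | ⟨h7, hp, k, hk⟩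
      · have h2 := card_psl_of (q := 9) (g := 2) (c := 360) hF e (by decide) (by norm_num)
          (by norm_num)
        exact pf3 (q := 3) (r := 5) (a := 3) (b := 2) (c := 1) (by norm_num) (by norm_num)
          (by rw [h2]; norm_num)
      · rcases hk with hk | hk
        · have h1 := fermat_case hp h7 hk (hord _ (by omega)
            (psl_orders_prime hp rfl (by omega) e (Or.inr (Or.inr dvd_rfl))))
          have h2 := card_psl_of (q := 17) (g := 2) (c := 2448) h1 e (by decide) (by norm_num)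
            (by norm_num)
          exact pf3 (q := 3) (r := 17) (a := 4) (b := 2) (c := 1) (by norm_num) (by norm_num)
            (by rw [h2]; norm_num)
        · have h1 := mersenne_case hp h7 hk (hord _ (by omega)
            (psl_orders_prime hp rfl (by omega) e (Or.inr (Or.inl dvd_rfl))))
          have h2 := card_psl_of (q := 7) (g := 2) (c := 168) h1 e (by decide) (by norm_num)
            (by norm_num)
          exact pf3 (q := 3) (r := 7) (a := 3) (b := 1) (c := 1) (by norm_num) (by norm_num)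
            (by rw [h2]; norm_num)
    · left
      have h2 := card_psl_of (q := 9) (g := 2) (c := 360) hF e (by decide) (by norm_num)
          (by norm_num)
      have h4 := L.card_mul_index
      rw [h2, hL] at h4
      exact pf3 (q := 3) (r := 5) (a := 4) (b := 2) (c := 1) (by norm_num) (by norm_num)
          (by rw [← h4]; norm_num)
    · right
      have h2 := card_psl3_four hF e
      exact ⟨pf4 (q := 3) (r := 5) (s := 7) (a := 6) (b := 2) (c := 1) (d := 1) (by norm_num) (by norm_num)
          (by norm_num) (by rw [h2]; norm_num), Or.inl ⟨F, inferInstance, inferInstance, hF, ⟨e⟩⟩⟩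

end H36.Eppo
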