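import Mathlib
import Cfsg.Agent.Lib.H36.NSf
import Cfsg.Agent.Lib.H36.StronglyEmbedded
import Cfsg.Agent.S0508
import Cfsg.Agent.S1279
import Cfsg.Agent.S0217

/-!
# `NS` groups: the rank two theorem, strongly embedded subgroups
-/

set_option autoImplicit false

open Subgroup Cfsg
open scoped commutatorElement

namespace H36.NS

variable {G : Type*} [Group G] [Finite G] {r : ℕ}

/-- Sylow subgroups of `G` inside `M` are conjugate in `M` -/
theorem conj_in {M : Subgroup G} (T Q : Sylow 2 G) (hT : (T : Subgroup G) ≤ M) (hQ : (Q : Subgroup G) ≤ M) :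
    ∃ m ∈ M, ∀ x ∈ (T : Subgroup G), m * x * m⁻¹ ∈ (Q : Subgroup G) := by
  haveI : Fact (Nat.Prime 2) := ⟨Nat.prime_two⟩
  obtain ⟨m, hm⟩ := MulAction.exists_smul_eq M (T.subtype hT) (Q.subtype hQ)
  refine ⟨m, m.2, ?_⟩
  intro x hx
  have h1 : (⟨x, hT hx⟩ : M) ∈ T.subtype hT := hx
  have h2 := H36.StronglyEmbedded.conj_mem_smul m (T.subtype hT) h1
  rw [hm] at h2
  exact h2

theorem conj_into {M : Subgroup G} (T : Sylow 2 G) (hT : (T : Subgroup G) ≤ M) {w : G} (hw : w ∈ M) {k : ℕ}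
    (hk : w ^ 2 ^ k = 1) : ∃ m ∈ M, m * w * m⁻¹ ∈ (T : Subgroup G) := by
  haveI : Fact (Nat.Prime 2) := ⟨Nat.prime_two⟩
  have hp : IsPGroup 2 (zpowers (⟨w, hw⟩ : M)) := by
    rw [isPGroup_iff_pow_pow_eq_one]
    rintro ⟨y, hy⟩
    obtain ⟨j, rfl⟩ := mem_zpowers_iff.1 hy
    refine ⟨k, Subtype.ext (Subtype.ext ?_)⟩
    show (w ^ j) ^ 2 ^ k = 1
    rw [← zpow_natCast, ← zpow_mul, mul_comm, zpow_mul, zpow_natCast, hk, one_zpow]
  obtain ⟨P, hP⟩ := hp.exists_le_sylow
  obtain ⟨m, hm⟩ := MulAction.exists_smul_eq M P (T.subtype hT)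
  refine ⟨m, m.2, ?_⟩
  have h2 := H36.StronglyEmbedded.conj_mem_smul m P (hP (mem_zpowers (⟨w, hw⟩ : M)))
  rw [hm] at h2
  exact h2

theorem cent_conj_le {M : Subgroup G} {m w : G} (hm : m ∈ M)
    (h : centralizer ({m * w * m⁻¹} : Set G) ≤ M) : centralizer ({w} : Set G) ≤ M := by
  intro x hx
  have h1 : m * x * m⁻¹ ∈ centralizer ({m * w * m⁻¹} : Set G) := by
    rw [mem_cent] at hx ⊢
    calc m * x * m⁻¹ * (m * w * m⁻¹) = m * (x * w) * m⁻¹ := by group
      _ = m * w * m⁻¹ * (m * x * m⁻¹) := by rw [hx]; group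
  have h2 := mul_mem (mul_mem (inv_mem hm) (h h1)) hm
  have e : m⁻¹ * (m * x * m⁻¹) * m = x := by group
  rwa [e] at h2

/-- a criterion for strong embedding -/
theorem NS.se (h : NS G r) (T : Sylow 2 G) (hT1 : (T : Subgroup G) ≠ ⊥) {M : Subgroup G} (hM : M ≠ ⊤)
    (hN : normalizer ((T : Subgroup G) : Set G) ≤ M)
    (hC : ∀ v ∈ (T : Subgroup G), v ≠ 1 → centralizer ({v} : Set G) ≤ M) : IsStronglyEmbedded M := by
  haveI : Fact (Nat.Prime 2) := ⟨Nat.prime_two⟩
  have hTM : (T : Subgroup G) ≤ M := le_normalizer.trans hN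
  refine ⟨hM, ?_, ?_⟩
  · obtain ⟨t, ht, ht1⟩ : ∃ t ∈ (T : Subgroup G), t ≠ 1 := by
      by_contra hcon
      push Not at hcon
      exact hT1 ((eq_bot_iff_forall _).2 hcon)
    have h1 := Subgroup.orderOf_dvd_natCard _ (hTM ht)
    rw [h.order_two T.isPGroup' ht ht1] at h1
    exact even_iff_two_dvd.2 h1
  · intro g hg
    rw [← Nat.not_even_iff_odd]
    intro hev
    obtain ⟨⟨w, hw0⟩, hw⟩ := exists_prime_orderOf_dvd_card' (G := ↥(M ⊓ M.map (MulAut.conj g).toMonoidHom)) 2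
      (even_iff_two_dvd.1 hev)
    rw [← Subgroup.orderOf_coe] at hw
    simp only at hw
    obtain ⟨hw1, z, hz, hzw⟩ := mem_inf.1 hw0
    have hzw' : g * z * g⁻¹ = w := hzw
    -- centralisers of involutions of `M` are in `M`
    have hcent : ∀ u ∈ M, orderOf u = 2 → centralizer ({u} : Set G) ≤ M := by
      intro u hu hu2
      obtain ⟨m, hm, hmu⟩ := conj_into T hTM hu (k := 1) (by rw [pow_one, ← hu2, pow_orderOf_eq_one])
      apply cent_conj_le hm
      apply hC _ hmu
      intro hc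
      have : u = m⁻¹ * (m * u * m⁻¹) * m := by group
      rw [hc] at this
      have h1 : u = 1 := by rw [this]; group
      rw [h1, orderOf_one] at hu2
      omega
    have hz2 : orderOf z = 2 := by
      have : (MulAut.conj g) z = w := hzw
      rw [← hw, ← this, MulEquiv.orderOf_eq]
    have hCw := hcent w hw1 hw
    have hCz := hcent z hz hz2
    obtain ⟨Q, hQ⟩ : ∃ Q : Sylow 2 G, w ∈ (Q : Subgroup G) := by
      have hp : IsPGroup 2 (zpowers w) := by
        rw [isPGroup_iff_pow_pow_eq_one]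
        rintro ⟨y, hy⟩
        obtain ⟨j, rfl⟩ := mem_zpowers_iff.1 hy
        refine ⟨1, Subtype.ext ?_⟩
        show (w ^ j) ^ 2 ^ 1 = 1
        rw [← zpow_natCast, ← zpow_mul, mul_comm, zpow_mul, zpow_natCast, pow_one, ← hw, pow_orderOf_eq_one,
          one_zpow]
      obtain ⟨Q, hQ⟩ := hp.exists_le_sylow
      exact ⟨Q, hQ (mem_zpowers w)⟩
    have hQM : (Q : Subgroup G) ≤ M := by
      intro x hx
      exact hCw (mem_cent.2 (h.comm_two Q.isPGroup' hx hQ))
    -- the conjugate by `g⁻¹`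
    have hQz : ∀ x ∈ (Q : Subgroup G), g⁻¹ * x * g ∈ M := by
      intro x hx
      apply hCz
      rw [mem_cent]
      have h1 := h.comm_two Q.isPGroup' hx hQ
      rw [← hzw'] at h1
      calc g⁻¹ * x * g * z = g⁻¹ * (x * (g * z * g⁻¹)) * g := by group
        _ = z * (g⁻¹ * x * g) := by rw [h1]; group
    obtain ⟨m, hm, hmQ⟩ := conj_in T Q hTM hQM
    have hQ' : ((g⁻¹ • Q : Sylow 2 G) : Subgroup G) ≤ M := by
      intro x hx
      have h1 := H36.StronglyEmbedded.conj_mem_smul g (g⁻¹ • Q) hx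
      rw [smul_inv_smul] at h1
      have h2 := hQz _ h1
      have e : g⁻¹ * (g * x * g⁻¹) * g = x := by group
      rwa [e] at h2
    obtain ⟨m', hm', hmQ'⟩ := conj_in (g⁻¹ • Q) T hQ' hTM
    have hkey : m' * g⁻¹ * m ∈ normalizer ((T : Subgroup G) : Set G) := by
      apply mem_norm_of_conj
      intro x hx
      have h1 := H36.StronglyEmbedded.conj_mem_smul g⁻¹ Q (hmQ x hx)
      have h2 := hmQ' _ h1
      have e : m' * (g⁻¹ * (m * x * m⁻¹) * g⁻¹⁻¹) * m'⁻¹ = m' * g⁻¹ * m * x * (m' * g⁻¹ * m)⁻¹ := by group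
      rwa [e] at h2
    apply hg
    have h3 := hN hkey
    have e : g = m * (m' * g⁻¹ * m)⁻¹ * m' := by group
    rw [e]
    exact mul_mem (mul_mem hm (inv_mem h3)) hm'

/-- rank at least three: the signalizer functor theorem gives a strongly embedded subgroup -/
theorem NS.exists_se (h : NS G r) (T : Sylow 2 G) (h8 : 8 ≤ Nat.card (T : Subgroup G))
    (hO : ∀ N : Subgroup G, N.Normal → Odd (Nat.card N) → N = ⊥)
    (hT : normalizer ((T : Subgroup G) : Set G) ≠ ⊤) : ∃ M : Subgroup G, IsStronglyEmbedded M := by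
  haveI : Fact (Nat.Prime 2) := ⟨Nat.prime_two⟩
  have hcomm : ∀ x ∈ (T : Subgroup G), ∀ z ∈ (T : Subgroup G), x * z = z * x :=
    fun x hx z hz => h.comm_two T.isPGroup' hx hz
  have hsq : ∀ x ∈ (T : Subgroup G), x ^ 2 = 1 := fun x hx => by rw [pow_two]; exact h.sq_T T hx
  have hT1 : (T : Subgroup G) ≠ ⊥ := by
    intro hb
    rw [hb, Subgroup.card_bot] at h8
    omega
  have hEA : IsElementaryAbelian 2 (T : Subgroup G) :=
    ⟨⟨⟨fun a b => Subtype.ext (hcomm a a.2 b b.2)⟩⟩, hsq⟩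
  have hsolv : ∀ a ∈ (T : Subgroup G), a ≠ 1 → Group.IsSolvable ↥(centralizer ({a} : Set G)) :=
    fun a ha ha1 => h.solvable_of_cent (Or.inl (h.order_two T.isPGroup' ha ha1)) le_rfl
  obtain ⟨⟨hθC, hθp, hθinv, hθbal⟩, hθs⟩ := Cfsg.Agent.S1279.result 2 (T : Subgroup G) hEA (by omega) hsolv
  obtain ⟨hodd, hfix⟩ := Cfsg.Agent.S0217.result (p := 2) (T : Subgroup G) hcomm hsq (by omega)
    (fun a => centralizerPPrimeCore 2 a) hθC hθp hθinv hθs hθbal
  set Θ : Subgroup G := ⨆ a : {a : G // a ∈ (T : Subgroup G) ∧ a ≠ 1}, centralizerPPrimeCore 2 (a : G) with hΘ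
  have hUΘ : ∀ v ∈ (T : Subgroup G), v ≠ 1 → oc (centralizer ({v} : Set G)) ≤ Θ := by
    intro v hv hv1
    exact le_iSup (fun a : {a : G // a ∈ (T : Subgroup G) ∧ a ≠ 1} => centralizerPPrimeCore 2 (a : G)) ⟨v, hv, hv1⟩
  have hNΘ : normalizer ((T : Subgroup G) : Set G) ≤ normalizer (Θ : Set G) := by
    intro n hn
    apply mem_norm_of_conj
    have hle : Θ ≤ Θ.comap (MulAut.conj n).toMonoidHom := by
      rw [hΘ]
      apply iSup_le
      rintro ⟨a, ha, ha1⟩ x hx
      show n * x * n⁻¹ ∈ Θ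
      have h1 : n * a * n⁻¹ ∈ (T : Subgroup G) := conj_mem_norm hn ha
      have h2 : n * a * n⁻¹ ≠ 1 := by
        intro hc
        apply ha1
        have : a = n⁻¹ * (n * a * n⁻¹) * n := by group
        rw [this, hc]; group
      have h3 : n * x * n⁻¹ ∈ oc (centralizer ({n * a * n⁻¹} : Set G)) := by
        rw [← map_oc_cent]
        exact ⟨x, hx, rfl⟩
      exact hUΘ _ h1 h2 h3
    intro x hx
    exact hle hx
  have hCdec : ∀ v ∈ (T : Subgroup G), v ≠ 1 → ∀ g ∈ centralizer ({v} : Set G),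
      ∃ n ∈ normalizer ((T : Subgroup G) : Set G), ∃ u ∈ oc (centralizer ({v} : Set G)), g = n * u := by
    intro v hv hv1 g hg
    obtain ⟨n, -, hn, u, hu, he⟩ := exists_mul T (fun x hx => mem_cent.2 (hcomm x hx v hv)) (hsolv v hv hv1)
      hcomm hg
    exact ⟨n, hn, u, hu, he⟩
  by_cases hΘ1 : Θ = ⊥
  · refine ⟨_, h.se T hT1 hT le_rfl ?_⟩
    intro v hv hv1 g hg
    obtain ⟨n, hn, u, hu, rfl⟩ := hCdec v hv hv1 g hg
    have hu1 := hUΘ v hv hv1 hu
    rw [hΘ1, mem_bot] at hu1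
    rw [hu1, mul_one]
    exact hn
  · refine ⟨normalizer (Θ : Set G), h.se T hT1 ?_ hNΘ ?_⟩
    · intro htop
      apply hΘ1
      apply hO Θ (normalizer_eq_top_iff.1 htop)
      rw [← Nat.not_even_iff_odd, even_iff_two_dvd]
      exact hodd
    · intro v hv hv1 g hg
      obtain ⟨n, hn, u, hu, rfl⟩ := hCdec v hv hv1 g hg
      exact mul_mem (hNΘ hn) (le_normalizer (hUΘ v hv hv1 hu))

namespace R2

variable {T : Sylow 2 G} {y : G} (h : R2 r T y)

include h

theorem klein : Nonempty ((T : Subgroup G) ≃* DihedralGroup 2) := by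
  haveI : IsKleinFour (T : Subgroup G) := by
    refine ⟨h.four, ?_⟩
    have h1 : Monoid.exponent (T : Subgroup G) ∣ 2 := by
      apply Monoid.exponent_dvd_of_forall_pow_eq_one
      intro x
      rw [pow_two]
      exact Subtype.ext (h.ns.sq_T T x.2)
    rcases (Nat.dvd_prime Nat.prime_two).1 h1 with h2 | h2
    · exfalso
      rw [Monoid.exp_eq_one_iff] at h2
      have := h.four
      rw [Nat.card_unique] at this
      omega
    · exact h2
  haveI : IsKleinFour (DihedralGroup 2) := by infer_instance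
  exact IsKleinFour.nonempty_mulEquiv

/-- an involution of `T` different from `t` -/
theorem exists_other {t : G} : ∃ s ∈ (T : Subgroup G), s ≠ 1 ∧ s ≠ t := by
  by_contra hcon
  push Not at hcon
  have hle : ((T : Subgroup G) : Set G) ⊆ {1, t} := by
    intro x hx
    by_cases h1 : x = 1
    · exact Or.inl h1
    · exact Or.inr (hcon x hx h1)
  have h2 := Set.ncard_le_ncard hle (Set.toFinite _)
  have h3 : ((T : Subgroup G) : Set G).ncard = 4 := h.four
  have h4 := Set.ncard_insert_le (1 : G) {t}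
  rw [Set.ncard_singleton] at h4
  omega

/-- **rank two**, `O(C(T)) = 1` -/
theorem psl [IsSimpleGroup G] (hW : oc (centralizer ((T : Subgroup G) : Set G)) = ⊥) :
    ∃ (F : Type) (_ : Field F) (_ : Fintype F), Odd (Fintype.card F) ∧
      Nonempty (G ≃* Matrix.ProjectiveSpecialLinearGroup (Fin 2) F) := by
  obtain ⟨t, ht, ht1, -⟩ := h.exists_other (t := 1)
  have ht2 := h.ns.order_two T.isPGroup' ht ht1
  have htt := h.ns.sq_T T ht
  set O := oc (centralizer ({t} : Set G)) with hO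
  have hOc : ∀ x ∈ O, x * t = t * x := fun x hx => mem_cent.1 (oc_le _ hx)
  have hcz : O ≠ ⊥ → (T : Subgroup G) ⊓ centralizer (O : Set G) = zpowers t := by
    intro hO1
    obtain ⟨a, ha, ha1⟩ : ∃ a ∈ O, a ≠ 1 := by
      by_contra hcon
      push Not at hcon
      exact hO1 ((eq_bot_iff_forall _).2 hcon)
    apply le_antisymm
    · rintro x ⟨hx, hxc⟩
      by_cases hx1 : x = 1
      · rw [hx1]; exact one_mem _
      by_cases hxt : x = t
      · rw [hxt]; exact mem_zpowers t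
      exfalso
      have h1 := h.inverts hW ht ht1 hx hx1 hxt ha
      have h2 : a * x = x * a := mem_centz.1 hxc a ha
      rw [← h2, mul_inv_cancel_right] at h1
      have h3 : a ^ 2 = 1 := by rw [pow_two]; nth_rw 2 [h1]; exact mul_inv_cancel a
      have hTU : (T : Subgroup G) ≤ normalizer (O : Set G) := (h.le_cent_sing ht).trans (le_norm_oc _)
      have h4 := h.odd_order (h.pgroup_odd hTU (odd_oc _)) ha
      have h5 : orderOf a ∣ 2 := orderOf_dvd_of_pow_eq_one h3
      rcases (Nat.dvd_prime Nat.prime_two).1 h5 with h6 | h6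
      · exact ha1 (orderOf_eq_one_iff.1 h6)
      · rw [h6] at h4; exact absurd h4 (by decide)
    · rw [zpowers_le]
      exact ⟨ht, mem_centz.2 (fun x hx => hOc x hx)⟩
  refine Cfsg.Agent.S0508.result T 2 le_rfl h.klein t ht2 ht (fun s hs => h.comm hs ht) O rfl ?_ ?_ ?_
  · intro hO1
    rw [hcz hO1]
    refine ⟨inferInstance, ?_⟩
    have h1 := Subgroup.relIndex_mul_relIndex ⊥ (zpowers t) (T : Subgroup G) bot_le (zpowers_le.2 ht)
    rw [Subgroup.relIndex_bot_left, Subgroup.relIndex_bot_left, h.four, Nat.card_zpowers, ht2] at h1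
    omega
  · intro s hs hsO u hu
    have hs1 : s ≠ 1 := by rintro rfl; exact hsO (one_mem _)
    have hst : s ≠ t := by
      rintro rfl
      exact hsO (mem_centz.2 (fun x hx => hOc x hx))
    exact h.inverts hW ht ht1 hs hs1 hst hu
  · intro Y hY hY1
    exact h.norm_le hW ht ht1 hY hY1

/-- rank two, `T` centralises all `O(C(v))`: `N(T)` is strongly embedded -/
theorem se (hT : normalizer ((T : Subgroup G) : Set G) ≠ ⊤)
    (hc : ∀ v ∈ (T : Subgroup G), v ≠ 1 → (T : Subgroup G) ≤ centralizer ((oc (centralizer ({v} : Set G)) : Subgroup G) : Set G)) :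
    IsStronglyEmbedded (normalizer ((T : Subgroup G) : Set G)) := by
  refine h.ns.se T h.nt hT le_rfl ?_
  intro v hv hv1 g hg
  obtain ⟨u, hu, x, hx, rfl⟩ := h.cent hv hv1 hg
  refine mul_mem ?_ (le_normalizer hx)
  apply centralizer_le_normalizer
  rw [mem_centz]
  intro t ht
  exact (mem_centz.1 (hc v hv hv1 ht) u hu).symm

end R2

end H36.NS
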