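import Mathlib
import Cfsg.Agent.Lib.H36.NSg
import Cfsg.Agent.Lib.H36.NSh
import Cfsg.Agent.Lib.H36.CITfin
import Cfsg.Agent.Lib.H83.BdC3
import Cfsg.Agent.Lib.H18.Bender
import Cfsg.Agent.Lib.H24.U3Syl
import Cfsg.Agent.Lib.H24.SzIso
import Cfsg.Agent.S1136
import Cfsg.Agent.S0330

/-!
# Simple `NS` groups
-/

set_option autoImplicit false

open Subgroup Cfsg
open scoped commutatorElement

namespace H36.NS

universe u

theorem rankOne : H16.BSSimple.RankOneThm.{u, u} := by
  intro G Ω _ _ _ _ a t Q hS h2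
  exact Cfsg.Agent.S1136.result hS h2

variable {G : Type u} [Group G] [Finite G] {r : ℕ}

/-- Sylow subgroups of type exponent two: Bender's theorem gives `PSL(2, 2^n)` -/
theorem NS.of_se [IsSimpleGroup G] (h : NS G r) {M : Subgroup G} (hM : IsStronglyEmbedded M) :
    ∃ (F : Type) (_ : Field F) (_ : Fintype F) (n : ℕ), 2 ≤ n ∧ Fintype.card F = 2 ^ n ∧
      Nonempty (G ≃* Matrix.ProjectiveSpecialLinearGroup (Fin 2) F) := by
  haveI : Fact (Nat.Prime 2) := ⟨Nat.prime_two⟩
  rcases H83.BdC.concl_of_se H18.Bender.bender rankOne hM with ⟨F, _, _, ⟨n, hn, hF⟩, he⟩ |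
    ⟨F, _, _, m, hm, hF, ⟨e⟩⟩ | ⟨F, _, _, n, hn, hF, ⟨e⟩⟩
  · exact ⟨F, _, _, n, hn, hF, he⟩
  · exfalso
    have e2 : G ≃* Cfsg.Sz F m := e.trans (H24.SzIso.equiv hF hm).symm
    haveI : Finite (Cfsg.Sz F m) := Finite.of_equiv G e2.toEquiv
    obtain ⟨P⟩ : Nonempty (Sylow 2 (Cfsg.Sz F m)) := inferInstance
    obtain ⟨-, h4, -⟩ := Cfsg.Agent.S0330.result hm hF P
    have hNS : NS (Cfsg.Sz F m) r := h.of_inj e2.symm.toMonoidHom e2.symm.injective
    have h5 : Monoid.exponent P ∣ 2 := by
      apply Monoid.exponent_dvd_of_forall_pow_eq_one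
      intro x
      rw [pow_two]
      exact Subtype.ext (hNS.sq_T P x.2)
    rw [h4] at h5
    omega
  · exfalso
    haveI : Finite (PSU 3 F (2 ^ n)) := Finite.of_equiv G e.toEquiv
    have hNS : NS (PSU 3 F (2 ^ n)) r := h.of_inj e.symm.toMonoidHom e.symm.injective
    obtain ⟨S⟩ : Nonempty (Sylow 2 (PSU 3 F (2 ^ n))) := inferInstance
    have two : (2 : F) = 0 := by
      rw [← pow_mul] at hF
      exact two_eq_zero_of_card (by omega) hF
    obtain ⟨f⟩ := H24.U3Syl.main two hF hn rfl S
    obtain ⟨-, -, ⟨x, y, hxy⟩, -⟩ := H24.U3Syl.isSuzuki_U two hF hn rfl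
    apply hxy
    apply f.symm.injective
    rw [map_mul, map_mul]
    exact Subtype.ext (hNS.comm_two S.isPGroup' (f.symm x).2 (f.symm y).2)

theorem even_of_not_solvable (hns : ¬ Group.IsSolvable G) : 2 ∣ Nat.card G := by
  by_contra hcon
  apply hns
  apply H18.OddOrder.solvable
  rw [← Nat.not_even_iff_odd, even_iff_two_dvd]
  exact hcon

/-- in a non-solvable `NS` group without odd normal subgroups, an element acts on `T` -/
theorem NS.exists_nc (h : NS G r) (hns : ¬ Group.IsSolvable G) (T : Sylow 2 G) :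
    ∃ n ∈ normalizer ((T : Subgroup G) : Set G), n ∉ centralizer ((T : Subgroup G) : Set G) := by
  haveI : Fact (Nat.Prime 2) := ⟨Nat.prime_two⟩
  by_contra hcon
  push Not at hcon
  apply hns
  -- normal 2-complement
  have hdec : ∀ g : G, ∃ u ∈ oc (⊤ : Subgroup G), ∃ x ∈ (T : Subgroup G), g = u * x :=
    fun g => exists_mul_of_central T le_top (fun n _ hn => hcon n hn) (mem_top g)
  set K := oc (⊤ : Subgroup G) with hK
  have hKn : K.Normal := by
    rw [← normalizer_eq_top_iff, eq_top_iff]
    exact le_norm_oc _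
  have hKs : Group.IsSolvable K := H18.OddOrder.solvable (odd_oc _)
  have hQ : Group.IsSolvable (G ⧸ K) := by
    have hsurj : Function.Surjective ((QuotientGroup.mk' K).comp (T : Subgroup G).subtype) := by
      intro q
      obtain ⟨g, rfl⟩ := QuotientGroup.mk'_surjective K q
      obtain ⟨u, hu, x, hx, rfl⟩ := hdec g
      refine ⟨⟨x, hx⟩, ?_⟩
      show QuotientGroup.mk' K x = QuotientGroup.mk' K (u * x)
      rw [map_mul]
      have : QuotientGroup.mk' K u = 1 := by
        rw [← MonoidHom.mem_ker, QuotientGroup.ker_mk']; exact hu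
      rw [this, one_mul]
    haveI : Group.IsSolvable (T : Subgroup G) := by
      haveI := T.isPGroup'.isNilpotent
      infer_instance
    exact Group.isSolvable_of_surjective hsurj
  exact Group.isSolvable_of_ker_le_range K.subtype (QuotientGroup.mk' K)
    (by rw [QuotientGroup.ker_mk', Subgroup.range_subtype])

/-- **simple `NS` groups** -/
theorem NS.simple [IsSimpleGroup G] (h : NS G r) (hns : ¬ Group.IsSolvable G) :
    (∃ (F : Type) (_ : Field F) (_ : Fintype F), Odd (Fintype.card F) ∧
      Nonempty (G ≃* Matrix.ProjectiveSpecialLinearGroup (Fin 2) F)) ∨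
    (∃ (F : Type) (_ : Field F) (_ : Fintype F) (n : ℕ), 2 ≤ n ∧ Fintype.card F = 2 ^ n ∧
      Nonempty (G ≃* Matrix.ProjectiveSpecialLinearGroup (Fin 2) F)) := by
  haveI : Fact (Nat.Prime 2) := ⟨Nat.prime_two⟩
  obtain ⟨T⟩ : Nonempty (Sylow 2 G) := inferInstance
  have h2 := even_of_not_solvable hns
  have hTs : Group.IsSolvable (T : Subgroup G) := by
    haveI := T.isPGroup'.isNilpotent
    infer_instance
  have hTtop : (T : Subgroup G) ≠ ⊤ := by
    intro htop
    apply hns
    rw [htop] at hTs
    exact Group.isSolvable_of_surjective (f := (Subgroup.topEquiv : (⊤ : Subgroup G) ≃* G).toMonoidHom)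
      Subgroup.topEquiv.surjective
  have hT1 : (T : Subgroup G) ≠ ⊥ := by
    intro hb
    have h3 := T.card_eq_multiplicity
    have h4 : Nat.card T = 1 := by
      have : Nat.card (T : Subgroup G) = 1 := by rw [hb, Subgroup.card_bot]
      exact this
    rw [h4] at h3
    have h5 : 0 < (Nat.card G).factorization 2 := Nat.Prime.factorization_pos_of_dvd Nat.prime_two Nat.card_pos.ne' h2
    have h6 := Nat.one_lt_pow h5.ne' (by norm_num : 1 < 2)
    omega
  have hTN : normalizer ((T : Subgroup G) : Set G) ≠ ⊤ := by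
    intro htop
    have hn : (T : Subgroup G).Normal := normalizer_eq_top_iff.1 htop
    rcases hn.eq_bot_or_eq_top with h3 | h3
    · exact hT1 h3
    · exact hTtop h3
  obtain ⟨n, hn, hnc⟩ := h.exists_nc hns T
  obtain ⟨k, hk⟩ := IsPGroup.iff_card.1 T.isPGroup'
  have hk' : Nat.card (T : Subgroup G) = 2 ^ k := hk
  rcases Nat.lt_or_ge k 3 with hk3 | hk3
  · have hk2 : k = 2 := by
      by_contra hne
      have : k = 0 ∨ k = 1 := by omega
      rcases this with rfl | rfl
      · exact hT1 (Subgroup.card_eq_one.1 (by simpa using hk'))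
      · -- order two
        apply hnc
        rw [mem_centz]
        intro t ht
        by_cases ht1 : t = 1
        · rw [ht1]; simp
        have hset : ((T : Subgroup G) : Set G) = {1, t} := by
          symm
          apply Set.eq_of_subset_of_ncard_le
          · rintro x (rfl | rfl)
            · exact one_mem _
            · exact ht
          · have e1 : ((T : Subgroup G) : Set G).ncard = 2 := by
              have : Nat.card (T : Subgroup G) = 2 := by simpa using hk'
              exact this
            rw [e1, Set.ncard_pair (Ne.symm ht1)]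
          · exact Set.toFinite _
        have h3 : n * t * n⁻¹ ∈ ((T : Subgroup G) : Set G) := conj_mem_norm hn ht
        rw [hset] at h3
        rcases h3 with h3 | h3
        · exfalso
          apply ht1
          have : t = n⁻¹ * (n * t * n⁻¹) * n := by group
          rw [this, h3]; group
        · exact (mul_inv_eq_iff_eq_mul.1 h3).symm
    subst hk2
    obtain ⟨y, hy, hyp, hy2, hyc⟩ := h.exists_prime T hT1 le_rfl ⟨n, hn, hnc⟩
    have h2 : R2 r T y := ⟨h, by rw [hk']; norm_num, hyp, hy2, hy, hyc⟩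
    by_cases hW : oc (centralizer ((T : Subgroup G) : Set G)) = ⊥
    · exact Or.inl (h2.psl hW)
    · exact Or.inr (h.of_se (h2.se hTN (fun v hv hv1 => h2.triv_of_W hW hv hv1)))
  · have h8 : 8 ≤ Nat.card (T : Subgroup G) := by
      rw [hk']
      calc 8 = 2 ^ 3 := by norm_num
        _ ≤ 2 ^ k := Nat.pow_le_pow_right (by norm_num) hk3
    obtain ⟨M, hM⟩ := h.exists_se T h8 (by
      intro N hN hodd
      rcases hN.eq_bot_or_eq_top with h3 | h3
      · exact h3
      · exfalso
        rw [h3, Subgroup.card_top] at hodd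
        exact (Nat.not_even_iff_odd.2 hodd) (even_iff_two_dvd.2 h2)) hTN
    exact Or.inr (h.of_se hM)

end H36.NS
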