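import Mathlib
import Cfsg.Agent.Lib.H36.EppoSimple

/-!
# Arithmetic for groups with at most one composite element order
-/

set_option autoImplicit false

namespace H36.NS

open H36.Eppo

/-- `m` is an element order, the composite ones are unique -/
structure OneComp (P : ℕ → Prop) : Prop where
  dvd : ∀ m k : ℕ, P m → k ∣ m → P k
  uniq : ∀ m k : ℕ, P m → P k → 1 < m → ¬ m.Prime → 1 < k → ¬ k.Prime → m = k

theorem not_prime_mul' {a b : ℕ} (ha : 1 < a) (hb : 1 < b) : ¬ (a * b).Prime :=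
  Nat.not_prime_mul (by omega) (by omega)

theorem two_pow_ar {P : ℕ → Prop} (hP : OneComp P) {n : ℕ} (hn : 2 ≤ n) (h1 : P (2 ^ n - 1))
    (h2 : P (2 ^ n + 1)) : n = 2 ∨ n = 4 ∨ ((2 ^ n - 1).Prime ∧ ∃ r : ℕ, r.Prime ∧ 2 ^ n + 1 = 3 * r) := by
  have h4 : 2 ^ 2 ≤ 2 ^ n := Nat.pow_le_pow_right (by norm_num) hn
  rcases Nat.even_or_odd n with he | ho
  · obtain ⟨k, hk⟩ := he
    by_cases hk1 : k = 1
    · left; omega
    by_cases hk2 : k = 2
    · right; left; omega
    exfalso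
    have hk3 : 3 ≤ k := by omega
    have h8 : 2 ^ 3 ≤ 2 ^ k := Nat.pow_le_pow_right (by norm_num) hk3
    have hm : 2 ^ n - 1 = (2 ^ k - 1) * (2 ^ k + 1) := by
      have e : 2 ^ n = 2 ^ k * 2 ^ k := by rw [hk, pow_add]
      rw [e]
      obtain ⟨x, hx⟩ : ∃ x, 2 ^ k = x + 1 := ⟨2 ^ k - 1, by omega⟩
      rw [hx, Nat.add_sub_cancel]
      have : (x + 1) * (x + 1) = x * (x + 1 + 1) + 1 := by ring
      omega
    have hcomp : ¬ (2 ^ n - 1).Prime := by
      rw [hm]; exact not_prime_mul' (by omega) (by omega)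
    have key : ∀ d : ℕ, d ∣ 2 ^ n - 1 → 1 < d → d < 2 ^ n - 1 → d.Prime := by
      intro d hd hd1 hdl
      by_contra hnp
      have := hP.uniq _ _ (hP.dvd _ _ h1 hd) h1 hd1 hnp (by omega) hcomp
      omega
    have hlt1 : 2 ^ k - 1 < 2 ^ n - 1 := by
      rw [hm]
      have : 2 ≤ 2 ^ k + 1 := by omega
      nlinarith [Nat.pos_of_ne_zero (show 2 ^ k - 1 ≠ 0 by omega)]
    have hlt2 : 2 ^ k + 1 < 2 ^ n - 1 := by
      rw [hm]
      have h5 : 2 ≤ 2 ^ k - 1 := by omega
      nlinarith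
    have p1 := key _ (by rw [hm]; exact dvd_mul_right _ _) (by omega) hlt1
    have p2 := key _ (by rw [hm]; exact dvd_mul_left _ _) (by omega) hlt2
    have h3 : 3 ∣ 2 ^ k - 1 ∨ 3 ∣ 2 ^ k + 1 := by
      rcases Nat.even_or_odd k with h | h
      · exact Or.inl (three_dvd_sub h)
      · exact Or.inr (three_dvd_add h)
    rcases h3 with h3 | h3
    · have := (Nat.prime_dvd_prime_iff_eq Nat.prime_three p1).1 h3
      omega
    · have := (Nat.prime_dvd_prime_iff_eq Nat.prime_three p2).1 h3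
      omega
  · right; right
    obtain ⟨r, hr⟩ := three_dvd_add ho
    have hn3 : 3 ≤ n := by
      obtain ⟨j, hj⟩ := ho
      omega
    have h8 : 2 ^ 3 ≤ 2 ^ n := Nat.pow_le_pow_right (by norm_num) hn3
    have hcomp : ¬ (2 ^ n + 1).Prime := by
      rw [hr]; exact not_prime_mul' (by omega) (by omega)
    refine ⟨?_, r, ?_, hr⟩
    · by_contra hnp
      have := hP.uniq _ _ h1 h2 (by omega) hnp (by omega) hcomp
      omega
    · by_contra hnp
      have := hP.uniq _ _ (hP.dvd _ _ h2 (by rw [hr]; exact dvd_mul_left _ _)) h2 (by omega) hnp (by omega) hcomp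
      omega

theorem suzuki_ar {P : ℕ → Prop} (hP : OneComp P) {m : ℕ} (hm : 1 ≤ m) (h4 : P 4)
    (h1 : P (2 ^ (2 * m + 1) + 2 ^ (m + 1) + 1)) (h2 : P (2 ^ (2 * m + 1) - 2 ^ (m + 1) + 1)) : m = 1 := by
  have hlt : 2 ^ (m + 1) < 2 ^ (2 * m + 1) := Nat.pow_lt_pow_right (by norm_num) (by omega)
  have hp4 : ¬ Nat.Prime 4 := by norm_num
  have e1 : Even (2 ^ (2 * m + 1)) := ⟨2 ^ (2 * m), by rw [pow_succ]; ring⟩
  have e2 : Even (2 ^ (m + 1)) := ⟨2 ^ m, by rw [pow_succ]; ring⟩
  have hpos : 0 < 2 ^ (m + 1) := by positivity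
  have key : ∀ k : ℕ, P k → 1 < k → Odd k → k.Prime := by
    intro k hk hk1 hko
    by_contra hnp
    have := hP.uniq _ _ hk h4 hk1 hnp (by norm_num) hp4
    rw [this] at hko
    exact absurd hko (by decide)
  have p1 := key _ h1 (by omega) (by
    exact (e1.add e2).add_one)
  have p2 := key _ h2 (by omega) (by
    exact ((Nat.even_sub hlt.le).2 ⟨fun _ => e2, fun _ => e1⟩).add_one)
  rcases suzuki_case hm p1.isPrimePow p2.isPrimePow with h | h
  · exact h
  · exfalso
    subst h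
    norm_num at p2

theorem eight_ar {P : ℕ → Prop} (hP : OneComp P) {k : ℕ} (hk : 3 ≤ k) (h : P (2 ^ k)) : False := by
  have h8 := hP.dvd _ 8 h (by
    have : (8 : ℕ) = 2 ^ 3 := by norm_num
    rw [this]; exact pow_dvd_pow 2 hk)
  have h4 := hP.dvd _ 4 h8 (by norm_num)
  have := hP.uniq 8 4 h8 h4 (by norm_num) (by norm_num) (by norm_num) (by norm_num)
  omega

/-- `PSL(2, q)`, `q` odd, the composite element orders being equal to `2r` -/
theorem odd_ar {P : ℕ → Prop} {r q : ℕ} (hr : r.Prime) (hr2 : r ≠ 2) (hq : IsPrimePow q) (hodd : Odd q)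
    (hq3 : q ≠ 3) (hc : ∀ m, P m → 1 < m → ¬ m.Prime → m = 2 * r) (h1 : P ((q - 1) / 2)) (h2 : P ((q + 1) / 2)) :
    q = 5 ∨ q = 11 ∨ q = 13 ∨ (∃ n r s : ℕ, r.Prime ∧ s.Prime ∧ 3 ^ n - 1 = 2 * r ∧ 3 ^ n + 1 = 4 * s ∧ q = 3 ^ n) := by
  have hro : Odd r := hr.eq_two_or_odd'.resolve_left hr2
  have hr1 := hr.two_le
  have hq2 : 2 ≤ q := hq.two_le
  obtain ⟨i, hi⟩ := hodd
  rcases Nat.even_or_odd i with ⟨j, hj⟩ | ⟨j, hj⟩
  · -- `q = 4 j + 1`
    have hq4 : q = 4 * j + 1 := by omega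
    have e1 : (q - 1) / 2 = 2 * j := by omega
    have e2 : (q + 1) / 2 = 2 * j + 1 := by omega
    rw [e1] at h1
    rw [e2] at h2
    have p2 : (2 * j + 1).Prime := by
      by_contra hnp
      have := hc _ h2 (by omega) hnp
      omega
    by_cases hj1 : j = 1
    · left; omega
    have hj2 : 2 ≤ j := by omega
    have hjr : 2 * j = 2 * r := hc _ h1 (by omega) (not_prime_mul' (by norm_num) (by omega))
    have hjr' : j = r := by omega
    subst hjr'
    have h3 : j % 3 = 0 ∨ j % 3 = 1 ∨ j % 3 = 2 := by omega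
    rcases h3 with h3 | h3 | h3
    · have := (Nat.prime_dvd_prime_iff_eq Nat.prime_three hr).1 (Nat.dvd_of_mod_eq_zero h3)
      right; right; left; omega
    · have := (Nat.prime_dvd_prime_iff_eq Nat.prime_three p2).1 (by omega)
      omega
    · exfalso
      obtain ⟨n, hn, hn3⟩ := eq_three_pow hq (by omega)
      rcases Nat.even_or_odd n with ⟨k, hk⟩ | ⟨k, hk⟩
      · have hk0 : k ≠ 0 := by omega
        have h5 : Odd (3 ^ k) := Odd.pow (by decide)
        obtain ⟨a, ha⟩ := h5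
        have ha1 : 1 ≤ a := by
          have : 3 ^ 1 ≤ 3 ^ k := Nat.pow_le_pow_right (by norm_num) (by omega)
          omega
        have e : q = 3 ^ k * 3 ^ k := by rw [hn3, hk, pow_add]
        rw [ha] at e
        have h6 : j = a * (a + 1) := by nlinarith
        by_cases ha2 : a = 1
        · subst ha2; norm_num at h6; omega
        · rw [h6] at hr
          exact not_prime_mul' (by omega) (by omega) hr
      · have h7 : 3 ^ n % 4 = 3 := by
          rw [hk, pow_succ, pow_mul, Nat.mul_mod, Nat.pow_mod]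
          norm_num
        omega
  · -- `q = 4 j + 3`
    have hq4 : q = 4 * j + 3 := by omega
    have e1 : (q - 1) / 2 = 2 * j + 1 := by omega
    have e2 : (q + 1) / 2 = 2 * (j + 1) := by omega
    rw [e1] at h1
    rw [e2] at h2
    have hj0 : j ≠ 0 := by omega
    have p1 : (2 * j + 1).Prime := by
      by_contra hnp
      have := hc _ h1 (by omega) hnp
      omega
    have hjr : 2 * (j + 1) = 2 * r := hc _ h2 (by omega) (not_prime_mul' (by norm_num) (by omega))
    have hjr' : r = j + 1 := by omega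
    have h3 : r % 3 = 0 ∨ r % 3 = 1 ∨ r % 3 = 2 := by omega
    rcases h3 with h3 | h3 | h3
    · have := (Nat.prime_dvd_prime_iff_eq Nat.prime_three hr).1 (Nat.dvd_of_mod_eq_zero h3)
      right; left; omega
    · right; right; right
      obtain ⟨n, hn, hn3⟩ := eq_three_pow hq (by omega)
      exact ⟨n, 2 * j + 1, r, p1, hr, by omega, by omega, hn3⟩
    · have := (Nat.prime_dvd_prime_iff_eq Nat.prime_three p1).1 (by omega)
      omega

end H36.NS
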