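import Mathlib
import Cfsg.Agent.Lib.H36.NSi
import Cfsg.Agent.Lib.H36.NSj
import Cfsg.Agent.Lib.H6.SmallIsoA
import Cfsg.Agent.S0330

/-!
# S3718: simple groups with at most one composite element order
-/

set_option autoImplicit false

open Subgroup Cfsg

namespace H36.NS

open H36.Eppo

universe u

variable {G : Type u} [Group G] [Finite G]

/-- `m` is an element order of `G` -/
def Ord (G : Type u) [Group G] (m : ℕ) : Prop := ∃ g : G, orderOf g = m

theorem Ord.of_dvd {m k : ℕ} (h : Ord G m) (hk : k ∣ m) : Ord G k := by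
  obtain ⟨g, rfl⟩ := h
  obtain ⟨l, hl⟩ := hk
  have h0 : orderOf g ≠ 0 := (orderOf_pos g).ne'
  have hl0 : l ≠ 0 := by rintro rfl; rw [mul_zero] at hl; exact h0 hl
  refine ⟨g ^ l, ?_⟩
  rw [orderOf_pow_of_dvd hl0 (by rw [hl]; exact dvd_mul_left _ _), hl, Nat.mul_div_cancel _ (Nat.pos_of_ne_zero hl0)]

theorem psl_ord {F : Type} [Field F] [Fintype F] (hodd : Odd (Fintype.card F))
    (e : G ≃* Matrix.ProjectiveSpecialLinearGroup (Fin 2) F) :
    Ord G ((Fintype.card F - 1) / 2) ∧ Ord G ((Fintype.card F + 1) / 2) := by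
  obtain ⟨p, hp⟩ := CharP.exists F
  haveI := Fact.mk (CharP.char_is_prime F p)
  have hg : Nat.gcd 2 (Fintype.card F - 1) = 2 := by
    obtain ⟨j, hj⟩ := hodd
    apply Nat.gcd_eq_left
    omega
  constructor
  · refine H11.Eppo.psl_orders p e ?_
    rw [hg]
    exact Or.inr (Or.inl dvd_rfl)
  · refine H11.Eppo.psl_orders p e ?_
    rw [hg]
    exact Or.inr (Or.inr dvd_rfl)

theorem psl_three_solvable {F : Type} [Field F] [Fintype F] (hF : Fintype.card F = 3)
    (e : G ≃* Matrix.ProjectiveSpecialLinearGroup (Fin 2) F) : Group.IsSolvable G := by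
  have h := H6.SmallIsoA.card_psl2 (F := F)
  rw [hF] at h
  have h12 : Nat.card G = 2 ^ 2 * 3 ^ 1 := by
    rw [Nat.card_congr e.toEquiv]
    norm_num at h
    omega
  exact H4.Burnside.isSolvable_of_card_eq 2 3 Nat.prime_two Nat.prime_three _ G rfl ⟨2, 1, h12⟩

theorem card_odd_of_iso {F : Type} [Field F] [Fintype F] : IsPrimePow (Fintype.card F) :=
  Fintype.isPrimePow_card_of_field

/-- S3718 -/
theorem s3718 [IsSimpleGroup G]
    (h1 : {n : ℕ | n ∈ Set.range (orderOf : G → ℕ) ∧ 1 < n ∧ ¬ n.Prime}.Subsingleton) :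
    (Nat.card G).Prime ∨
    (∃ (F : Type) (_ : Field F) (_ : Fintype F), (Fintype.card F = 5 ∨ Fintype.card F = 7 ∨ Fintype.card F = 8 ∨ Fintype.card F = 9 ∨
        Fintype.card F = 11 ∨ Fintype.card F = 13 ∨ Fintype.card F = 16) ∧ Nonempty (G ≃* Matrix.ProjectiveSpecialLinearGroup (Fin 2) F)) ∨
    (∃ (F : Type) (_ : Field F) (_ : Fintype F), Fintype.card F = 4 ∧ Nonempty (G ≃* Matrix.ProjectiveSpecialLinearGroup (Fin 3) F)) ∨
    (∃ (F : Type) (_ : Field F) (_ : Fintype F), Fintype.card F = 8 ∧ Nonempty (G ≃* ↥(Cfsg.Lie.Sz F 4))) ∨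
    (∃ (F : Type) (_ : Field F) (_ : Fintype F), ∃ n r s : ℕ, r.Prime ∧ s.Prime ∧ 3 ^ n - 1 = 2 * r ∧ 3 ^ n + 1 = 4 * s ∧
        Fintype.card F = 3 ^ n ∧ Nonempty (G ≃* Matrix.ProjectiveSpecialLinearGroup (Fin 2) F)) ∨
    (∃ (F : Type) (_ : Field F) (_ : Fintype F), ∃ n r : ℕ, (2 ^ n - 1).Prime ∧ r.Prime ∧ 2 ^ n + 1 = 3 * r ∧
        Fintype.card F = 2 ^ n ∧ Nonempty (G ≃* Matrix.ProjectiveSpecialLinearGroup (Fin 2) F)) := by
  have hP : OneComp (Ord G) := by
    refine ⟨fun m k hm hk => hm.of_dvd hk, ?_⟩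
    intro m k hm hk hm1 hm2 hk1 hk2
    exact h1 ⟨hm, hm1, hm2⟩ ⟨hk, hk1, hk2⟩
  by_cases hns : Group.IsSolvable G
  · left
    haveI := IsSimpleGroup.comm_iff_isSolvable.2 hns
    letI : CommGroup G := { (inferInstance : Group G) with mul_comm := IsSimpleGroup.comm_iff_isSolvable.2 hns }
    exact IsSimpleGroup.prime_card
  right
  have hna : ∃ a b : G, a * b ≠ b * a := by
    by_contra hcon
    push Not at hcon
    exact hns (IsSimpleGroup.comm_iff_isSolvable.1 hcon)
  by_cases hS : Lead.CIT.Sep G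
  · rcases H36.CITfin.classify hna hS with ⟨-, F, _, _, n, hn, hF, ⟨e⟩⟩ | ⟨-, -, F, _, _, m, hm, hF, ⟨e⟩⟩ |
      ⟨-, F, _, _, hF, ⟨e⟩⟩ | ⟨-, h⟩
    · have h4 : 2 ^ 2 ≤ 2 ^ n := Nat.pow_le_pow_right (by norm_num) hn
      rcases two_pow_ar hP hn (H11.Eppo.psl_orders_even hF e (Or.inr (Or.inl dvd_rfl)))
        (H11.Eppo.psl_orders_even hF e (Or.inr (Or.inr dvd_rfl))) with h | h | ⟨h, r, hr, hr3⟩
      · left
        subst h
        haveI : Fact (Nat.Prime 5) := ⟨Nat.prime_five⟩
        obtain ⟨e4⟩ := H6.SmallIsoA.psl2_four (F := F) (by rw [hF]; norm_num)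
        obtain ⟨e5⟩ := H6.SmallIsoA.psl2_five (F := ZMod 5) (ZMod.card 5)
        exact ⟨ZMod 5, inferInstance, inferInstance, Or.inl (ZMod.card 5), ⟨(e.trans e4).trans e5.symm⟩⟩
      · left
        subst h
        exact ⟨F, inferInstance, inferInstance, by rw [hF]; norm_num, ⟨e⟩⟩
      · right; right; right; right
        exact ⟨F, inferInstance, inferInstance, n, r, h, hr, hr3, hF, ⟨e⟩⟩
    · have h4 : Ord G 4 := by
        haveI : Fact (Nat.Prime 2) := ⟨Nat.prime_two⟩
        haveI : Finite (Cfsg.Sz F m) := Finite.of_equiv G e.toEquiv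
        obtain ⟨P⟩ : Nonempty (Sylow 2 (Cfsg.Sz F m)) := inferInstance
        obtain ⟨-, h4, -⟩ := Cfsg.Agent.S0330.result hm hF P
        haveI : Group.IsNilpotent P := P.isPGroup'.isNilpotent
        obtain ⟨g, hg⟩ : ∃ g : P, orderOf g = 4 := by
          by_contra hcon
          push Not at hcon
          have h5 : Monoid.exponent P ∣ 2 := by
            apply Monoid.exponent_dvd_of_forall_pow_eq_one
            intro x
            have h6 := Monoid.order_dvd_exponent x
            rw [h4] at h6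
            have h7 : orderOf x ∣ 2 ^ 2 := h6
            obtain ⟨j, hj, hj2⟩ := (Nat.dvd_prime_pow Nat.prime_two).1 h7
            have h8 : orderOf x ∣ 2 := by
              rw [hj2]
              have : j ≤ 1 := by
                by_contra hj3
                have : j = 2 := by omega
                rw [this] at hj2
                exact hcon x hj2
              exact pow_dvd_pow 2 this
            exact orderOf_dvd_iff_pow_eq_one.1 h8
          rw [h4] at h5
          omega
        refine ⟨e.symm (g : Cfsg.Sz F m), ?_⟩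
        rw [MulEquiv.orderOf_eq, Subgroup.orderOf_coe, hg]
      have key : ∀ k ∈ ({2 ^ (2 * m + 1) + 2 ^ (m + 1) + 1, 2 ^ (2 * m + 1) - 2 ^ (m + 1) + 1} : Set ℕ),
          Ord G k := by
        intro k hk
        obtain ⟨U, hU, hUk, -, -⟩ := Cfsg.Agent.S0333.result hm hF k hk
        obtain ⟨g, hg⟩ := hU.exists_generator
        refine ⟨e.symm (g : Cfsg.Sz F m), ?_⟩
        rw [MulEquiv.orderOf_eq, Subgroup.orderOf_coe, ← hUk]
        exact orderOf_eq_card_of_forall_mem_zpowers hg
      have hm1 := suzuki_ar hP hm h4 (key _ (Or.inl rfl)) (key _ (Or.inr rfl))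
      subst hm1
      right; right; left
      exact ⟨F, inferInstance, inferInstance, by rw [hF]; norm_num, ⟨e.trans (H24.SzIso.equiv hF hm)⟩⟩
    · left
      refine ⟨F, inferInstance, inferInstance, ?_, ⟨e⟩⟩
      rcases hF with hF | ⟨h7, hp, k, hk⟩
      · rw [hF]; norm_num
      · have hodd : Odd (Fintype.card F) := hp.eq_two_or_odd'.resolve_left (by omega)
        obtain ⟨o1, o2⟩ := psl_ord hodd e
        rcases hk with hk | hk
        · exfalso
          have hk3 : 3 ≤ k := by
            by_contra hlt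
            have : k = 0 ∨ k = 1 ∨ k = 2 := by omega
            rcases this with rfl | rfl | rfl <;> omega
          by_cases hk' : k = 3
          · subst hk'
            rw [hk] at hp
            norm_num at hp
          · obtain ⟨j, rfl⟩ : ∃ j, k = j + 1 := ⟨k - 1, by omega⟩
            apply eight_ar hP (k := j) (by omega)
            have : (Fintype.card F - 1) / 2 = 2 ^ j := by
              rw [hk, Nat.add_sub_cancel, pow_succ, Nat.mul_div_cancel _ (by norm_num)]
            rwa [this] at o1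
        · have hk3 : 3 ≤ k := by
            by_contra hlt
            have : k = 0 ∨ k = 1 ∨ k = 2 := by omega
            rcases this with rfl | rfl | rfl <;> omega
          by_cases hk' : k = 3
          · subst hk'
            right; left; omega
          · exfalso
            obtain ⟨j, rfl⟩ : ∃ j, k = j + 1 := ⟨k - 1, by omega⟩
            apply eight_ar hP (k := j) (by omega)
            have : (Fintype.card F + 1) / 2 = 2 ^ j := by
              rw [hk, pow_succ, Nat.mul_div_cancel _ (by norm_num)]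
            rwa [this] at o2
    · right; left; exact h
  · -- an element of odd prime order commuting with an involution
    obtain ⟨t, r, ht, hr, hr2, x, hx, hc⟩ : ∃ (t : G) (r : ℕ), orderOf t = 2 ∧ r.Prime ∧ r ≠ 2 ∧
        ∃ x : G, orderOf x = r ∧ x * t = t * x := by
      unfold Lead.CIT.Sep at hS
      push Not at hS
      obtain ⟨x, t, ht, hx, hc, hx1⟩ := hS
      obtain ⟨r, hr, hrd⟩ := Nat.exists_prime_and_dvd (show orderOf x ≠ 1 by rwa [Ne, orderOf_eq_one_iff])
      refine ⟨t, r, ht, hr, ?_, x ^ (orderOf x / r), ?_, ?_⟩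
      · rintro rfl
        exact (Nat.not_even_iff_odd.2 hx) (even_iff_two_dvd.2 hrd)
      · exact orderOf_pow_orderOf_div (orderOf_pos x).ne' hrd
      · have : Commute x t := hc
        exact (this.pow_left _)
    have h2r : Ord G (2 * r) := by
      refine ⟨t * x, ?_⟩
      have hcop : (orderOf t).Coprime (orderOf x) := by
        rw [ht, hx]; exact (Nat.coprime_primes Nat.prime_two hr).2 (Ne.symm hr2)
      rw [Commute.orderOf_mul_eq_mul_orderOf_of_coprime (show Commute t x from hc.symm) hcop, ht, hx]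
    have hcomp : ¬ (2 * r).Prime := not_prime_mul' (by norm_num) hr.one_lt
    have huniq : ∀ m, Ord G m → 1 < m → ¬ m.Prime → m = 2 * r := fun m hm hm1 hm2 =>
      hP.uniq m (2 * r) hm h2r hm1 hm2 (by have := hr.two_le; omega) hcomp
    have hNS : NS G r := by
      refine ⟨hr, hr2, ?_, ?_⟩
      · intro g hg
        by_cases h2 : orderOf g = 2
        · exact Or.inl h2
        · right
          apply huniq _ ⟨g, rfl⟩
          · have := Nat.le_of_dvd (orderOf_pos g) hg; omega
          · intro hp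
            exact h2 ((Nat.prime_dvd_prime_iff_eq Nat.prime_two hp).1 hg).symm
      · intro g hg
        by_cases h2 : orderOf g = r
        · exact Or.inl h2
        · right
          apply huniq _ ⟨g, rfl⟩
          · have := Nat.le_of_dvd (orderOf_pos g) hg
            have := hr.two_le
            omega
          · intro hp
            exact h2 ((Nat.prime_dvd_prime_iff_eq hr hp).1 hg).symm
    rcases hNS.simple hns with ⟨F, _, _, hodd, ⟨e⟩⟩ | ⟨F, _, _, n, hn, hF, ⟨e⟩⟩
    · obtain ⟨o1, o2⟩ := psl_ord hodd e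
      rcases odd_ar hr hr2 Fintype.isPrimePow_card_of_field hodd
        (fun h3 => hns (psl_three_solvable h3 e)) huniq o1 o2 with h | h | h | ⟨n, r', s', h⟩
      · left; exact ⟨F, inferInstance, inferInstance, by omega, ⟨e⟩⟩
      · left; exact ⟨F, inferInstance, inferInstance, by omega, ⟨e⟩⟩
      · left; exact ⟨F, inferInstance, inferInstance, by omega, ⟨e⟩⟩
      · right; right; right; left
        exact ⟨F, inferInstance, inferInstance, n, r', s', h.1, h.2.1, h.2.2.1, h.2.2.2.1, h.2.2.2.2, ⟨e⟩⟩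
    · exfalso
      apply hS
      exact Lead.CITQ.sep_equiv (sep_psl2_even (two_eq_zero_of_card (by omega) hF)) e.symm

end H36.NS
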