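import Mathlib
import Cfsg.Agent.Lib.H36.NSi
import Cfsg.Agent.Lib.H36.NSk

/-!
# Groups in which no prime divides three element orders
-/

set_option autoImplicit false

open Subgroup Cfsg
open scoped commutatorElement

namespace H36.NT

open H36.NS

universe u

/-- no prime divides three distinct element orders -/
def H3 (G : Type u) [Group G] : Prop :=
  ∀ p : ℕ, p.Prime → ∀ a b c : G, orderOf a ≠ orderOf b → orderOf b ≠ orderOf c →
    orderOf a ≠ orderOf c → ¬ (p ∣ orderOf a ∧ p ∣ orderOf b ∧ p ∣ orderOf c)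

variable {G : Type u} [Group G]

theorem H3.no3 (h : H3 G) {a b c p : ℕ} (hp : p.Prime) (ha : Ord G a) (hb : Ord G b) (hc : Ord G c)
    (hab : a ≠ b) (hbc : b ≠ c) (hac : a ≠ c) (pa : p ∣ a) (pb : p ∣ b) (pc : p ∣ c) : False := by
  obtain ⟨x, rfl⟩ := ha
  obtain ⟨y, rfl⟩ := hb
  obtain ⟨z, rfl⟩ := hc
  exact h p hp x y z hab hbc hac ⟨pa, pb, pc⟩

theorem H3.factors [Finite G] (h : H3 G) {k : ℕ} (hk : Ord G k) : k.primeFactorsList.length ≤ 2 := by
  have hk0 : k ≠ 0 := by
    obtain ⟨g, rfl⟩ := hk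
    exact (orderOf_pos g).ne'
  by_contra hcon
  push Not at hcon
  have hprod := Nat.prod_primeFactorsList hk0
  have hpr : ∀ p ∈ k.primeFactorsList, p.Prime := fun p hp => Nat.prime_of_mem_primeFactorsList hp
  match hl : k.primeFactorsList with
  | [] => rw [hl] at hcon; simp at hcon
  | [_] => rw [hl] at hcon; simp at hcon
  | [_, _] => rw [hl] at hcon; simp at hcon
  | a :: b :: c :: l =>
    rw [hl] at hprod hpr
    have ha := (hpr a (by simp)).two_le
    have hb := (hpr b (by simp)).two_le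
    have hc := (hpr c (by simp)).two_le
    have hk' : k = a * b * c * l.prod := by
      rw [← hprod]; simp only [List.prod_cons]; ring
    refine h.no3 (hpr a (by simp)) (hk.of_dvd (k := a) ?_) (hk.of_dvd (k := a * b) ?_)
      (hk.of_dvd (k := a * b * c) ?_) ?_ ?_ ?_ dvd_rfl (dvd_mul_right a b) ((dvd_mul_right a b).mul_right c)
    · rw [hk']; exact ((dvd_mul_right a b).mul_right c).mul_right _
    · rw [hk']; exact (dvd_mul_right (a * b) c).mul_right _
    · rw [hk']; exact dvd_mul_right _ _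
    · nlinarith
    · have : 0 < a * b := by positivity
      nlinarith
    · have h1 : 1 < b * c := by nlinarith
      nlinarith

theorem ord_of_quotient [Finite G] {N : Subgroup G} [N.Normal] {k : ℕ} (h : Ord (G ⧸ N) k) : Ord G k := by
  obtain ⟨g, rfl⟩ := h
  obtain ⟨x, rfl⟩ := QuotientGroup.mk'_surjective N g
  exact (show Ord G (orderOf x) from ⟨x, rfl⟩).of_dvd (orderOf_map_dvd (QuotientGroup.mk' N) x)

theorem H3.of_equiv {H : Type u} [Group H] (h : H3 G) (e : H ≃* G) : H3 H := by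
  intro p hp a b c h1 h2 h3
  have := h p hp (e a) (e b) (e c)
  simp only [MulEquiv.orderOf_eq] at this
  exact this h1 h2 h3

/-- the non-`Sep` case -/
theorem H3.ns [Finite G] (h : H3 G) (hS : ¬ Lead.CIT.Sep G) : ∃ r, NS G r := by
  unfold Lead.CIT.Sep at hS
  push Not at hS
  obtain ⟨y, t, ht, hy, hc, hy1⟩ := hS
  have hyo : orderOf y ≠ 1 := fun h => hy1 (orderOf_eq_one_iff.1 h)
  set r := (orderOf y).minFac with hr
  have hrp : r.Prime := Nat.minFac_prime hyo
  have hrd : r ∣ orderOf y := Nat.minFac_dvd _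
  have hr2 : r ≠ 2 := by
    intro h2
    rw [h2] at hrd
    exact (Nat.not_even_iff_odd.2 hy) (even_iff_two_dvd.2 hrd)
  obtain ⟨x, hx, hxc⟩ : ∃ x : G, orderOf x = r ∧ x * t = t * x := by
    obtain ⟨l, hl⟩ := hrd
    have hl0 : l ≠ 0 := by
      rintro rfl
      rw [mul_zero] at hl
      exact (orderOf_pos y).ne' hl
    refine ⟨y ^ l, ?_, ((show Commute y t from hc).pow_left l).eq⟩
    rw [orderOf_pow_of_dvd hl0 (by rw [hl]; exact dvd_mul_left _ _), hl,
      Nat.mul_div_cancel _ (Nat.pos_of_ne_zero hl0)]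
  have hcop : Nat.Coprime (orderOf t) (orderOf x) := by
    rw [ht, hx]
    exact (Nat.coprime_primes Nat.prime_two hrp).2 (Ne.symm hr2)
  have h2r : Ord G (2 * r) := by
    refine ⟨t * x, ?_⟩
    rw [(show Commute t x from hxc.symm).orderOf_mul_eq_mul_orderOf_of_coprime hcop, ht, hx]
  refine ⟨r, hrp, hr2, ?_, ?_⟩
  · intro g hg
    by_contra hcon
    push Not at hcon
    exact h.no3 Nat.prime_two ⟨g, rfl⟩ ⟨t, ht⟩ h2r hcon.1 (by have := hrp.two_le; omega) hcon.2 hg dvd_rfl (dvd_mul_right _ _)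
  · intro g hg
    by_contra hcon
    push Not at hcon
    exact h.no3 hrp ⟨g, rfl⟩ ⟨x, hx⟩ h2r hcon.1 (by have := hrp.two_le; omega) hcon.2 hg dvd_rfl (dvd_mul_left _ _)

end H36.NT
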