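import Mathlib
import Cfsg.Agent.Lib.H36.NTa
import Cfsg.Agent.Lib.H36.SepMain

/-!
# Elements of order eight above a quotient
-/

set_option autoImplicit false

open Subgroup Cfsg Finset
open scoped commutatorElement

namespace H36.NT

open H36.NS

universe u

variable {G : Type u} [Group G] [Finite G]

theorem ord8_or {R : Subgroup G} [R.Normal] (hR : IsPGroup 2 R) {x : G}
    (hx : orderOf (QuotientGroup.mk x : G ⧸ R) = 4) : x ^ 4 = 1 ∨ Ord G 8 := by
  by_cases h1 : x ^ 4 = 1
  · exact Or.inl h1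
  right
  have h4 : x ^ 4 ∈ R := by
    have h2 : (QuotientGroup.mk x : G ⧸ R) ^ 4 = 1 := by rw [← hx, pow_orderOf_eq_one]
    rw [← QuotientGroup.mk_pow] at h2
    exact (QuotientGroup.eq_one_iff _).1 h2
  obtain ⟨j, hj⟩ := IsPGroup.iff_orderOf.1 hR ⟨x ^ 4, h4⟩
  rw [Subgroup.orderOf_mk] at hj
  have hj0 : j ≠ 0 := by
    rintro rfl
    rw [pow_zero, orderOf_eq_one_iff] at hj
    exact h1 hj
  have hd : 4 ∣ orderOf x := by
    rw [← hx]
    exact orderOf_map_dvd (QuotientGroup.mk' R) x
  rw [orderOf_pow_of_dvd (by norm_num) hd] at hj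
  refine (show Ord G (orderOf x) from ⟨x, rfl⟩).of_dvd ?_
  obtain ⟨l, hl⟩ := hd
  rw [hl, Nat.mul_div_cancel_left _ (by norm_num)] at hj
  rw [hl, hj]
  obtain ⟨i, rfl⟩ := Nat.exists_eq_succ_of_ne_zero hj0
  rw [pow_succ]
  exact ⟨2 ^ i, by ring⟩

theorem exists_ord8 (hS : Lead.CIT.Sep G) {R : Subgroup G} [hRn : R.Normal] (hR2 : IsPGroup 2 R)
    (hR1 : R ≠ ⊥) {x : G ⧸ R}
    (hx : orderOf x = 4) {Q : Subgroup (G ⧸ R)} (hQ : Odd (Nat.card Q)) (hQ1 : Q ≠ ⊥)
    (hxQ : ∀ w ∈ Q, x * w * x⁻¹ ∈ Q)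
    (hfix : ∀ i, 0 < i → i < 4 → ∀ w ∈ Q, x ^ i * w = w * x ^ i → w = 1) : Ord G 8 := by
  haveI : Fact (Nat.Prime 2) := ⟨Nat.prime_two⟩
  by_contra hcon
  let V : Subgroup G := Lead.CIT.OZ R
  have hVR : V ≤ R := Lead.CIT.OZ_le R
  have hVn : V.Normal := by
    rw [← Subgroup.normalizer_eq_top_iff, eq_top_iff]
    intro g _
    rw [H28.Cj.mem_normalizer_iff_cj, Lead.CIT6.cj_OZ]
    congr 1
    rw [← H28.Cj.mem_normalizer_iff_cj, Subgroup.normalizer_eq_top_iff.mpr hRn]
    trivial
  obtain ⟨z, hz, hz2⟩ := Lead.CIT3.exists_central_inv hR2 hR1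
  letI : CommGroup V := { (inferInstance : Group V) with
    mul_comm := fun a b => Subtype.ext ((Lead.CIT.IsEA_OZ R).comm a.2 b.2) }
  let f : G →* MulAut V := MulAut.conjNormal
  have hf : ∀ r ∈ R, f r = 1 := by
    intro r hr
    ext v
    change (r : G) * v * (r : G)⁻¹ = v
    rw [← Lead.CIT.OZ_comm v.2 hr, mul_inv_cancel_right]
  let fq : G ⧸ R →* MulAut V := QuotientGroup.lift R f hf
  let act : DistribMulAction (G ⧸ R) (Additive V) :=
    { smul := fun f v => Additive.ofMul (fq f (Additive.toMul v))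
      one_smul := fun v => by
        show Additive.ofMul (fq 1 (Additive.toMul v)) = v
        rw [map_one]; rfl
      mul_smul := fun f g v => by
        show Additive.ofMul (fq (f * g) (Additive.toMul v)) = _
        rw [map_mul]; rfl
      smul_zero := fun f => by
        show Additive.ofMul (fq f 1) = 0
        rw [map_one]; rfl
      smul_add := fun f v w => by
        show Additive.ofMul (fq f (Additive.toMul v * Additive.toMul w)) = _
        rw [map_mul]; rfl }
  have hact : ∀ (g : G) (v : V),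
      ((Additive.toMul ((QuotientGroup.mk g : G ⧸ R) • (Additive.ofMul v : Additive V)) : V) : G) =
        g * v * (g : G)⁻¹ := by
    intro g v
    rfl
  obtain ⟨x', rfl⟩ := QuotientGroup.mk_surjective x
  have hx4 : x' ^ 4 = 1 := (ord8_or hR2 hx).resolve_right hcon
  have h2 : ∀ v : Additive V, ∑ i ∈ range 4, (QuotientGroup.mk x' : G ⧸ R) ^ i • v = 0 := by
    intro v
    have key2 : ∀ n : ℕ, ((Additive.toMul (∑ i ∈ range n, (QuotientGroup.mk x' : G ⧸ R) ^ i • v) : V) : G) * x' ^ n =
        (((Additive.toMul v : V) : G) * x') ^ n := by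
      intro n
      induction n with
      | zero => simp
      | succ n ih =>
        rw [sum_range_succ, toMul_add, Subgroup.coe_mul, pow_succ, pow_succ, ← ih]
        have e := hact (x' ^ n) (Additive.toMul v)
        have e' : ((Additive.toMul ((QuotientGroup.mk x' : G ⧸ R) ^ n • v) : V) : G) =
            x' ^ n * ((Additive.toMul v : V) : G) * (x' ^ n)⁻¹ := by
          rw [← QuotientGroup.mk_pow]
          exact e
        rw [e']
        group
    have h4 := key2 4
    have h5 : (((Additive.toMul v : V) : G) * x') ^ 4 = 1 := by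
      refine (ord8_or (x := ((Additive.toMul v : V) : G) * x') hR2 ?_).resolve_right hcon
      have : (QuotientGroup.mk (((Additive.toMul v : V) : G) * x') : G ⧸ R) = QuotientGroup.mk x' := by
        rw [QuotientGroup.mk_mul, (QuotientGroup.eq_one_iff _).2 (hVR (Additive.toMul v).2), one_mul]
      rw [this, hx]
    rw [hx4, mul_one, h5] at h4
    have : Additive.toMul (∑ i ∈ range 4, (QuotientGroup.mk x' : G ⧸ R) ^ i • v) = 1 := Subtype.ext h4
    exact this
  have h1 : ∀ v : Additive V, (∀ w ∈ Q, w • v = v) → v = 0 := by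
    intro v hv
    obtain ⟨w, hw, hw1⟩ : ∃ w ∈ Q, w ≠ 1 := by
      by_contra hc
      push Not at hc
      exact hQ1 ((Subgroup.eq_bot_iff_forall _).2 hc)
    by_contra hv0
    have hwv := hv w hw
    obtain ⟨g, rfl⟩ := QuotientGroup.mk_surjective w
    have h1 : g * ((Additive.toMul v : V) : G) * g⁻¹ = ((Additive.toMul v : V) : G) := by
      have := congrArg (fun y : Additive V => ((Additive.toMul y : V) : G)) hwv
      exact this
    obtain ⟨k, m, hm, -, h3, -, -⟩ := H36.CN2.parts g
    have hvo : orderOf ((Additive.toMul v : V) : G) = 2 := by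
      apply (Lead.CIT.IsEA_OZ R).orderOf (Additive.toMul v).2
      intro h
      apply hv0
      have : Additive.toMul v = 1 := Subtype.ext h
      exact this
    have h4 : g ^ 2 ^ k = 1 := by
      apply hS _ _ hvo (by rw [h3]; exact hm)
      have h5 : Commute g ((Additive.toMul v : V) : G) := mul_inv_eq_iff_eq_mul.mp h1
      exact (h5.pow_left _).eq
    apply hw1
    have h6 : (QuotientGroup.mk g : G ⧸ R) ^ 2 ^ k = 1 := by
      rw [← QuotientGroup.mk_pow, h4]
      rfl
    have h8 : orderOf (QuotientGroup.mk g : G ⧸ R) ∣ 2 ^ k := orderOf_dvd_of_pow_eq_one h6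
    have hwo : Odd (orderOf (QuotientGroup.mk g : G ⧸ R)) := by
      apply hQ.of_dvd_nat
      have : orderOf (⟨_, hw⟩ : Q) ∣ Nat.card Q := orderOf_dvd_natCard _
      rwa [Subgroup.orderOf_mk] at this
    rw [← orderOf_eq_one_iff]
    exact Nat.Coprime.eq_one_of_dvd (Nat.Coprime.pow_right k (Nat.coprime_two_right.mpr hwo)) h8
  have key := card_smul_eq_zero_of_norm (F := G ⧸ R) (M := Additive V) Q (QuotientGroup.mk x') 4 (by norm_num)
    (by rw [← hx, pow_orderOf_eq_one]) hxQ h1 h2 hfix (Additive.ofMul ⟨z, hz⟩)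
  have h' : (⟨z, hz⟩ : V) ^ Nat.card Q = 1 := key
  have h'' : z ^ Nat.card Q = 1 := congrArg Subtype.val h'
  have h3 := orderOf_dvd_of_pow_eq_one h''
  rw [hz2] at h3
  exact (Nat.not_even_iff_odd.2 hQ) (even_iff_two_dvd.2 h3)

end H36.NT
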