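import Mathlib
import Cfsg.Agent.Lib.H36.NTb
import Cfsg.Agent.S0333
import Cfsg.Agent.S0328
import Cfsg.Agent.S0324

/-!
# The Suzuki case
-/

set_option autoImplicit false

open Subgroup Cfsg
open scoped commutatorElement

namespace H36.NT

open H36.NS

universe u

theorem H3.no_eight {G : Type u} [Group G] [Finite G] (h : H3 G) : ¬ Ord G 8 := by
  intro h8
  exact h.no3 Nat.prime_two (h8.of_dvd (k := 2) (by norm_num)) (h8.of_dvd (k := 4) (by norm_num)) h8
    (by norm_num) (by norm_num) (by norm_num) (by norm_num) (by norm_num) (by norm_num)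

section four

variable {Y : Type u} [Group Y] [Finite Y] {U : Subgroup Y}

theorem eq_one_of_two_mem (hk : Odd (Nat.card U)) {x : Y} (hx : x ∈ U) {j : ℕ} (hj : x ^ 2 ^ j = 1) :
    x = 1 := by
  have h1 : orderOf x ∣ 2 ^ j := orderOf_dvd_of_pow_eq_one hj
  have h2 : orderOf x ∣ Nat.card U := by
    have : orderOf (⟨x, hx⟩ : U) ∣ Nat.card U := orderOf_dvd_natCard _
    rwa [Subgroup.orderOf_mk] at this
  rw [← orderOf_eq_one_iff]
  exact Nat.Coprime.eq_one_of_dvd (Nat.Coprime.pow_right j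
    (Nat.coprime_two_right.mpr (hk.of_dvd_nat h2))) h1

theorem exists_four (hk : Odd (Nat.card U)) (hU1 : U ≠ ⊥)
    (hc : ∀ u ∈ U, u ≠ 1 → centralizer ({u} : Set Y) = U)
    (hN : 4 ∣ Nat.card (normalizer (U : Set Y))) : ∃ x ∈ normalizer (U : Set Y), orderOf x = 4 := by
  haveI : Fact (Nat.Prime 2) := ⟨Nat.prime_two⟩
  obtain ⟨K, hK⟩ := Sylow.exists_subgroup_card_pow_prime (G := normalizer (U : Set Y)) 2 (n := 2)
    (by norm_num; exact hN)
  have hK4 : Nat.card K = 4 := by rw [hK]; norm_num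
  by_contra hcon
  push Not at hcon
  have hsq : ∀ x ∈ K, x * x = 1 := by
    intro x hx
    have h1 : orderOf x ∣ 2 ^ 2 := by
      have : orderOf (⟨x, hx⟩ : K) ∣ Nat.card K := orderOf_dvd_natCard _
      rwa [Subgroup.orderOf_mk, hK] at this
    obtain ⟨j, hj, hj2⟩ := (Nat.dvd_prime_pow Nat.prime_two).1 h1
    have h2 : j ≠ 2 := by
      rintro rfl
      exact hcon x x.2 (by rw [Subgroup.orderOf_coe]; exact hj2)
    have h3 : orderOf x ∣ 2 := by
      rw [hj2]
      have : j ≤ 1 := by omega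
      exact pow_dvd_pow 2 this
    have := orderOf_dvd_iff_pow_eq_one.1 h3
    rwa [pow_two] at this
  obtain ⟨u, hu, hu1⟩ : ∃ u ∈ U, u ≠ 1 := by
    by_contra hc
    push Not at hc
    exact hU1 ((Subgroup.eq_bot_iff_forall _).2 hc)
  have hinv : ∀ s ∈ K, s ≠ 1 → (s : Y) * u * (s : Y)⁻¹ = u⁻¹ := by
    intro s hs hs1
    have hs2 : (s : Y) * s = 1 := congrArg Subtype.val (hsq s hs)
    refine inverts_of_fpf hs2 s.2 ?_ u hu
    intro w hw hcw
    by_contra hw1
    have h1 : (s : Y) ∈ centralizer ({w} : Set Y) := mem_cent.2 hcw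
    rw [hc w hw hw1] at h1
    apply hs1
    apply Subtype.ext
    exact eq_one_of_two_mem hk h1 (j := 1) (by rw [pow_one, pow_two]; exact hs2)
  obtain ⟨s, t, hs1, ht1, hst⟩ : ∃ s t : K, s ≠ 1 ∧ t ≠ 1 ∧ s ≠ t := by
    have h2 : 2 < Nat.card K := by omega
    classical
    haveI : Fintype K := Fintype.ofFinite K
    rw [Nat.card_eq_fintype_card, Fintype.two_lt_card_iff] at h2
    obtain ⟨a, b, c, hab, hac, hbc⟩ := h2
    by_cases ha : a = 1
    · exact ⟨b, c, fun h => hab (ha.trans h.symm), fun h => hac (ha.trans h.symm), hbc⟩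
    · by_cases hb : b = 1
      · exact ⟨a, c, ha, fun h => hbc (hb.trans h.symm), hac⟩
      · exact ⟨a, b, ha, hb, hab⟩
  have e1 := hinv s s.2 (fun h => hs1 (Subtype.ext h))
  have e2 := hinv t t.2 (fun h => ht1 (Subtype.ext h))
  have e3 := hinv (s * t : K) (s * t : K).2 (fun h => by
    apply hst
    have h1 : s * t = 1 := Subtype.ext h
    have h2 : t * t = 1 := Subtype.ext (hsq t t.2)
    exact mul_right_cancel (h1.trans h2.symm))
  have e4 : ((s * t : K) : Y) * u * ((s * t : K) : Y)⁻¹ = u := by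
    have : ((s * t : K) : Y) * u * ((s * t : K) : Y)⁻¹ =
        ((s : normalizer (U : Set Y)) : Y) * (((t : normalizer (U : Set Y)) : Y) * u *
          ((t : normalizer (U : Set Y)) : Y)⁻¹) * ((s : normalizer (U : Set Y)) : Y)⁻¹ := by
      show ((s : normalizer (U : Set Y)) : Y) * ((t : normalizer (U : Set Y)) : Y) * u *
        (((s : normalizer (U : Set Y)) : Y) * ((t : normalizer (U : Set Y)) : Y))⁻¹ = _
      group
    rw [this, e2]
    have : (((s : normalizer (U : Set Y)) : Y) * u⁻¹ * ((s : normalizer (U : Set Y)) : Y)⁻¹) = 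
      (((s : normalizer (U : Set Y)) : Y) * u * ((s : normalizer (U : Set Y)) : Y)⁻¹)⁻¹ := by group
    rw [this, e1, inv_inv]
  have e5 : u = u⁻¹ := e4.symm.trans e3
  apply hu1
  refine eq_one_of_two_mem hk hu (j := 1) ?_
  rw [pow_one, pow_two]
  nth_rewrite 2 [e5]
  exact mul_inv_cancel u

end four

variable {G : Type u} [Group G] [Finite G]

theorem sz_bot (hS : Lead.CIT.Sep G) (h3 : H3 G) {F : Type} [Field F] [Fintype F] {m : ℕ} (hm : 1 ≤ m)
    (hF : Fintype.card F = 2 ^ (2 * m + 1)) (e : (G ⧸ pCore 2 G) ≃* Cfsg.Sz F m) : pCore 2 G = ⊥ := by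
  haveI : Fact (Nat.Prime 2) := ⟨Nat.prime_two⟩
  by_contra hb
  haveI : Finite (Cfsg.Sz F m) := Finite.of_equiv _ e.toEquiv
  obtain ⟨U, hU, hUk, hUc, hUN⟩ := Cfsg.Agent.S0333.result hm hF _ (Or.inl rfl)
  have hodd : Odd (Nat.card U) := by
    rw [hUk]
    refine Even.add_one (Even.add ?_ ?_)
    · exact (Nat.even_pow.2 ⟨even_two, by omega⟩)
    · exact (Nat.even_pow.2 ⟨even_two, by omega⟩)
  have hU1 : U ≠ ⊥ := by
    intro h
    rw [h, Subgroup.card_bot] at hUk
    have h1 : 0 < 2 ^ (2 * m + 1) := by positivity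
    have h2 : 0 < 2 ^ (m + 1) := by positivity
    generalize 2 ^ (2 * m + 1) = a at *
    generalize 2 ^ (m + 1) = b at *
    omega
  obtain ⟨x, hxN, hx4⟩ := exists_four hodd hU1 hUc (by rw [hUN]; exact dvd_mul_right _ _)
  refine h3.no_eight (exists_ord8 hS (H1.Cores.isPGroup_pCore 2) hb (x := e.symm x)
    (by rw [MulEquiv.orderOf_eq, hx4]) (Q := U.map e.symm.toMonoidHom) ?_ ?_ ?_ ?_)
  · rw [Subgroup.card_map_of_injective e.symm.injective]
    exact hodd
  · intro h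
    apply hU1
    exact (Subgroup.map_eq_bot_iff_of_injective _ e.symm.injective).1 h
  · rintro _ ⟨u, hu, rfl⟩
    refine ⟨x * u * x⁻¹, conj_mem_norm hxN hu, ?_⟩
    simp
  · rintro i hi hi4 _ ⟨u, hu, rfl⟩ hc
    have h1 : x ^ i * u = u * x ^ i := by
      apply e.symm.injective
      rw [map_mul, map_mul, map_pow]
      exact hc
    by_contra hne
    have hu1 : u ≠ 1 := by
      rintro rfl
      exact hne (map_one _)
    have h2 : x ^ i ∈ centralizer ({u} : Set (Cfsg.Sz F m)) := mem_cent.2 h1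
    rw [hUc u hu hu1] at h2
    have hx4' : x ^ (2 ^ 2) = 1 := by
      have := pow_orderOf_eq_one x
      rw [hx4] at this
      exact this
    have h4 : x ^ i = 1 := eq_one_of_two_mem hodd h2 (j := 2) (by
      rw [← pow_mul, mul_comm, pow_mul, hx4', one_pow])
    have h5 := orderOf_dvd_of_pow_eq_one h4
    rw [hx4] at h5
    have := Nat.le_of_dvd hi h5
    omega

/-- the Suzuki case -/
theorem sz_final (hS : Lead.CIT.Sep G) (h3 : H3 G) (hsim : IsSimpleGroup (G ⧸ pCore 2 G))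
    {F : Type} [Field F] [Fintype F] {m : ℕ} (hm : 1 ≤ m)
    (hF : Fintype.card F = 2 ^ (2 * m + 1)) (e : (G ⧸ pCore 2 G) ≃* Cfsg.Sz F m) :
    IsSimpleGroup G ∧ Nat.card G = (2 ^ (2 * m + 1)) ^ 2 * ((2 ^ (2 * m + 1)) ^ 2 + 1) * (2 ^ (2 * m + 1) - 1) ∧
        (2 ^ (2 * m + 1) - 1).primeFactorsList.length ≤ 2 ∧
        (2 ^ (2 * m + 1) - 2 ^ (m + 1) + 1).primeFactorsList.length ≤ 2 ∧
        (2 ^ (2 * m + 1) + 2 ^ (m + 1) + 1).primeFactorsList.length ≤ 2 := by
  have hb := sz_bot hS h3 hm hF e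
  have e1 : G ≃* (G ⧸ pCore 2 G) := by
    have e2 : G ⧸ (⊥ : Subgroup G) ≃* G := QuotientGroup.quotientBot
    exact e2.symm.trans (QuotientGroup.quotientMulEquivOfEq hb.symm)
  have e3 := e1.trans e
  have hk : ∀ k ∈ ({2 ^ (2 * m + 1) + 2 ^ (m + 1) + 1, 2 ^ (2 * m + 1) - 2 ^ (m + 1) + 1} : Set ℕ),
      Ord G k := by
    intro k hk
    obtain ⟨U, hU, hUk, -, -⟩ := Cfsg.Agent.S0333.result hm hF k hk
    obtain ⟨g, hg⟩ := hU.exists_generator
    refine ⟨e3.symm (g : Cfsg.Sz F m), ?_⟩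
    rw [MulEquiv.orderOf_eq, Subgroup.orderOf_coe, ← hUk]
    exact orderOf_eq_card_of_forall_mem_zpowers hg
  refine ⟨e1.isSimpleGroup, ?_, ?_, ?_, ?_⟩
  · rw [Nat.card_congr e3.toEquiv]
    exact Cfsg.Agent.S0324.result hm hF
  · obtain ⟨f⟩ := Cfsg.Agent.S0328.result hm hF
    haveI : IsCyclic Fˣ := inferInstance
    obtain ⟨g, hg⟩ := IsCyclic.exists_generator (α := Fˣ)
    have h1 : orderOf g = 2 ^ (2 * m + 1) - 1 := by
      classical
      rw [orderOf_eq_card_of_forall_mem_zpowers hg, Nat.card_units, Nat.card_eq_fintype_card, hF]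
    apply h3.factors
    refine ⟨e3.symm ((f.symm g : _) : Cfsg.Sz F m), ?_⟩
    rw [MulEquiv.orderOf_eq, Subgroup.orderOf_coe, MulEquiv.orderOf_eq, h1]
  · exact h3.factors (hk _ (Or.inr rfl))
  · exact h3.factors (hk _ (Or.inl rfl))

end H36.NT
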