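import Mathlib
import Cfsg.Agent.Lib.H36.NTa
import Cfsg.Agent.Lib.H36.SepOver1
import Cfsg.Agent.Lib.H49.FixedField

/-!
# Overgroups of `PSL₂(F)`: tools
-/

set_option autoImplicit false
set_option linter.unusedSectionVars false

open Subgroup Matrix H50.PSLBasic

namespace H36.NT

open H36.NS H36.SepOver

universe u v

section general

variable {N : Type u} [Group N] [Finite N] {L : Subgroup N} [L.Normal] {X : Type v} [Group X]

theorem ord_of_range {e : L ≃* X} (hC : centralizer (L : Set N) = ⊥) {α : MulAut X}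
    (h : α ∈ (Phi e : N →* MulAut X).range) : Ord N (orderOf α) := by
  obtain ⟨n, rfl⟩ := h
  exact ⟨n, (orderOf_injective _ (Phi_inj e hC) n).symm⟩

end general

section two

variable {F : Type v} [Field F] [Fintype F]

/-- field automorphisms -/
def psiField : (F ≃+* F) →* MulAut (ProjectiveSpecialLinearGroup (Fin 2) F) where
  toFun σ := psi 1 σ
  map_one' := psi_one
  map_mul' σ τ := by
    rw [psi_mul, map_one, one_mul]
    rfl

theorem psiField_apply (σ : F ≃+* F) : psiField σ = psi (1 : GL (Fin 2) F) σ := rfl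

theorem psiField_inj : Function.Injective (psiField : (F ≃+* F) →* _) := by
  rw [injective_iff_map_eq_one]
  intro σ h
  exact (H50.PSLUniq.psi_eq_one h).1

theorem orderOf_psiField (σ : F ≃+* F) : orderOf (psi (1 : GL (Fin 2) F) σ) = orderOf σ :=
  orderOf_injective psiField psiField_inj σ

theorem psi_pow_refl (g : GL (Fin 2) F) (n : ℕ) :
    psi g (RingEquiv.refl F) ^ n = psi (g ^ n) (RingEquiv.refl F) := by
  induction n with
  | zero => rw [pow_zero, pow_zero, psi_one]
  | succ n ih => rw [pow_succ, ih, psi_mul_refl, pow_succ]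

variable {N : Type u} [Group N] [Finite N] {L : Subgroup N} [L.Normal]
  (e : L ≃* ProjectiveSpecialLinearGroup (Fin 2) F)

theorem mem_range_of_square {g : GL (Fin 2) F} (h : IsSquare (g : Matrix (Fin 2) (Fin 2) F).det) :
    psi g (RingEquiv.refl F) ∈ (Phi e : N →* _).range := by
  obtain ⟨k, hk⟩ := h
  have h1 : psi g (RingEquiv.refl F) ∈ Cfsg.Inn (ProjectiveSpecialLinearGroup (Fin 2) F) := by
    rw [H50.PSLUniq.psi_mem_inn_iff]
    refine ⟨rfl, k, ?_⟩
    rw [hk, Fintype.card_fin, pow_two]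
  obtain ⟨y, hy⟩ := h1
  rw [← hy]
  exact conj_mem_range e y

/-- changing the matrix -/
theorem shift {g h : GL (Fin 2) F} {σ : F ≃+* F}
    (hs : IsSquare ((h : Matrix (Fin 2) (Fin 2) F).det * (g : Matrix (Fin 2) (Fin 2) F).det))
    (hg : psi g σ ∈ (Phi e : N →* _).range) : psi h σ ∈ (Phi e : N →* _).range := by
  have hd : IsUnit (g : Matrix (Fin 2) (Fin 2) F).det := (Matrix.isUnit_iff_isUnit_det _).1 g.isUnit
  have h1 : psi (h * g⁻¹) (RingEquiv.refl F) ∈ (Phi e : N →* _).range := by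
    apply mem_range_of_square
    obtain ⟨k, hk⟩ := hs
    refine ⟨k * ((g : Matrix (Fin 2) (Fin 2) F).det)⁻¹, ?_⟩
    rw [Units.val_mul, Matrix.det_mul, Matrix.coe_units_inv, Matrix.det_nonsing_inv, Ring.inverse_eq_inv']
    have hd0 : (g : Matrix (Fin 2) (Fin 2) F).det ≠ 0 := hd.ne_zero
    field_simp
    linear_combination hk
  have h2 := (Phi e : N →* _).range.mul_mem h1 hg
  rw [psi_mul] at h2
  have e1 : glMap (RingEquiv.refl F) g = g := by
    apply Units.ext
    rw [glMap_coe]
    ext i j; rfl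
  have e2 : σ.trans (RingEquiv.refl F) = σ := rfl
  rwa [e1, e2, inv_mul_cancel_right] at h2

theorem pow_two_ne (g : GL (Fin 2) F) (h : ∀ c : F, (g : Matrix (Fin 2) (Fin 2) F) ≠ c • 1) :
    psi g (RingEquiv.refl F) ≠ 1 := by
  intro h1
  obtain ⟨-, c, hc⟩ := H50.PSLUniq.psi_eq_one h1
  exact h c hc

/-- automorphisms fixing a matrix -/
theorem psi_comm {g : GL (Fin 2) F} {σ : F ≃+* F} (h : glMap σ g = g) :
    Commute (psi (1 : GL (Fin 2) F) σ) (psi g (RingEquiv.refl F)) := by
  show psi (1 : GL (Fin 2) F) σ * psi g (RingEquiv.refl F) = psi g (RingEquiv.refl F) * psi (1 : GL (Fin 2) F) σ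
  rw [psi_mul, psi_mul, h, map_one, one_mul, mul_one]
  rfl

end two

end H36.NT
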