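import Mathlib
import Cfsg.Agent.Lib.H36.NTd

/-!
# `M₁₀` has elements of order eight
-/

set_option autoImplicit false
set_option linter.unusedSectionVars false

open Subgroup Matrix H50.PSLBasic

namespace H36.NT

open H36.NS H36.SepOver

universe u v

section nine

variable {F : Type v} [Field F] [Fintype F]

theorem char_nine (h9 : Fintype.card F = 9) : CharP F 3 := by
  obtain ⟨p, hpc⟩ := CharP.exists F
  have hpp : p.Prime := CharP.char_is_prime F p
  have h1 := (CharP.cast_eq_zero_iff F p _).mp (FiniteField.cast_card_eq_zero F)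
  rw [h9] at h1
  have h2 : p ∣ 3 ^ 2 := by norm_num; exact h1
  have h4 := (Nat.prime_dvd_prime_iff_eq hpp Nat.prime_three).mp (hpp.dvd_of_dvd_pow h2)
  rwa [h4] at hpc

theorem gal_nine (h9 : Fintype.card F = 9) (σ τ : F ≃+* F) (h1 : σ ≠ RingEquiv.refl F)
    (h2 : τ ≠ RingEquiv.refl F) : σ = τ ∧ τ.trans σ = RingEquiv.refl F := by
  haveI := char_nine h9
  haveI : Fact (Nat.Prime 3) := ⟨Nat.prime_three⟩
  letI : Algebra (ZMod 3) F := ZMod.algebra F 3
  have hf : ∀ (ρ : F ≃+* F) (r : ZMod 3), ρ (algebraMap (ZMod 3) F r) = algebraMap (ZMod 3) F r := by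
    intro ρ r
    have : (ρ : F →+* F).comp (algebraMap (ZMod 3) F) = algebraMap (ZMod 3) F :=
      Subsingleton.elim _ _
    exact congrArg (fun f : ZMod 3 →+* F => f r) this
  have hfin : Module.finrank (ZMod 3) F = 2 := by
    have h4 := Module.card_eq_pow_finrank (K := ZMod 3) (V := F)
    rw [h9, ZMod.card] at h4
    have h5 : (3 : ℕ) ^ 2 = 3 ^ Module.finrank (ZMod 3) F := by rw [← h4]; norm_num
    exact (Nat.pow_right_injective (by norm_num : 2 ≤ 3) h5).symm
  have hcard : Nat.card (F ≃ₐ[ZMod 3] F) = 2 := by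
    rw [IsGalois.card_aut_eq_finrank, hfin]
  let s := AlgEquiv.ofRingEquiv (hf σ)
  let t := AlgEquiv.ofRingEquiv (hf τ)
  have hs1 : s ≠ 1 := by
    intro h
    apply h1
    ext x
    exact congrArg (fun f : F ≃ₐ[ZMod 3] F => f x) h
  have ht1 : t ≠ 1 := by
    intro h
    apply h2
    ext x
    exact congrArg (fun f : F ≃ₐ[ZMod 3] F => f x) h
  rw [Nat.card_eq_two_iff] at hcard
  obtain ⟨u, v, huv, huniv⟩ := hcard
  have hall : ∀ w : F ≃ₐ[ZMod 3] F, w = u ∨ w = v := by
    intro w
    have : w ∈ ({u, v} : Set _) := huniv ▸ Set.mem_univ w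
    simpa using this
  have hsteq : s = t := by
    rcases hall s with a1 | a1 <;> rcases hall t with a2 | a2 <;> rcases hall 1 with a3 | a3
    all_goals first
      | exact a1.trans a2.symm
      | exact absurd (a1.trans a3.symm) hs1
      | exact absurd (a2.trans a3.symm) ht1
  have hst : s * t = 1 := by
    rcases hall (s * t) with a1 | a1 <;> rcases hall s with a2 | a2 <;> rcases hall 1 with a3 | a3
    all_goals first
      | exact a1.trans a3.symm
      | exact absurd (a2.trans a3.symm) hs1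
      | (exfalso; apply ht1; have := a1.trans a2.symm; exact mul_eq_left.mp this)
  constructor
  · ext x
    exact congrArg (fun f : F ≃ₐ[ZMod 3] F => f x) hsteq
  · ext x
    exact congrArg (fun f : F ≃ₐ[ZMod 3] F => f x) hst

theorem frob_nine (h9 : Fintype.card F = 9) {σ : F ≃+* F} (h1 : σ ≠ RingEquiv.refl F) {w : F}
    (hw : w ^ 4 = -1) : σ w = w ^ 3 := by
  haveI := char_nine h9
  haveI : Fact (Nat.Prime 3) := ⟨Nat.prime_three⟩
  let τ : F ≃+* F := frobeniusEquiv F 3
  have hτ : τ ≠ RingEquiv.refl F := by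
    intro h
    have h2 : τ w = w := by rw [h]; rfl
    have h3 : w ^ 3 = w := h2
    have hw0 : w ≠ 0 := by
      rintro rfl
      rw [zero_pow (by norm_num)] at hw
      exact one_ne_zero (neg_eq_zero.1 hw.symm)
    have h4 : w ^ 2 = 1 := by
      have : w * (w ^ 2 - 1) = 0 := by linear_combination h3
      exact sub_eq_zero.1 ((mul_eq_zero.1 this).resolve_left hw0)
    have h5 : w ^ 4 = 1 := by
      have : w ^ 4 = (w ^ 2) ^ 2 := by ring
      rw [this, h4, one_pow]
    rw [h5] at hw
    have h6 : (2 : F) = 0 := by linear_combination hw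
    have h7 : (3 : F) = 0 := by
      have := CharP.cast_eq_zero F 3
      exact_mod_cast this
    exact one_ne_zero (α := F) (by linear_combination h7 - h6)
  rw [(gal_nine h9 σ τ h1 hτ).1]
  rfl

variable {N : Type u} [Group N] [Finite N] {L : Subgroup N} [L.Normal]

theorem no_m10 (hS : Lead.CIT.Sep N) (h8 : ¬ Ord N 8) (hC : centralizer (L : Set N) = ⊥)
    (hidx : L.index = 2) (e : L ≃* ProjectiveSpecialLinearGroup (Fin 2) F) (h9 : Fintype.card F = 9) :
    False := by
  classical
  haveI := char_nine h9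
  haveI : Fact (Nat.Prime 3) := ⟨Nat.prime_three⟩
  haveI : Fact (Nat.Prime 2) := ⟨Nat.prime_two⟩
  have hodd : Odd (Fintype.card F) := by rw [h9]; decide
  have h3F : (3 : F) = 0 := by
    have := CharP.cast_eq_zero F 3
    exact_mod_cast this
  have h2F : (2 : F) ≠ 0 := by
    intro h
    exact one_ne_zero (α := F) (by linear_combination h3F - h)
  obtain ⟨a, ha⟩ : ∃ a : N, a ∉ L := by
    by_contra hcon
    push Not at hcon
    have : L = ⊤ := eq_top_iff.mpr fun x _ => hcon x
    rw [this, Subgroup.index_top] at hidx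
    omega
  obtain ⟨g, σ, h⟩ := exists_psi e a
  have hσ : σ ≠ RingEquiv.refl F := by
    rintro rfl
    exact ha (mem_of_refl hS hC e hodd (by omega) h)
  have hg : psi g σ ∈ (Phi e : N →* _).range := ⟨a, h⟩
  have hσσ : σ.trans σ = RingEquiv.refl F := (gal_nine h9 σ σ hσ hσ).2
  have hns : ¬ IsSquare (g : Matrix (Fin 2) (Fin 2) F).det := by
    intro hsq
    have h1 : psi (1 : GL (Fin 2) F) σ ∈ (Phi e : N →* _).range := by
      refine shift e ?_ hg
      rw [Units.val_one, Matrix.det_one, one_mul]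
      exact hsq
    let x : SpecialLinearGroup (Fin 2) F := ⟨!![1, 1; 0, 1], by simp⟩
    have hx3 : x ^ 3 = 1 := by
      apply Subtype.ext
      rw [Matrix.SpecialLinearGroup.coe_pow]
      show (!![1, 1; 0, 1] : Matrix (Fin 2) (Fin 2) F) ^ 3 = 1
      rw [pow_succ, pow_succ, pow_one]
      ext i j
      fin_cases i <;> fin_cases j <;> simp [Matrix.mul_apply, Fin.sum_univ_two]
      linear_combination h3F
    have hβ : MulAut.conj (QuotientGroup.mk x : ProjectiveSpecialLinearGroup (Fin 2) F) =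
        psi (Matrix.SpecialLinearGroup.toGL x) (RingEquiv.refl F) := H50.PSLPure.conj_eq_psi x
    have hβ1 := sep_phi hS e hC (β := MulAut.conj (QuotientGroup.mk x : ProjectiveSpecialLinearGroup (Fin 2) F))
      h1 (conj_mem_range e _) (by rw [psi_mul, hσσ, map_one, one_mul, psi_one])
      (fun h => hσ (H50.PSLUniq.psi_eq_one h).1) (r := 3) (by decide) (by
        rw [← map_pow, ← QuotientGroup.mk_pow, hx3]
        exact map_one _) (by
        rw [hβ]
        refine (psi_comm ?_).symm.eq
        apply Units.ext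
        rw [glMap_coe]
        change (!![1, 1; 0, 1] : Matrix (Fin 2) (Fin 2) F).map σ = !![1, 1; 0, 1]
        ext i j
        fin_cases i <;> fin_cases j <;> simp)
    rw [hβ] at hβ1
    obtain ⟨-, k, hk⟩ := H50.PSLUniq.psi_eq_one hβ1
    have hk' : (!![1, 1; 0, 1] : Matrix (Fin 2) (Fin 2) F) = k • 1 := hk
    have := congrFun (congrFun hk' 0) 1
    simp at this
  set d := (g : Matrix (Fin 2) (Fin 2) F).det with hd
  have hd0 : d ≠ 0 := by
    intro h0
    apply hns
    rw [h0]
    exact ⟨0, by simp⟩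
  have hd4 : d ^ 4 = -1 := by
    have h1 := FiniteField.pow_dichotomy (F := F) (by
      rw [ringChar.eq F 3]; norm_num) hd0
    have h2 : Fintype.card F / 2 = 4 := by rw [h9]
    rw [h2] at h1
    rcases h1 with h1 | h1
    · exfalso
      apply hns
      rw [FiniteField.isSquare_iff (by rw [ringChar.eq F 3]; norm_num) hd0, h2]
      exact h1
    · exact h1
  have hσd : σ d = d ^ 3 := frob_nine h9 hσ hd4
  let A : Matrix (Fin 2) (Fin 2) F := !![0, d; 1, 0]
  have hA : A.det = -d := by simp [A, Matrix.det_fin_two_of]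
  have hA0 : A.det ≠ 0 := by rw [hA]; exact neg_ne_zero.2 hd0
  let g' : GL (Fin 2) F := GeneralLinearGroup.mkOfDetNeZero A hA0
  have hg' : (g' : Matrix (Fin 2) (Fin 2) F) = A := rfl
  have hmem : psi g' σ ∈ (Phi e : N →* _).range := by
    refine shift e ?_ hg
    rw [hg', hA, ← hd]
    refine ⟨d ^ 3, ?_⟩
    linear_combination (-d ^ 2) * hd4
  let B : Matrix (Fin 2) (Fin 2) F := !![d, 0; 0, d ^ 3]
  have hsq : psi g' σ ^ 2 = psi (g' * glMap σ g') (RingEquiv.refl F) := by
    rw [pow_two, psi_mul, hσσ]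
  have hB : ((g' * glMap σ g' : GL (Fin 2) F) : Matrix (Fin 2) (Fin 2) F) = B := by
    rw [Units.val_mul, glMap_coe, hg']
    ext i j
    fin_cases i <;> fin_cases j <;> simp [A, B, Matrix.mul_apply, Fin.sum_univ_two, hσd]
  have h4 : psi g' σ ^ 4 ≠ 1 := by
    have h1 : psi g' σ ^ 4 = psi ((g' * glMap σ g') ^ 2) (RingEquiv.refl F) := by
      rw [← psi_pow_refl, ← hsq, ← pow_mul]
    rw [h1]
    apply pow_two_ne
    intro c hc
    rw [Units.val_pow_eq_pow_val, hB, pow_two] at hc
    have e1 := congrFun (congrFun hc 0) 0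
    have e2 := congrFun (congrFun hc 1) 1
    simp [B, Matrix.mul_apply, Fin.sum_univ_two] at e1 e2
    have h5 : d ^ 2 * 2 = 0 := by
      have h6 : d ^ 3 * d ^ 3 = d * d := by rw [e1, e2]
      linear_combination (-1 : F) * h6 + d ^ 2 * hd4
    rcases mul_eq_zero.1 h5 with h6 | h6
    · exact hd0 (pow_eq_zero_iff (by norm_num) |>.1 h6)
    · exact h2F h6
  have h8' : psi g' σ ^ 8 = 1 := by
    have h1 : psi g' σ ^ 8 = psi ((g' * glMap σ g') ^ 4) (RingEquiv.refl F) := by
      rw [← psi_pow_refl, ← hsq, ← pow_mul]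
    rw [h1]
    apply psi_one_of_scalar (c := -1)
    rw [Units.val_pow_eq_pow_val, hB, show (4 : ℕ) = 2 * 2 from rfl, pow_mul, pow_two, pow_two]
    ext i j
    fin_cases i <;> fin_cases j <;> simp [B, Matrix.mul_apply, Fin.sum_univ_two]
    · linear_combination hd4
    · linear_combination (d ^ 8 - d ^ 4 + 1) * hd4
  apply h8
  have h9' : orderOf (psi g' σ) = 2 ^ 3 := orderOf_eq_prime_pow (by norm_num; exact h4) (by norm_num; exact h8')
  have := ord_of_range hC hmem
  rw [h9'] at this
  exact this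

end nine

end H36.NT
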