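import Mathlib
import Cfsg.Agent.Lib.H36.NTc
import Cfsg.Agent.Lib.H36.NTe
import Cfsg.Agent.Lib.H36.SepMain

/-!
# The conclusion in the `Sep` case
-/

set_option autoImplicit false
set_option linter.unusedSectionVars false

open Subgroup Cfsg

namespace H36.NT

open H36.NS

universe u

/-- the conclusion -/
def Concl (G : Type u) [Group G] : Prop :=
    (∃ (F : Type) (_ : Field F) (_ : Fintype F), CharP F 2 ∧ 4 ≤ Fintype.card F ∧
        (Fintype.card F + 1).primeFactorsList.length ≤ 2 ∧ (Fintype.card F - 1).primeFactorsList.length ≤ 2 ∧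
        Nonempty (G ⧸ Cfsg.pCore 2 G ≃* Matrix.ProjectiveSpecialLinearGroup (Fin 2) F)) ∨
    (∃ (F : Type) (_ : Field F) (_ : Fintype F), 5 < Fintype.card F ∧ (Fintype.card F % 8 = 3 ∨ Fintype.card F % 8 = 5) ∧
        ((Fintype.card F + 1) / 2).primeFactorsList.length ≤ 2 ∧ ((Fintype.card F - 1) / 2).primeFactorsList.length ≤ 2 ∧
        Nonempty (G ≃* Matrix.ProjectiveSpecialLinearGroup (Fin 2) F)) ∨
    (∃ (F : Type) (_ : Field F) (_ : Fintype F), (Fintype.card F = 7 ∨ Fintype.card F = 9) ∧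
        Nonempty (G ≃* Matrix.ProjectiveSpecialLinearGroup (Fin 2) F)) ∨
    (∃ (F : Type) (_ : Field F) (_ : Fintype F), Fintype.card F = 4 ∧ Nonempty (G ≃* Matrix.ProjectiveSpecialLinearGroup (Fin 3) F)) ∨
    (∃ n : ℕ, 1 ≤ n ∧ IsSimpleGroup G ∧ Nat.card G = (2 ^ (2 * n + 1)) ^ 2 * ((2 ^ (2 * n + 1)) ^ 2 + 1) * (2 ^ (2 * n + 1) - 1) ∧
        (2 ^ (2 * n + 1) - 1).primeFactorsList.length ≤ 2 ∧ (2 ^ (2 * n + 1) - 2 ^ (n + 1) + 1).primeFactorsList.length ≤ 2 ∧
        (2 ^ (2 * n + 1) + 2 ^ (n + 1) + 1).primeFactorsList.length ≤ 2)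

variable {G : Type u} [Group G] [Finite G]

theorem charP_two {F : Type} [Field F] [Fintype F] {n : ℕ} (hn : n ≠ 0) (hF : Fintype.card F = 2 ^ n) :
    CharP F 2 := by
  obtain ⟨p, hp⟩ := CharP.exists F
  have hpp : p.Prime := CharP.char_is_prime F p
  have h1 : p ∣ 2 := by
    rw [← CharP.cast_eq_zero_iff F p 2]
    exact_mod_cast two_eq_zero_of_card hn hF
  have h2 := (Nat.prime_dvd_prime_iff_eq hpp Nat.prime_two).1 h1
  rwa [h2] at hp

theorem sep_case (hS : Lead.CIT.Sep G) (hns : ¬ Group.IsSolvable G) (h3 : H3 G) : Concl G := by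
  rcases H36.SepMain.sep_main hS hns with ⟨-, -, F, _, _, n, hn, hF, ⟨e⟩⟩ |
    ⟨hsim, -, -, F, _, _, m, hm, hF, ⟨e⟩⟩ | ⟨hb, ⟨F, _, _, hF, ⟨e⟩⟩ | ⟨L, hL, hidx, hC, F, _, _, h9, ⟨e⟩⟩ |
    ⟨F, _, _, hF, ⟨e⟩⟩⟩
  · left
    have h4 : 2 ^ 2 ≤ 2 ^ n := Nat.pow_le_pow_right (by norm_num) hn
    refine ⟨F, inferInstance, inferInstance, charP_two (by omega) hF, by rw [hF]; omega, ?_, ?_, ⟨e⟩⟩
    · rw [hF]
      exact h3.factors (ord_of_quotient (H11.Eppo.psl_orders_even hF e (Or.inr (Or.inr dvd_rfl))))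
    · rw [hF]
      exact h3.factors (ord_of_quotient (H11.Eppo.psl_orders_even hF e (Or.inr (Or.inl dvd_rfl))))
  · right; right; right; right
    obtain ⟨h1, h2⟩ := sz_final hS h3 hsim hm hF e
    exact ⟨m, hm, h1, h2⟩
  · right; right; left
    rcases hF with h9 | ⟨h7, hp, k, hk⟩
    · exact ⟨F, inferInstance, inferInstance, Or.inr h9, ⟨e⟩⟩
    · by_cases h7' : Fintype.card F = 7
      · exact ⟨F, inferInstance, inferInstance, Or.inl h7', ⟨e⟩⟩
      exfalso
      have hodd : Odd (Fintype.card F) := by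
        rcases hp.eq_two_or_odd' with h | h
        · omega
        · exact h
      obtain ⟨h1, h2⟩ := psl_ord hodd e
      apply h3.no_eight
      rcases hk with hk | hk
      · have hk4 : 4 ≤ k := by
          by_contra hcon
          have : k = 0 ∨ k = 1 ∨ k = 2 ∨ k = 3 := by omega
          rcases this with rfl | rfl | rfl | rfl
          · omega
          · omega
          · omega
          · rw [hk] at hp
            norm_num at hp
        apply h1.of_dvd
        obtain ⟨j, rfl⟩ := Nat.exists_eq_add_of_le hk4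
        refine ⟨2 ^ j, ?_⟩
        rw [hk, Nat.add_sub_cancel, pow_add]
        omega
      · have hk4 : 4 ≤ k := by
          by_contra hcon
          have : k = 0 ∨ k = 1 ∨ k = 2 ∨ k = 3 := by omega
          rcases this with rfl | rfl | rfl | rfl <;> omega
        apply h2.of_dvd
        obtain ⟨j, rfl⟩ := Nat.exists_eq_add_of_le hk4
        refine ⟨2 ^ j, ?_⟩
        rw [hk, pow_add]
        omega
  · exact (no_m10 hS h3.no_eight hC hidx e h9).elim
  · right; right; right; left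
    exact ⟨F, inferInstance, inferInstance, hF, ⟨e⟩⟩

end H36.NT
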