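import Mathlib
import Cfsg.Agent.Lib.H36.NTd
import Cfsg.Agent.Lib.H36.NSk

/-!
# Overgroups of `PSL₂(F)` with `NS`
-/

set_option autoImplicit false
set_option linter.unusedSectionVars false

open Subgroup Matrix H50.PSLBasic

namespace H36.NT

open H36.NS H36.SepOver

universe u v

variable {r : ℕ}

theorem NS_no_four {N : Type u} [Group N] (h : NS N r) : ¬ Ord N 4 := by
  rintro ⟨g, hg⟩
  rcases h.ev g (by rw [hg]; norm_num) with h1 | h1
  · rw [hg] at h1; omega
  · rw [hg] at h1
    exact h.ne2 (by omega)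

theorem NS_ord_even {N : Type u} [Group N] (h : NS N r) {k : ℕ} (hk : Ord N k) (h2 : 2 ∣ k) :
    k = 2 ∨ k = 2 * r := by
  obtain ⟨g, rfl⟩ := hk
  exact h.ev g h2

theorem NS_ord_r {N : Type u} [Group N] (h : NS N r) {k : ℕ} (hk : Ord N k) (h2 : r ∣ k) :
    k = r ∨ k = 2 * r := by
  obtain ⟨g, rfl⟩ := hk
  exact h.od g h2

theorem ord_sub {N : Type u} [Group N] {L : Subgroup N} {k : ℕ} (h : Ord L k) : Ord N k := by
  obtain ⟨g, rfl⟩ := h
  exact ⟨g, Subgroup.orderOf_coe g⟩

theorem three_pow_lt {r : ℕ} (h : 3 ≤ r) : 4 * r + 1 < 3 ^ r := by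
  induction r, h using Nat.le_induction with
  | base => norm_num
  | succ n hn ih => rw [pow_succ]; omega

theorem orderOf_mul_comm' {A : Type u} [Group A] {a b : A} (h : Commute a b)
    (hc : Nat.Coprime (orderOf a) (orderOf b)) : orderOf (a * b) = orderOf a * orderOf b :=
  h.orderOf_mul_eq_mul_orderOf_of_coprime hc

section two

variable {F : Type} [Field F] [Fintype F] {N : Type u} [Group N] [Finite N] {L : Subgroup N} [L.Normal]

theorem sq_mod_eight {a : ℕ} (h : Odd (a ^ 2)) : a ^ 2 % 8 = 1 := by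
  have h1 : Odd a := by
    rcases Nat.even_or_odd a with h2 | h2
    · exact absurd h (by rw [Nat.not_odd_iff_even]; exact (Nat.even_pow).2 ⟨h2, by norm_num⟩)
    · exact h2
  obtain ⟨k, rfl⟩ := h1
  have h2 : (2 * k + 1) ^ 2 = 4 * (k * (k + 1)) + 1 := by ring
  rw [h2]
  obtain ⟨j, hj⟩ := (Nat.even_mul_succ_self k).two_dvd
  rw [hj]
  omega

theorem mod_eight (h : NS N r) (hodd : Odd (Fintype.card F))
    (e : N ≃* ProjectiveSpecialLinearGroup (Fin 2) F) :
    (Fintype.card F % 8 = 3 ∨ Fintype.card F % 8 = 5) ∧ Fintype.card F ≤ 4 * r + 1 := by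
  obtain ⟨h1, h2⟩ := psl_ord hodd e
  obtain ⟨j, hj⟩ := hodd
  have hlt := Fintype.one_lt_card (α := F)
  have hr := h.pr.two_le
  have hm : Fintype.card F % 8 = 1 ∨ Fintype.card F % 8 = 3 ∨ Fintype.card F % 8 = 5 ∨
      Fintype.card F % 8 = 7 := by omega
  rcases hm with hm | hm | hm | hm
  · exfalso
    exact NS_no_four h (h1.of_dvd (by omega))
  · refine ⟨Or.inl hm, ?_⟩
    rcases NS_ord_even h h2 (by omega) with h3 | h3 <;> omega
  · refine ⟨Or.inr hm, ?_⟩
    rcases NS_ord_even h h1 (by omega) with h3 | h3 <;> omega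
  · exfalso
    exact NS_no_four h (h2.of_dvd (by omega))

theorem exists_prime_field {e : L ≃* ProjectiveSpecialLinearGroup (Fin 2) F} {τ : F ≃+* F} (hτ : τ ≠ 1)
    (hm : psi (1 : GL (Fin 2) F) τ ∈ (Phi e : N →* _).range) :
    ∃ (ρ : F ≃+* F) (p : ℕ), p.Prime ∧ orderOf ρ = p ∧ psi (1 : GL (Fin 2) F) ρ ∈ (Phi e : N →* _).range := by
  haveI : Finite (F ≃+* F) := Finite.of_injective (fun f => (f : F → F)) DFunLike.coe_injective
  have h1 : orderOf τ ≠ 1 := fun h => hτ (orderOf_eq_one_iff.1 h)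
  have hp : (orderOf τ).minFac.Prime := Nat.minFac_prime h1
  obtain ⟨l, hl⟩ := Nat.minFac_dvd (orderOf τ)
  have hl0 : l ≠ 0 := by
    rintro rfl
    rw [mul_zero] at hl
    exact (orderOf_pos τ).ne' hl
  refine ⟨τ ^ l, (orderOf τ).minFac, hp, ?_, ?_⟩
  · rw [orderOf_pow_of_dvd hl0 (Dvd.intro_left _ hl.symm)]
    nth_rewrite 1 [hl]
    exact Nat.mul_div_cancel _ (Nat.pos_of_ne_zero hl0)
  · rw [← psiField_apply, map_pow]
    exact pow_mem hm l

/-- `|F|` odd -/
theorem odd_top (h : NS N r) (hC : centralizer (L : Set N) = ⊥)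
    (e : L ≃* ProjectiveSpecialLinearGroup (Fin 2) F) (hodd : Odd (Fintype.card F)) : L = ⊤ := by
  classical
  haveI : Fact (Nat.Prime 2) := ⟨Nat.prime_two⟩
  obtain ⟨hm8, hle⟩ := mod_eight (h.sub L) hodd e
  have h2F : (2 : F) ≠ 0 := by
    intro h
    obtain ⟨k, hk⟩ := hodd
    have h1 := FiniteField.cast_card_eq_zero F
    rw [hk] at h1
    push_cast at h1
    rw [h, zero_mul, zero_add] at h1
    exact one_ne_zero h1
  -- elements of `PGL₂`
  have hA : ∀ g : GL (Fin 2) F, psi g (RingEquiv.refl F) ∈ (Phi e : N →* _).range →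
      IsSquare (g : Matrix (Fin 2) (Fin 2) F).det := by
    intro g hg
    by_contra hns
    let A : Matrix (Fin 2) (Fin 2) F := !![1, 1; -1, 1]
    have hA : A.det = 2 := by rw [Matrix.det_fin_two_of]; ring
    have hA0 : A.det ≠ 0 := by rw [hA]; exact h2F
    let g₀ : GL (Fin 2) F := GeneralLinearGroup.mkOfDetNeZero A hA0
    have hg₀ : (g₀ : Matrix (Fin 2) (Fin 2) F) = A := rfl
    have hmem : psi g₀ (RingEquiv.refl F) ∈ (Phi e : N →* _).range := by
      by_cases hs : IsSquare A.det
      · exact mem_range_of_square e hs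
      · refine shift e ?_ hg
        rw [hg₀]
        exact isSquare_mul_of_not hs hns
    have hsq : A * A = !![0, 2; -2, 0] := by
      ext i j
      fin_cases i <;> fin_cases j <;> simp [A, Matrix.mul_apply, Fin.sum_univ_two] <;> ring
    have h2 : psi g₀ (RingEquiv.refl F) ^ 2 ≠ 1 := by
      rw [psi_pow_refl]
      apply pow_two_ne
      intro c hc
      rw [Units.val_pow_eq_pow_val, hg₀, pow_two, hsq] at hc
      have := congrFun (congrFun hc 0) 1
      simp at this
      exact h2F this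
    have h4 : psi g₀ (RingEquiv.refl F) ^ 4 = 1 := by
      rw [psi_pow_refl]
      apply psi_one_of_scalar (c := -4)
      rw [Units.val_pow_eq_pow_val, hg₀, show (4 : ℕ) = 2 * 2 from rfl, pow_mul, pow_two, pow_two, hsq]
      ext i j
      fin_cases i <;> fin_cases j <;> simp [Matrix.mul_apply, Fin.sum_univ_two] <;> norm_num
    have h5 : orderOf (psi g₀ (RingEquiv.refl F)) = 2 ^ 2 :=
      orderOf_eq_prime_pow (by norm_num; exact h2) (by norm_num; exact h4)
    have h6 := ord_of_range hC hmem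
    rw [h5] at h6
    exact NS_no_four h h6
  by_contra htop
  obtain ⟨a, ha⟩ : ∃ a : N, a ∉ L := by
    by_contra hcon
    push Not at hcon
    exact htop (eq_top_iff.mpr fun x _ => hcon x)
  obtain ⟨g, σ, hgσ⟩ := exists_psi e a
  have hσ : σ ≠ RingEquiv.refl F := by
    rintro rfl
    obtain ⟨k, hk⟩ := hA g ⟨a, hgσ⟩
    have h1 : psi g (RingEquiv.refl F) ∈ Cfsg.Inn (ProjectiveSpecialLinearGroup (Fin 2) F) := by
      rw [H50.PSLUniq.psi_mem_inn_iff]
      refine ⟨rfl, k, ?_⟩
      rw [hk, Fintype.card_fin, pow_two]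
    obtain ⟨y, hy⟩ := h1
    exact ha (mem_L_of_conj e hC (hgσ.trans hy.symm))
  have hg : psi g σ ∈ (Phi e : N →* _).range := ⟨a, hgσ⟩
  have hnsq : ∀ (ρ : F ≃+* F), ¬ 2 ∣ orderOf ρ := by
    rintro ρ ⟨j, hj⟩
    have h1 := H49.FixedField.card_fixedField_pow ρ
    rw [hj, mul_comm, pow_mul, Nat.card_eq_fintype_card (α := F)] at h1
    have h2 := sq_mod_eight (a := Nat.card (H49.FixedField.fixedField ρ) ^ j) (by rw [h1]; exact hodd)
    rw [h1] at h2
    omega
  have hσ2 : σ * σ ≠ 1 := by
    intro h1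
    have h2 : orderOf σ ∣ 2 := orderOf_dvd_of_pow_eq_one (by rw [pow_two]; exact h1)
    rcases (Nat.dvd_prime Nat.prime_two).1 h2 with h3 | h3
    · exact hσ (orderOf_eq_one_iff.1 h3)
    · exact hnsq σ (by rw [h3])
  have hm1 : psi (1 : GL (Fin 2) F) (σ * σ) ∈ (Phi e : N →* _).range := by
    have h1 := (Phi e : N →* _).range.mul_mem hg hg
    rw [psi_mul] at h1
    refine shift e ?_ h1
    rw [Units.val_one, Matrix.det_one, one_mul, Units.val_mul, Matrix.det_mul, glMap_coe]
    have h2 : ((g : Matrix (Fin 2) (Fin 2) F).map σ).det = σ (g : Matrix (Fin 2) (Fin 2) F).det :=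
      (RingHom.map_det (σ : F →+* F) _).symm
    rw [h2]
    by_cases hs : IsSquare (g : Matrix (Fin 2) (Fin 2) F).det
    · obtain ⟨k, hk⟩ := hs
      rw [hk, map_mul]
      exact ⟨k * σ k, by ring⟩
    · apply isSquare_mul_of_not hs
      rintro ⟨k, hk⟩
      apply hs
      refine ⟨σ.symm k, ?_⟩
      rw [← map_mul, ← hk, RingEquiv.symm_apply_apply]
  obtain ⟨ρ, p, hp, hρ, hρm⟩ := exists_prime_field hσ2 hm1
  have hp2 : p ≠ 2 := by
    rintro rfl
    exact hnsq ρ (by rw [hρ])
  -- the involution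
  let A : Matrix (Fin 2) (Fin 2) F := !![0, 1; -1, 0]
  have hAd : A.det = 1 := by rw [Matrix.det_fin_two_of]; ring
  let w : GL (Fin 2) F := GeneralLinearGroup.mkOfDetNeZero A (by rw [hAd]; exact one_ne_zero)
  have hw : (w : Matrix (Fin 2) (Fin 2) F) = A := rfl
  have hwm : psi w (RingEquiv.refl F) ∈ (Phi e : N →* _).range :=
    mem_range_of_square e ⟨1, by rw [hw, hAd, one_mul]⟩
  have hw2 : orderOf (psi w (RingEquiv.refl F)) = 2 := by
    apply orderOf_eq_prime
    · rw [psi_pow_refl]
      apply psi_one_of_scalar (c := -1)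
      rw [Units.val_pow_eq_pow_val, hw, pow_two]
      ext i j
      fin_cases i <;> fin_cases j <;> simp [A, Matrix.mul_apply, Fin.sum_univ_two]
    · apply pow_two_ne
      intro c hc
      have := congrFun (congrFun hc 0) 1
      rw [hw] at this
      simp [A] at this
  have hcm : Commute (psi (1 : GL (Fin 2) F) ρ) (psi w (RingEquiv.refl F)) := by
    apply psi_comm
    apply Units.ext
    rw [glMap_coe, hw]
    ext i j
    fin_cases i <;> fin_cases j <;> simp [A]
  have hord := hcm.orderOf_mul_eq_mul_orderOf_of_coprime (by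
    rw [orderOf_psiField, hρ, hw2]
    exact (Nat.coprime_primes hp Nat.prime_two).2 hp2)
  have h7 := ord_of_range hC ((Phi e : N →* _).range.mul_mem hρm hwm)
  rw [hord, orderOf_psiField, hρ, hw2] at h7
  have hpr : p = r := by
    rcases NS_ord_even h h7 (dvd_mul_left _ _) with h8 | h8
    · have := hp.two_le
      omega
    · omega
  have h8 := H49.FixedField.card_fixedField_pow ρ
  rw [hρ, hpr, Nat.card_eq_fintype_card (α := F)] at h8
  have h9 : 3 ≤ Nat.card (H49.FixedField.fixedField ρ) := by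
    by_contra hcon
    have h10 : Nat.card (H49.FixedField.fixedField ρ) = 0 ∨ Nat.card (H49.FixedField.fixedField ρ) = 1 ∨
        Nat.card (H49.FixedField.fixedField ρ) = 2 := by omega
    have hr0 : r ≠ 0 := h.pr.ne_zero
    have hlt := Fintype.one_lt_card (α := F)
    rcases h10 with h10 | h10 | h10
    · rw [h10, zero_pow hr0] at h8; omega
    · rw [h10, one_pow] at h8; omega
    · rw [h10] at h8
      rw [← h8] at hodd
      exact (Nat.not_even_iff_odd.2 hodd) ((Nat.even_pow).2 ⟨even_two, hr0⟩)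
  have h11 : 3 ^ r ≤ Fintype.card F := by
    rw [← h8]
    exact Nat.pow_le_pow_left h9 r
  have hr3 : 3 ≤ r := by
    have := h.pr.two_le
    have := h.ne2
    omega
  have := three_pow_lt hr3
  omega

/-- `|F|` even -/
theorem even_top (h : NS N r) (hC : centralizer (L : Set N) = ⊥)
    (e : L ≃* ProjectiveSpecialLinearGroup (Fin 2) F) {n : ℕ} (hn : 2 ≤ n)
    (hF : Fintype.card F = 2 ^ n) : L = ⊤ := by
  classical
  haveI : Fact (Nat.Prime 2) := ⟨Nat.prime_two⟩
  haveI : Fact (Nat.Prime 3) := ⟨Nat.prime_three⟩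
  have h2F : (2 : F) = 0 := two_eq_zero_of_card (by omega) hF
  have hchar : ringChar F = 2 := by
    haveI : CharP F 2 := by
      obtain ⟨p, hp⟩ := CharP.exists F
      have hpp : p.Prime := CharP.char_is_prime F p
      have h1 : p ∣ 2 := by
        rw [← CharP.cast_eq_zero_iff F p 2]
        exact_mod_cast h2F
      have h2 := (Nat.prime_dvd_prime_iff_eq hpp Nat.prime_two).1 h1
      rwa [h2] at hp
    exact ringChar.eq F 2
  have hsqr : ∀ a : F, IsSquare a := fun a => FiniteField.isSquare_of_char_two hchar a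
  by_contra htop
  obtain ⟨a, ha⟩ : ∃ a : N, a ∉ L := by
    by_contra hcon
    push Not at hcon
    exact htop (eq_top_iff.mpr fun x _ => hcon x)
  obtain ⟨g, σ, hgσ⟩ := exists_psi e a
  have hσ : σ ≠ 1 := by
    rintro rfl
    obtain ⟨k, hk⟩ := hsqr (g : Matrix (Fin 2) (Fin 2) F).det
    have h1 : psi g (RingEquiv.refl F) ∈ Cfsg.Inn (ProjectiveSpecialLinearGroup (Fin 2) F) := by
      rw [H50.PSLUniq.psi_mem_inn_iff]
      refine ⟨rfl, k, ?_⟩
      rw [hk, Fintype.card_fin, pow_two]
    obtain ⟨y, hy⟩ := h1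
    exact ha (mem_L_of_conj e hC (hgσ.trans hy.symm))
  have hg : psi g σ ∈ (Phi e : N →* _).range := ⟨a, hgσ⟩
  obtain ⟨ρ, p, hp, hρ, hρm⟩ := exists_prime_field hσ (shift e (hsqr _) hg)
  have hρ1 : ρ ≠ 1 := by
    rintro rfl
    rw [orderOf_one] at hρ
    exact hp.one_lt.ne hρ
  have hp2 : p ≠ 2 := by
    rintro rfl
    obtain ⟨w, hw⟩ : ∃ w : F, ρ w ≠ w := by
      by_contra hcon
      push Not at hcon
      exact hρ1 (RingEquiv.ext hcon)
    let A : Matrix (Fin 2) (Fin 2) F := !![1, w; 0, 1]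
    have hAd : A.det = 1 := by rw [Matrix.det_fin_two_of]; ring
    let g₀ : GL (Fin 2) F := GeneralLinearGroup.mkOfDetNeZero A (by rw [hAd]; exact one_ne_zero)
    have hg₀ : (g₀ : Matrix (Fin 2) (Fin 2) F) = A := rfl
    have hmem : psi g₀ ρ ∈ (Phi e : N →* _).range := shift e (hsqr _) hρm
    have hρρ : ρ.trans ρ = RingEquiv.refl F := by
      have := pow_orderOf_eq_one ρ
      rw [hρ, pow_two] at this
      exact this
    have hsq : psi g₀ ρ ^ 2 = psi (g₀ * glMap ρ g₀) (RingEquiv.refl F) := by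
      rw [pow_two, psi_mul, hρρ]
    have hB : ((g₀ * glMap ρ g₀ : GL (Fin 2) F) : Matrix (Fin 2) (Fin 2) F) = !![1, w + ρ w; 0, 1] := by
      rw [Units.val_mul, glMap_coe, hg₀]
      ext i j
      fin_cases i <;> fin_cases j <;> simp [A, Matrix.mul_apply, Fin.sum_univ_two]
      ring
    have h2 : psi g₀ ρ ^ 2 ≠ 1 := by
      rw [hsq]
      apply pow_two_ne
      intro c hc
      rw [hB] at hc
      have := congrFun (congrFun hc 0) 1
      simp at this
      apply hw
      linear_combination this - w * h2F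
    have h4 : psi g₀ ρ ^ 4 = 1 := by
      have h1 : psi g₀ ρ ^ 4 = psi ((g₀ * glMap ρ g₀) ^ 2) (RingEquiv.refl F) := by
        rw [← psi_pow_refl, ← hsq, ← pow_mul]
      rw [h1]
      apply psi_one_of_scalar (c := 1)
      rw [Units.val_pow_eq_pow_val, hB, pow_two]
      ext i j
      fin_cases i <;> fin_cases j <;> simp [Matrix.mul_apply, Fin.sum_univ_two]
      linear_combination (w + ρ w) * h2F
    have h5 : orderOf (psi g₀ ρ) = 2 ^ 2 :=
      orderOf_eq_prime_pow (by norm_num; exact h2) (by norm_num; exact h4)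
    have h6 := ord_of_range hC hmem
    rw [h5] at h6
    exact NS_no_four h h6
  -- the involution
  let A : Matrix (Fin 2) (Fin 2) F := !![0, 1; 1, 0]
  have hAd : A.det = -1 := by rw [Matrix.det_fin_two_of]; ring
  let w : GL (Fin 2) F := GeneralLinearGroup.mkOfDetNeZero A (by rw [hAd]; exact neg_ne_zero.2 one_ne_zero)
  have hw : (w : Matrix (Fin 2) (Fin 2) F) = A := rfl
  have hwm : psi w (RingEquiv.refl F) ∈ (Phi e : N →* _).range := mem_range_of_square e (hsqr _)
  have hw2 : orderOf (psi w (RingEquiv.refl F)) = 2 := by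
    apply orderOf_eq_prime
    · rw [psi_pow_refl]
      apply psi_one_of_scalar (c := 1)
      rw [Units.val_pow_eq_pow_val, hw, pow_two]
      ext i j
      fin_cases i <;> fin_cases j <;> simp [A, Matrix.mul_apply, Fin.sum_univ_two]
    · apply pow_two_ne
      intro c hc
      have := congrFun (congrFun hc 0) 1
      rw [hw] at this
      simp [A] at this
  have hcm : Commute (psi (1 : GL (Fin 2) F) ρ) (psi w (RingEquiv.refl F)) := by
    apply psi_comm
    apply Units.ext
    rw [glMap_coe, hw]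
    ext i j
    fin_cases i <;> fin_cases j <;> simp [A]
  have hord := hcm.orderOf_mul_eq_mul_orderOf_of_coprime (by
    rw [orderOf_psiField, hρ, hw2]
    exact (Nat.coprime_primes hp Nat.prime_two).2 hp2)
  have h7 := ord_of_range hC ((Phi e : N →* _).range.mul_mem hρm hwm)
  rw [hord, orderOf_psiField, hρ, hw2] at h7
  have hpr : p = r := by
    rcases NS_ord_even h h7 (dvd_mul_left _ _) with h8 | h8
    · have := hp.two_le
      omega
    · omega
  -- the element of order three
  have hp3 : p = 3 := by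
    by_contra hp3
    let B : Matrix (Fin 2) (Fin 2) F := !![0, 1; 1, 1]
    have hBd : B.det = -1 := by rw [Matrix.det_fin_two_of]; ring
    let z : GL (Fin 2) F := GeneralLinearGroup.mkOfDetNeZero B (by rw [hBd]; exact neg_ne_zero.2 one_ne_zero)
    have hz : (z : Matrix (Fin 2) (Fin 2) F) = B := rfl
    have hzm : psi z (RingEquiv.refl F) ∈ (Phi e : N →* _).range := mem_range_of_square e (hsqr _)
    have hz3 : orderOf (psi z (RingEquiv.refl F)) = 3 := by
      apply orderOf_eq_prime
      · rw [psi_pow_refl]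
        apply psi_one_of_scalar (c := 1)
        rw [Units.val_pow_eq_pow_val, hz, pow_succ, pow_two]
        ext i j
        fin_cases i <;> fin_cases j <;> simp [B, Matrix.mul_apply, Fin.sum_univ_two]
        · linear_combination h2F
        · linear_combination h2F
        · linear_combination h2F
      · apply pow_two_ne
        intro c hc
        have := congrFun (congrFun hc 0) 1
        rw [hz] at this
        simp [B] at this
    have hcz : Commute (psi (1 : GL (Fin 2) F) ρ) (psi z (RingEquiv.refl F)) := by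
      apply psi_comm
      apply Units.ext
      rw [glMap_coe, hz]
      ext i j
      fin_cases i <;> fin_cases j <;> simp [B]
    have hord3 := hcz.orderOf_mul_eq_mul_orderOf_of_coprime (by
      rw [orderOf_psiField, hρ, hz3]
      exact (Nat.coprime_primes hp Nat.prime_three).2 hp3)
    have h8 := ord_of_range hC ((Phi e : N →* _).range.mul_mem hρm hzm)
    rw [hord3, orderOf_psiField, hρ, hz3] at h8
    have := hp.two_le
    rcases NS_ord_r h h8 (by rw [hpr]; exact dvd_mul_right _ _) with h9 | h9 <;> omega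
  subst hpr
  subst hp3
  have h8 := H49.FixedField.card_fixedField_pow ρ
  rw [hρ, Nat.card_eq_fintype_card (α := F)] at h8
  have hlt := Fintype.one_lt_card (α := F)
  have h9 : 2 ≤ Nat.card (H49.FixedField.fixedField ρ) := by
    by_contra hcon
    have h10 : Nat.card (H49.FixedField.fixedField ρ) = 0 ∨ Nat.card (H49.FixedField.fixedField ρ) = 1 := by
      omega
    rcases h10 with h10 | h10
    · rw [h10] at h8; omega
    · rw [h10] at h8; omega
  have h11 : 2 ^ 3 ≤ Fintype.card F := by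
    rw [← h8]
    exact Nat.pow_le_pow_left h9 3
  rw [hF] at h11
  have hm1 : Ord N (2 ^ n - 1) := ord_sub (H11.Eppo.psl_orders_even hF e (Or.inr (Or.inl dvd_rfl)))
  have hm2 : Ord N (2 ^ n + 1) := ord_sub (H11.Eppo.psl_orders_even hF e (Or.inr (Or.inr dvd_rfl)))
  have hnd : ¬ 3 ∣ 2 ^ n := fun h => by
    have := Nat.prime_three.dvd_of_dvd_pow h
    omega
  have h12 : 3 ∣ 2 ^ n - 1 ∨ 3 ∣ 2 ^ n + 1 := by omega
  rcases h12 with h12 | h12
  · rcases NS_ord_r h hm1 h12 with h13 | h13
    · omega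
    · have : 2 ^ n = 7 := by omega
      have he : Even (2 ^ n) := (Nat.even_pow).2 ⟨even_two, by omega⟩
      rw [this] at he
      exact absurd he (by decide)
  · rcases NS_ord_r h hm2 h12 with h13 | h13 <;> omega

end two

end H36.NT
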