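import Mathlib
import Cfsg.Agent.Lib.H36.NSi
import Cfsg.Agent.Lib.H1.Solv

/-!
# Structure of non-solvable `NS` groups
-/

set_option autoImplicit false

open Subgroup Cfsg
open scoped commutatorElement

namespace H36.NT

open H36.NS H36.FrobAct

universe u

variable {G : Type u} [Group G] [Finite G] {r : ℕ}

theorem NS_two_bot (h : NS G r) (hns : ¬ Group.IsSolvable G) (Q : Subgroup G) (hQn : Q.Normal)
    (hQ : IsPGroup 2 Q) : Q = ⊥ := by
  haveI : Fact (Nat.Prime 2) := ⟨Nat.prime_two⟩
  by_contra hQ1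
  obtain ⟨z, hz, hz1⟩ : ∃ z ∈ Q, z ≠ 1 := by
    by_contra hc
    push Not at hc
    exact hQ1 ((Subgroup.eq_bot_iff_forall _).2 hc)
  have hz2 := h.order_two hQ hz hz1
  set C : Subgroup G := centralizer (Q : Set G) with hC
  haveI hCn : C.Normal := inferInstance
  have hCs : Group.IsSolvable C := h.solvable_of_cent (Or.inl hz2) (by
    rw [hC]
    exact Subgroup.centralizer_le (by simpa using hz))
  obtain ⟨T, hT⟩ := hQ.exists_le_sylow
  have hTC : (T : Subgroup G) ≤ C := by
    intro t ht
    rw [hC, mem_centralizer_iff]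
    intro x hx
    exact h.comm_two T.isPGroup' (hT hx) ht
  have hidx : Odd (Nat.card (G ⧸ C)) := by
    have h1 : ¬ 2 ∣ (T : Subgroup G).index := T.not_dvd_index
    have h2 : C.index ∣ (T : Subgroup G).index := Subgroup.index_dvd_of_le hTC
    have h3 : ¬ 2 ∣ C.index := fun h => h1 (h.trans h2)
    have h4 : C.index = Nat.card (G ⧸ C) := rfl
    rw [← h4, ← Nat.not_even_iff_odd, even_iff_two_dvd]
    exact h3
  have hQs : Group.IsSolvable (G ⧸ C) := H18.OddOrder.solvable hidx
  apply hns
  exact Group.isSolvable_of_ker_le_range C.subtype (QuotientGroup.mk' C)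
    (by rw [QuotientGroup.ker_mk', Subgroup.range_subtype])

theorem two_lt_card {T : Subgroup G} {n : G} (hn : n ∈ normalizer (T : Set G))
    (hnc : n ∉ centralizer (T : Set G)) : 2 < Nat.card T := by
  by_contra hcon
  push Not at hcon
  apply hnc
  rw [mem_centz]
  intro t ht
  by_cases ht1 : t = 1
  · rw [ht1]; simp
  have hset : (T : Set G) = {1, t} := by
    symm
    apply Set.eq_of_subset_of_ncard_le
    · rintro x (rfl | rfl)
      · exact one_mem _
      · exact ht
    · rw [Set.ncard_pair (Ne.symm ht1)]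
      exact hcon
    · exact Set.toFinite _
  have h3 : n * t * n⁻¹ ∈ (T : Set G) := conj_mem_norm hn ht
  rw [hset] at h3
  rcases h3 with h3 | h3
  · exfalso
    apply ht1
    have : t = n⁻¹ * (n * t * n⁻¹) * n := by group
    rw [this, h3]; group
  · exact (mul_inv_eq_iff_eq_mul.1 h3).symm

theorem NS_odd_bot (h : NS G r) (hns : ¬ Group.IsSolvable G) (K₀ : Subgroup G) (hKn₀ : K₀.Normal)
    (hK₀ : Odd (Nat.card K₀)) : K₀ = ⊥ := by
  haveI : Fact (Nat.Prime 2) := ⟨Nat.prime_two⟩
  haveI : Fact r.Prime := ⟨h.pr⟩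
  obtain ⟨T⟩ : Nonempty (Sylow 2 G) := inferInstance
  obtain ⟨n, hn, hnc⟩ := h.exists_nc hns T
  have h2T := two_lt_card hn hnc
  have hT1 : (T : Subgroup G) ≠ ⊥ := by
    intro hb
    rw [hb, Subgroup.card_bot] at h2T
    omega
  obtain ⟨y, hy, hyp, hy2, hyc⟩ := h.exists_prime T hT1 le_rfl ⟨n, hn, hnc⟩
  have hsq : ∀ x ∈ (T : Subgroup G), x * x = 1 := fun x hx => h.sq_T T hx
  have hnc' := not_cyclic_of_exp hsq h2T
  set K := oc (⊤ : Subgroup G) with hKdef
  have hKtop : normalizer (K : Set G) = ⊤ := by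
    rw [eq_top_iff]; exact le_norm_oc _
  haveI hKn : K.Normal := normalizer_eq_top_iff.1 hKtop
  have hKo : Odd (Nat.card K) := odd_oc _
  have hle : ∀ M : Subgroup G, M.Normal → Odd (Nat.card M) → M ≤ K := fun M hM ho =>
    le_oc le_top (by rw [normalizer_eq_top_iff.2 hM]) ho
  have hKr : IsPGroup r K := h.isPGroup_of_odd T.isPGroup' hnc' (by rw [hKtop]; exact le_top) hKo
  suffices hK1 : K = ⊥ by
    have := hle K₀ hKn₀ hK₀
    rw [hK1] at this
    exact le_bot_iff.1 this
  by_contra hK1
  obtain ⟨k, hk, hk1⟩ : ∃ z ∈ K, z ≠ 1 := by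
    by_contra hc
    push Not at hc
    exact hK1 ((Subgroup.eq_bot_iff_forall _).2 hc)
  have hkr := h.order_r hKr hk hk1
  -- `U`
  have hcop : (Nat.card (zpowers y)).Coprime (Nat.card (T : Subgroup G)) := by
    obtain ⟨a, ha⟩ := IsPGroup.iff_card.1 T.isPGroup'
    have ha' : Nat.card (T : Subgroup G) = 2 ^ a := ha
    rw [ha', Nat.card_zpowers]
    exact Nat.Coprime.pow_right _ ((Nat.coprime_primes hyp Nat.prime_two).2 hy2)
  have hyT : zpowers y ≤ normalizer ((T : Subgroup G) : Set G) := zpowers_le.2 hy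
  have hTcomm : ∀ a ∈ (T : Subgroup G), ∀ b ∈ (T : Subgroup G), a * b = b * a := fun a ha b hb =>
    h.comm_two T.isPGroup' ha hb
  have hbot := comm_inf_centralizer_eq_bot hTcomm hyT hcop
  set U : Subgroup G := ⁅(T : Subgroup G), zpowers y⁆ with hU
  have hUT : U ≤ (T : Subgroup G) := H1.Coprime2.commutator_le_left hyT
  have hyU : zpowers y ≤ normalizer (U : Set G) := H1.Coprime2.le_normalizer_commutator_right _ _
  have hU2 : IsPGroup 2 U := T.isPGroup'.to_le hUT
  have hfix : ∀ u ∈ U, y * u = u * y → u = 1 := by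
    intro u hu hc
    have h1 : u ∈ U ⊓ centralizer ((zpowers y : Subgroup G) : Set G) := by
      refine ⟨hu, mem_centralizer_iff.2 ?_⟩
      rintro _ ⟨i, rfl⟩
      exact ((show Commute y u from hc).zpow_left i).eq
    rw [hbot] at h1
    exact Subgroup.mem_bot.1 h1
  have hUK : U ≤ centralizer (K : Set G) := h.dich hKr hU2 hyp hy2 rfl (hyU (mem_zpowers y))
    (by rw [hKtop]; exact mem_top _) (by rw [hKtop]; exact le_top) hfix
  have hU1 : U ≠ ⊥ := by
    intro hb
    rw [hU, Subgroup.commutator_eq_bot_iff_le_centralizer] at hb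
    apply hyc
    rw [mem_centz]
    intro t ht
    have := mem_centralizer_iff.1 (hb ht) y (mem_zpowers y)
    exact this.symm
  -- `C`
  set C : Subgroup G := centralizer (K : Set G) with hC
  haveI hCn : C.Normal := inferInstance
  have hCk : C ≤ centralizer ({k} : Set G) := by
    rw [hC]
    exact Subgroup.centralizer_le (by simpa using hk)
  have hCs : Group.IsSolvable C := h.solvable_of_cent (Or.inr hkr) hCk
  have hnC : ∀ M : Subgroup C, M.Characteristic → (M.map C.subtype).Normal := by
    intro M hM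
    infer_instance
  have h1 : pPrimeCore r C = ⊥ := by
    haveI := H1.Cores.pPrimeCore_characteristic (G := C) r
    have h2 := hnC (pPrimeCore r C) inferInstance
    have h3 : IsPGroup 2 ((pPrimeCore r C).map C.subtype) := by
      apply isPGroup_of_primes Nat.prime_two
      intro l hl hld
      have h4 : (Nat.card ((pPrimeCore r C).map C.subtype)).Coprime r := by
        rw [Subgroup.card_map_of_injective C.subtype_injective]
        exact H1.Cores.coprime_card_pPrimeCore r
      have h5 : l ∣ Nat.card C := hld.trans (Subgroup.card_dvd_of_le (map_subtype_le _))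
      rcases h.prime_of_cent (Or.inr hkr) hl hCk h5 with h6 | h6
      · exact h6
      · exfalso
        rw [h6] at hld
        have := Nat.dvd_gcd hld dvd_rfl
        rw [h4] at this
        exact h.pr.one_lt.ne' (Nat.dvd_one.1 this)
    have h4 := NS_two_bot h hns _ h2 h3
    exact (Subgroup.map_eq_bot_iff_of_injective _ C.subtype_injective).1 h4
  have h2 := H1.Solv.centralizer_pCore_le hCs r h1
  have h3 : (pCore r C).map C.subtype ≤ K := by
    haveI : (pCore r C).Characteristic := inferInstance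
    apply hle _ (hnC _ inferInstance)
    rw [Subgroup.card_map_of_injective C.subtype_injective]
    obtain ⟨j, hj⟩ := IsPGroup.iff_card.1 (H1.Cores.isPGroup_pCore (G := C) r)
    rw [hj]
    exact h.odd.pow
  have h4 : pCore r C = ⊤ := by
    rw [eq_top_iff]
    refine le_trans ?_ h2
    intro c _
    rw [mem_centralizer_iff]
    intro x hx
    apply Subtype.ext
    exact mem_centralizer_iff.1 c.2 x (h3 ⟨x, hx, rfl⟩)
  have hCr : IsPGroup r C := by
    have h5 : IsPGroup r (pCore r C) := H1.Cores.isPGroup_pCore (G := C) r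
    rw [h4] at h5
    exact h5.of_equiv Subgroup.topEquiv
  obtain ⟨u, hu, hu1⟩ : ∃ z ∈ U, z ≠ 1 := by
    by_contra hc
    push Not at hc
    exact hU1 ((Subgroup.eq_bot_iff_forall _).2 hc)
  have e1 := h.order_two hU2 hu hu1
  have e2 := h.order_r hCr (hUK hu) hu1
  exact h.ne2 (e2.symm.trans e1)

end H36.NT
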