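import Mathlib
import Cfsg.Agent.Lib.H36.NTh
import Cfsg.Agent.Lib.H36.NTg
import Cfsg.Agent.Lib.H36.NTf
import Cfsg.Agent.Lib.Lead.CITA5

/-!
# Non-solvable `NS` groups
-/

set_option autoImplicit false

open Subgroup Cfsg
open scoped commutatorElement

namespace H36.NT

open H36.NS H28.Cj Lead.CITA

universe u

variable {G : Type u} [Group G] [Finite G] {r : ℕ}

theorem exists_prime_elt (h : NS G r) {K : Subgroup G} (hns : ¬ Group.IsSolvable K) :
    ∃ x ∈ K, (orderOf x).Prime ∧ orderOf x ≠ 2 ∧ orderOf x ≠ r := by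
  by_contra hcon
  push Not at hcon
  apply hns
  apply isSolvable_of_primes Nat.prime_two h.pr (Ne.symm h.ne2)
  intro l hl hld
  haveI : Fact l.Prime := ⟨hl⟩
  obtain ⟨⟨x, hxK⟩, hx⟩ := exists_prime_orderOf_dvd_card' l hld
  rw [Subgroup.orderOf_mk] at hx
  by_cases h2 : l = 2
  · exact Or.inl h2
  · right
    rw [← hx]
    exact hcon x hxK (by rw [hx]; exact hl) (by rw [hx]; exact h2)

theorem NS_exists_simple (h : NS G r) (hns : ¬ Group.IsSolvable G) :
    ∃ L : Subgroup G, L.Normal ∧ IsSimpleGroup L ∧ ¬ Group.IsSolvable L ∧ centralizer (L : Set G) = ⊥ := by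
  haveI : Fact (Nat.Prime 2) := ⟨Nat.prime_two⟩
  haveI : Nontrivial G := by
    by_contra h
    rw [not_nontrivial_iff_subsingleton] at h
    exact hns inferInstance
  have h2 : ∀ K : Subgroup G, K.Normal → IsPGroup 2 K → K = ⊥ := fun K hK h3 => NS_two_bot h hns K hK h3
  have hodd : ∀ K : Subgroup G, K.Normal → Odd (Nat.card K) → K = ⊥ := fun K hK h3 =>
    NS_odd_bot h hns K hK h3
  let X := {L : Subgroup G // L.Normal ∧ L ≠ ⊥}
  haveI : Nonempty X := ⟨⟨⊤, inferInstance, top_ne_bot⟩⟩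
  obtain ⟨⟨L, hL, hL1⟩, hmin⟩ := Finite.exists_min (fun M : X => Nat.card (M.1 : Subgroup G))
  have hcjL : ∀ g : G, cj g L = L := by
    intro g
    apply mem_normalizer_iff_cj.1
    rw [normalizer_eq_top_iff.2 hL]; exact mem_top g
  let Y := {K : Subgroup G // K ≤ L ∧ L ≤ normalizer (K : Set G) ∧ K ≠ ⊥}
  haveI : Nonempty Y := ⟨⟨L, le_rfl, le_normalizer, hL1⟩⟩
  obtain ⟨⟨K, hK1, hK2, hK3⟩, hmin'⟩ := Finite.exists_min (fun M : Y => Nat.card (M.1 : Subgroup G))
  have hK4 : ¬ IsPGroup 2 K := by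
    intro h
    obtain ⟨M, hM1, hM2, hM3⟩ := core_normal (π := {2}) hL hK1 hK2 (H28.RelHall.piG_singleton_iff.2 h) hK3
    exact hM1 (h2 M hM2 (H28.RelHall.piG_singleton_iff.1 hM3))
  have hK5 : 2 ∣ Nat.card K := by
    by_contra h
    obtain ⟨M, hM1, hM2, hM3⟩ := core_normal (π := {p | p ≠ 2}) hL hK1 hK2 (by
      intro p hp hpd
      change p ≠ 2
      rintro rfl
      exact h hpd) hK3
    apply hM1 (hodd M hM2 _)
    by_contra h4
    rw [Nat.not_odd_iff_even] at h4
    exact hM3 2 Nat.prime_two (even_iff_two_dvd.1 h4) rfl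
  obtain ⟨⟨t, htK⟩, ht⟩ := exists_prime_orderOf_dvd_card' 2 hK5
  have ht2 : orderOf t = 2 := by rw [← ht, Subgroup.orderOf_mk]
  have hKns : ¬ Group.IsSolvable K := by
    intro hs
    have hlt := H36.FrobAct.solvable_commutator_lt hs hK3
    have hab : ⁅K, K⁆ = ⊥ := by
      by_contra hne
      have h3 := hmin' ⟨⁅K, K⁆, hlt.le.trans hK1, H1.Coprime2.le_normalizer_commutator hK2 hK2, hne⟩
      have h4 := Subgroup.eq_of_le_of_card_ge hlt.le h3
      exact hlt.ne h4
    have hcomm : ∀ a ∈ K, ∀ b ∈ K, a * b = b * a := by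
      intro a ha b hb
      have h5 := Subgroup.commutator_mem_commutator ha hb
      rw [hab, Subgroup.mem_bot, commutatorElement_eq_one_iff_mul_comm] at h5
      exact h5
    let K2 : Subgroup G :=
      { carrier := {x | x ∈ K ∧ x * x = 1}
        mul_mem' := by
          rintro a b ⟨ha, ha2⟩ ⟨hb, hb2⟩
          refine ⟨mul_mem ha hb, ?_⟩
          have : a * b * (a * b) = a * a * (b * b) := by
            rw [mul_assoc, ← mul_assoc b a b, hcomm b hb a ha]; group
          rw [this, ha2, hb2, one_mul]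
        one_mem' := ⟨one_mem _, one_mul 1⟩
        inv_mem' := by
          rintro a ⟨ha, ha2⟩
          exact ⟨inv_mem ha, by rw [← mul_inv_rev, ha2, inv_one]⟩ }
    have hmem : ∀ x, x ∈ K2 ↔ x ∈ K ∧ x * x = 1 := fun x => Iff.rfl
    have htt : t * t = 1 := by
      have := pow_orderOf_eq_one t
      rwa [ht2, pow_two] at this
    have hne : K2 ≠ ⊥ := by
      intro hb
      have h5 : t ∈ K2 := ⟨htK, htt⟩
      rw [hb, Subgroup.mem_bot] at h5
      rw [h5, orderOf_one] at ht2
      omega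
    have hle : K2 ≤ K := fun x hx => hx.1
    have hn : L ≤ normalizer (K2 : Set G) := by
      intro g hg
      apply mem_norm_of_conj
      rintro x ⟨hx, hx2⟩
      refine ⟨conj_mem_norm (hK2 hg) hx, ?_⟩
      have : g * x * g⁻¹ * (g * x * g⁻¹) = g * (x * x) * g⁻¹ := by group
      rw [this, hx2]; group
    have h3 := hmin' ⟨K2, hle.trans hK1, hn, hne⟩
    have h4 := Subgroup.eq_of_le_of_card_ge hle h3
    apply hK4
    intro x
    refine ⟨1, ?_⟩
    have h5 : (x : G) ∈ K2 := by rw [h4]; exact x.2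
    apply Subtype.ext
    rw [pow_one, pow_two]
    exact h5.2
  obtain ⟨x, hx, hxp, hx2, hxr⟩ := exists_prime_elt h hKns
  have hnor : ∀ g : G, cj g K = K := by
    intro g
    by_contra hne
    have hgN : L ≤ normalizer ((cj g K : Subgroup G) : Set G) := by
      rw [← cj_normalizer, ← hcjL g]; exact cj_le_cj.2 hK2
    have hgL : cj g K ≤ L := by rw [← hcjL g]; exact cj_le_cj.2 hK1
    have hbot : K ⊓ cj g K = ⊥ := by
      by_contra hb
      have h5 := hmin' ⟨K ⊓ cj g K, inf_le_left.trans hK1, by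
        intro y hy
        rw [mem_normalizer_iff_cj, cj_inf, mem_normalizer_iff_cj.1 (hK2 hy),
          mem_normalizer_iff_cj.1 (hgN hy)], hb⟩
      have h6 : K ⊓ cj g K = K := Subgroup.eq_of_le_of_card_ge inf_le_left h5
      have h7 : K ≤ cj g K := inf_eq_left.1 h6
      exact hne (Subgroup.eq_of_le_of_card_ge h7 (card_cj g K).le).symm
    have hcomm : ∀ a ∈ K, ∀ b ∈ cj g K, a * b = b * a := by
      intro a ha b hb
      have h5 : a * b * a⁻¹ * b⁻¹ ∈ K ⊓ cj g K := by
        constructor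
        · have : a * b * a⁻¹ * b⁻¹ = a * (b * a⁻¹ * b⁻¹) := by group
          rw [this]
          exact K.mul_mem ha ((mem_normalizer_iff.1 (hK2 (hgL hb)) _).1 (K.inv_mem ha))
        · exact (cj g K).mul_mem ((mem_normalizer_iff.1 (hgN (hK1 ha)) _).1 hb) ((cj g K).inv_mem hb)
      rw [hbot, Subgroup.mem_bot, mul_inv_eq_one, mul_inv_eq_iff_eq_mul] at h5
      exact h5
    have h6 := hcomm t htK (g * x * g⁻¹) (conj_mem_cj.2 hx)
    have h7 : orderOf (g * x * g⁻¹) = orderOf x := by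
      rw [← MulAut.conj_apply, MulEquiv.orderOf_eq]
    rcases h.no_comm (Or.inl ht2) hxp h7 h6 with h8 | h8
    · exact hx2 h8
    · exact hxr h8
  have hKn : K.Normal := by
    constructor
    intro n hn g
    rw [← hnor g]; exact conj_mem_cj.2 hn
  have hKL : K = L := Subgroup.eq_of_le_of_card_ge hK1 (hmin ⟨K, hKn, hK3⟩)
  have hsub : ∀ K' : Subgroup G, K' ≤ L → L ≤ normalizer (K' : Set G) → K' ≠ ⊥ → K' = L := by
    intro K' h1 h3 h4
    have h5 := hmin' ⟨K', h1, h3, h4⟩
    exact Subgroup.eq_of_le_of_card_ge h1 (by rw [← hKL]; exact h5)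
  haveI : Nontrivial L := (Subgroup.nontrivial_iff_ne_bot L).2 hL1
  refine ⟨L, hL, ⟨?_⟩, by rw [← hKL]; exact hKns, ?_⟩
  · intro N hN
    have h1 : N.map L.subtype ≤ L := map_subtype_le N
    have h3 : L ≤ normalizer ((N.map L.subtype : Subgroup G) : Set G) := by
      intro g hg
      apply mem_norm_of_conj
      rintro _ ⟨n, hn, rfl⟩
      exact ⟨⟨g, hg⟩ * n * ⟨g, hg⟩⁻¹, hN.conj_mem n hn ⟨g, hg⟩, rfl⟩
    by_cases h4 : N.map L.subtype = ⊥
    · left
      exact (map_eq_bot_iff_of_injective _ L.subtype_injective).1 h4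
    · right
      have h5 := hsub _ h1 h3 h4
      rw [eq_top_iff]
      rintro ⟨x, hx⟩ -
      rw [← h5] at hx
      obtain ⟨y, hy, hyx⟩ := hx
      have : y = ⟨x, h5 ▸ hx⟩ := Subtype.ext hyx
      exact this ▸ hy
  · haveI := hL
    haveI hCn : (centralizer (L : Set G)).Normal := inferInstance
    by_contra hC1
    have h2C : 2 ∣ Nat.card (centralizer (L : Set G)) := by
      by_contra hc
      exact hC1 (hodd _ hCn (by rw [← Nat.not_even_iff_odd, even_iff_two_dvd]; exact hc))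
    obtain ⟨⟨s, hsC⟩, hs⟩ := exists_prime_orderOf_dvd_card' 2 h2C
    have hs2 : orderOf s = 2 := by rw [← hs, Subgroup.orderOf_mk]
    have h6 := mem_centralizer_iff.1 hsC x (hK1 hx)
    rcases h.no_comm (Or.inl hs2) hxp rfl h6.symm with h8 | h8
    · exact hx2 h8
    · exact hxr h8

/-- **non-solvable `NS` groups** -/
theorem NS_main (h : NS G r) (hns : ¬ Group.IsSolvable G) :
    (∃ (F : Type) (_ : Field F) (_ : Fintype F), Odd (Fintype.card F) ∧
      Nonempty (G ≃* Matrix.ProjectiveSpecialLinearGroup (Fin 2) F)) ∨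
    (∃ (F : Type) (_ : Field F) (_ : Fintype F) (n : ℕ), 2 ≤ n ∧ Fintype.card F = 2 ^ n ∧
      Nonempty (G ≃* Matrix.ProjectiveSpecialLinearGroup (Fin 2) F)) := by
  obtain ⟨L, hLn, hLs, hLns, hC⟩ := NS_exists_simple h hns
  haveI := hLn
  haveI := hLs
  rcases (h.sub L).simple hLns with ⟨F, _, _, hodd, ⟨e⟩⟩ | ⟨F, _, _, n, hn, hF, ⟨e⟩⟩
  · left
    have htop := odd_top h hC e hodd
    refine ⟨F, inferInstance, inferInstance, hodd, ⟨?_⟩⟩
    subst htop
    exact Subgroup.topEquiv.symm.trans e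
  · right
    have htop := even_top h hC e hn hF
    refine ⟨F, inferInstance, inferInstance, n, hn, hF, ⟨?_⟩⟩
    subst htop
    exact Subgroup.topEquiv.symm.trans e

/-- S4371 -/
theorem s4371 (hns : ¬ Group.IsSolvable G) (h3 : H3 G) : Concl G := by
  by_cases hS : Lead.CIT.Sep G
  · exact sep_case hS hns h3
  obtain ⟨r, h⟩ := h3.ns hS
  rcases NS_main h hns with ⟨F, _, _, hodd, ⟨e⟩⟩ | ⟨F, _, _, n, hn, hF, ⟨e⟩⟩
  · right; left
    obtain ⟨h8, -⟩ := mod_eight h hodd e
    obtain ⟨o1, o2⟩ := psl_ord hodd e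
    have hlt := Fintype.one_lt_card (α := F)
    have h3' : Fintype.card F ≠ 3 := fun h => hns (psl_three_solvable h e)
    have h5 : Fintype.card F ≠ 5 := by
      intro h5
      apply hS
      haveI : Fact (Nat.Prime 5) := ⟨Nat.prime_five⟩
      obtain ⟨e5⟩ := H6.SmallIsoA.psl2_five (F := F) h5
      let F4 := GaloisField 2 2
      haveI : Fintype F4 := Fintype.ofFinite F4
      have hF4 : Fintype.card F4 = 4 := by
        rw [← Nat.card_eq_fintype_card]
        exact GaloisField.card 2 2 (by norm_num)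
      obtain ⟨e4⟩ := H6.SmallIsoA.psl2_four (F := F4) hF4
      exact Lead.CITQ.sep_equiv (sep_psl2_even (F := F4) (two_eq_zero_of_card (n := 2) (by norm_num)
        (by rw [hF4]; norm_num))) ((e4.trans e5.symm).trans e.symm)
    exact ⟨F, inferInstance, inferInstance, by omega, h8, h3.factors o2, h3.factors o1, ⟨e⟩⟩
  · exfalso
    exact hS (Lead.CITQ.sep_equiv (sep_psl2_even (F := F) (two_eq_zero_of_card (by omega) hF)) e.symm)

end H36.NT
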