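import Mathlib
import Cfsg.Agent.Lib.H64.Prim

/-!
# Data of generalized quaternion groups
-/

set_option autoImplicit false

namespace H36.QData

open QuaternionGroup

universe u

section
variable {m : ℕ} [NeZero m]

local notation "Z" => ZMod (2 * m)

theorem two_m : ((m : ℕ) : Z) + (m : ℕ) = 0 := by
  have h : ((2 * m : ℕ) : Z) = 0 := ZMod.natCast_self _
  rw [← Nat.cast_add, ← two_mul, h]

theorem m_ne : ((m : ℕ) : Z) ≠ 0 := by
  intro h
  rw [ZMod.natCast_eq_zero_iff] at h
  have := Nat.le_of_dvd (Nat.pos_of_ne_zero (NeZero.ne m)) h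
  have := Nat.pos_of_ne_zero (NeZero.ne m)
  omega

theorem neg_m : -((m : ℕ) : Z) = (m : ℕ) := neg_eq_of_add_eq_zero_left two_m

theorem dbl {i : Z} (h : i + i = 0) : i = 0 ∨ i = (m : ℕ) := by
  have hm := Nat.pos_of_ne_zero (NeZero.ne m)
  haveI : NeZero (2 * m) := ⟨by omega⟩
  have h1 : ((i.val : ℕ) : Z) = i := ZMod.natCast_zmod_val i
  rw [← h1, ← Nat.cast_add, ZMod.natCast_eq_zero_iff] at h
  have h2 : i.val < 2 * m := ZMod.val_lt i
  obtain ⟨c, hc⟩ := h
  have h3 : i.val = m * c := by nlinarith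
  have h4 : c < 2 := by
    by_contra hh
    push Not at hh
    nlinarith
  interval_cases c
  · left; rw [← h1, h3]; simp
  · right; rw [← h1, h3]; simp

theorem a_eq {i j : Z} : (a i : QuaternionGroup m) = a j ↔ i = j := by
  constructor
  · intro h; exact a.inj h
  · rintro rfl; rfl

theorem a_inv (i : Z) : (a i : QuaternionGroup m)⁻¹ = a (-i) := by
  rw [inv_eq_iff_mul_eq_one, a_mul_a, add_neg_cancel, a_zero]

theorem xa_inv (i : Z) : (xa i : QuaternionGroup m)⁻¹ = xa (((m : ℕ) : Z) + i) := by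
  rw [inv_eq_iff_mul_eq_one, xa_mul_xa, ← a_zero, a_eq]
  have := two_m (m := m)
  linear_combination this

theorem xa_conj (i j : Z) : (xa i : QuaternionGroup m) * a j * (xa i)⁻¹ = a (-j) := by
  rw [xa_inv, xa_mul_a, xa_mul_xa, a_eq]
  have := two_m (m := m)
  linear_combination this

theorem a_conj (i j : Z) : (a i : QuaternionGroup m) * a j * (a i)⁻¹ = a j := by
  rw [a_inv, a_mul_a, a_mul_a, a_eq]; ring

theorem z_cent (d : QuaternionGroup m) : d * a ((m : ℕ) : Z) = a ((m : ℕ) : Z) * d := by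
  cases d with
  | a i => rw [a_mul_a, a_mul_a, add_comm]
  | xa i =>
    rw [xa_mul_a, a_mul_xa, sub_eq_add_neg, neg_m]

theorem xa_sq' (i : Z) : (xa i : QuaternionGroup m) * xa i = a ((m : ℕ) : Z) := by
  rw [← pow_two, xa_sq]

theorem xa_ne (i j : Z) : (xa i : QuaternionGroup m) ≠ a j := by
  intro h; cases h

end

/-- (Q0) for the concrete group -/
theorem q_aux (k : ℕ) : ∃ s t z y : QuaternionGroup (2 ^ (k + 1)), orderOf s = 2 ^ (k + 2) ∧
      t ∈ Subgroup.zpowers s ∧ orderOf t = 4 ∧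
      t * t = z ∧ orderOf z = 2 ∧ (∀ d, d * z = z * d) ∧ (∀ d, d * t * d⁻¹ = t ∨ d * t * d⁻¹ = t⁻¹) ∧
      y * t * y⁻¹ = t⁻¹ ∧ (∀ d, d ≠ 1 → z ∈ Subgroup.zpowers d) ∧
      (∀ d, d ≠ 1 → d ≠ z → (∀ x, x * d * x⁻¹ = d ∨ x * d * x⁻¹ = d * z) → d * d = z) ∧
      (y * y = z ∧ y * s * y⁻¹ = s⁻¹ ∧ y ∉ Subgroup.zpowers s) := by
  set m : ℕ := 2 ^ (k + 1) with hm
  haveI : NeZero m := ⟨by rw [hm]; positivity⟩
  have hz2 : (a ((m : ℕ) : ZMod (2 * m)) : QuaternionGroup m) * a ((m : ℕ) : ZMod (2 * m)) = 1 := by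
    rw [a_mul_a, two_m, a_zero]
  have hz1 : (a ((m : ℕ) : ZMod (2 * m)) : QuaternionGroup m) ≠ 1 := by
    rw [← a_zero, Ne, a_eq]; exact m_ne
  have htt : (a (((2 ^ k : ℕ) : ℕ) : ZMod (2 * m)) : QuaternionGroup m) * a (((2 ^ k : ℕ) : ℕ) : ZMod (2 * m)) =
      a ((m : ℕ) : ZMod (2 * m)) := by
    rw [a_mul_a, a_eq, ← Nat.cast_add]
    congr 1
    rw [hm, pow_succ]; ring
  have hcard : Nat.card (QuaternionGroup m) = 2 ^ (k + 3) := by
    rw [Nat.card_eq_fintype_card, QuaternionGroup.card, hm]; ring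
  have hpg : IsPGroup 2 (QuaternionGroup m) := IsPGroup.of_card hcard
  refine ⟨a 1, a (((2 ^ k : ℕ) : ℕ) : ZMod (2 * m)), a ((m : ℕ) : ZMod (2 * m)), xa 0, ?_, ?_, ?_, htt, ?_,
    z_cent, ?_, ?_, ?_, ?_, xa_sq' 0, ?_, ?_⟩
  · rw [orderOf_a_one, hm]; ring
  · rw [← a_one_pow]; exact Subgroup.pow_mem _ (Subgroup.mem_zpowers _) _
  · have h1 : ¬ (a (((2 ^ k : ℕ) : ℕ) : ZMod (2 * m)) : QuaternionGroup m) ^ (2 ^ 1) = 1 := by
      rw [pow_one, pow_two, htt]; exact hz1
    have h2 : (a (((2 ^ k : ℕ) : ℕ) : ZMod (2 * m)) : QuaternionGroup m) ^ (2 ^ (1 + 1)) = 1 := by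
      have : (2 ^ (1 + 1) : ℕ) = 2 + 2 := rfl
      rw [this, pow_add, pow_two, htt, hz2]
    have := orderOf_eq_prime_pow h1 h2
    simpa using this
  · apply orderOf_eq_prime
    · rw [pow_two]; exact hz2
    · exact hz1
  · intro d
    cases d with
    | a i => left; exact a_conj _ _
    | xa i => right; rw [xa_conj, a_inv]
  · rw [xa_conj, a_inv]
  · intro d hd1
    cases d with
    | a i =>
      obtain ⟨b, hb⟩ := IsPGroup.iff_orderOf.1 hpg (a i)
      have hb0 : b ≠ 0 := by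
        rintro rfl
        rw [pow_zero, orderOf_eq_one_iff] at hb
        exact hd1 hb
      obtain ⟨b', rfl⟩ := Nat.exists_eq_succ_of_ne_zero hb0
      have h1 : (a i : QuaternionGroup m) ^ (2 ^ b') ≠ 1 := by
        intro h
        have h2 := orderOf_dvd_of_pow_eq_one h
        rw [hb] at h2
        have h3 := Nat.le_of_dvd (by positivity) h2
        have h4 : 2 ^ b'.succ = 2 * 2 ^ b' := by rw [pow_succ']
        have h5 : 0 < 2 ^ b' := by positivity
        omega
      have h2 : (a i : QuaternionGroup m) ^ (2 ^ b') * (a i) ^ (2 ^ b') = 1 := by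
        rw [← pow_add]
        have : 2 ^ b' + 2 ^ b' = 2 ^ b'.succ := by rw [pow_succ']; ring
        rw [this, ← hb, pow_orderOf_eq_one]
      rcases h3 : (a i : QuaternionGroup m) ^ (2 ^ b') with j | j
      · rw [h3] at h1 h2
        rw [a_mul_a, ← a_zero, a_eq] at h2
        rcases dbl h2 with h4 | h4
        · exact absurd (by rw [h4, a_zero]) h1
        · rw [← h4, ← h3]
          exact Subgroup.pow_mem _ (Subgroup.mem_zpowers _) _
      · rw [h3] at h2
        rw [xa_sq'] at h2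
        exact absurd h2 hz1
    | xa i =>
      rw [← xa_sq' i]
      exact Subgroup.mul_mem _ (Subgroup.mem_zpowers _) (Subgroup.mem_zpowers _)
  · intro d hd1 hdz h
    cases d with
    | a i =>
      have h1 := h (xa 0)
      rw [xa_conj, a_mul_a, a_eq, a_eq] at h1
      rcases h1 with h1 | h1
      · exfalso
        have h2 : i + i = 0 := by linear_combination -h1
        rcases dbl h2 with h3 | h3
        · exact hd1 (by rw [h3, a_zero])
        · exact hdz (by rw [h3])
      · rw [a_mul_a, a_eq]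
        have h2 := two_m (m := m)
        linear_combination -h1 - h2
    | xa i => exact xa_sq' i
  · rw [xa_conj, a_inv]
  · intro h
    obtain ⟨j, hj⟩ := Subgroup.mem_zpowers_iff.1 h
    have h1 : (xa 0 : QuaternionGroup m) * a 1 * (xa 0)⁻¹ = a 1 := by
      rw [← hj, ((Commute.refl (a 1 : QuaternionGroup m)).zpow_left j).eq, mul_inv_cancel_right]
    rw [xa_conj, a_eq] at h1
    have h2 : (1 : ZMod (2 * m)) + 1 = 0 := by linear_combination -h1
    have h3 : ((2 : ℕ) : ZMod (2 * m)) = 0 := by rw [← h2]; norm_num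
    rw [ZMod.natCast_eq_zero_iff] at h3
    have h4 := Nat.le_of_dvd (by norm_num) h3
    have h5 : 2 ≤ m := by rw [hm, pow_succ]; have := Nat.one_le_two_pow (n := k); omega
    omega

/-- (Q0) -/
theorem q_data {D : Type u} [Group D] [Finite D] {n : ℕ} (hn : 3 ≤ n) (φ : D ≃* QuaternionGroup (2 ^ (n - 2))) :
    Nat.card D = 2 ^ n ∧ ∃ s t z y : D, orderOf s = 2 ^ (n - 1) ∧ t ∈ Subgroup.zpowers s ∧ orderOf t = 4 ∧
      t * t = z ∧ orderOf z = 2 ∧ (∀ d, d * z = z * d) ∧ (∀ d, d * t * d⁻¹ = t ∨ d * t * d⁻¹ = t⁻¹) ∧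
      y * t * y⁻¹ = t⁻¹ ∧ (∀ d, d ≠ 1 → z ∈ Subgroup.zpowers d) ∧
      (∀ d, d ≠ 1 → d ≠ z → (∀ x, x * d * x⁻¹ = d ∨ x * d * x⁻¹ = d * z) → d * d = z) ∧
      ∀ (E : Type u) [Group E] (f : D →* E), Function.Surjective f → (∀ d, f d = 1 ↔ d = 1 ∨ d = z) →
        Nonempty (E ≃* DihedralGroup (2 ^ (n - 2))) := by
  obtain ⟨k, rfl⟩ : ∃ k, n = k + 3 := ⟨n - 3, by omega⟩
  have hk : k + 3 - 2 = k + 1 := by omega
  rw [hk] at φ ⊢
  have hk1 : k + 3 - 1 = k + 2 := by omega
  rw [hk1]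
  have hcard : Nat.card D = 2 ^ (k + 3) := by
    rw [Nat.card_congr φ.toEquiv, Nat.card_eq_fintype_card, QuaternionGroup.card]; ring
  obtain ⟨s, t, z, y, h1, h2, h3, h4, h5, h6, h7, h8, h9, h10, h11, h12, h13⟩ := q_aux k
  set ψ := φ.symm with hψ
  have ho : ∀ x, orderOf (ψ x) = orderOf x := fun x => orderOf_injective ψ.toMonoidHom ψ.injective x
  have hsur : ∀ d : D, ψ (φ d) = d := fun d => φ.symm_apply_apply d
  have hmem : ∀ {x w : QuaternionGroup (2 ^ (k + 1))}, x ∈ Subgroup.zpowers w → ψ x ∈ Subgroup.zpowers (ψ w) := by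
    intro x w h
    obtain ⟨j, hj⟩ := Subgroup.mem_zpowers_iff.1 h
    exact Subgroup.mem_zpowers_iff.2 ⟨j, by rw [← hj, map_zpow]⟩
  have hconv : ∀ {x w : QuaternionGroup (2 ^ (k + 1))}, ψ x ∈ Subgroup.zpowers (ψ w) → x ∈ Subgroup.zpowers w := by
    intro x w h
    obtain ⟨j, hj⟩ := Subgroup.mem_zpowers_iff.1 h
    rw [← map_zpow] at hj
    exact Subgroup.mem_zpowers_iff.2 ⟨j, ψ.injective hj⟩
  refine ⟨hcard, ψ s, ψ t, ψ z, ψ y, by rw [ho, h1], hmem h2, by rw [ho, h3], by rw [← map_mul, h4], by rw [ho, h5],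
    ?_, ?_, by rw [← map_mul, ← map_inv, ← map_mul, h8, map_inv], ?_, ?_, ?_⟩
  · intro d
    rw [← hsur d, ← map_mul, ← map_mul, h6]
  · intro d
    have e : d * ψ t * d⁻¹ = ψ (φ d * t * (φ d)⁻¹) := by rw [map_mul, map_mul, map_inv, hsur]
    rw [e]
    rcases h7 (φ d) with h | h
    · left; rw [h]
    · right; rw [h, map_inv]
  · intro d hd
    rw [← hsur d]
    apply hmem
    apply h9
    intro h
    exact hd (by rw [← hsur d, h, map_one])
  · intro d hd hdz h
    rw [← hsur d, ← map_mul]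
    congr 1
    apply h10
    · intro h'; exact hd (by rw [← hsur d, h', map_one])
    · intro h'; exact hdz (by rw [← hsur d, h'])
    · intro x
      have := h (ψ x)
      rw [← hsur d, ← map_mul, ← map_inv, ← map_mul, ← map_mul] at this
      rcases this with h' | h'
      · left; exact ψ.injective h'
      · right; exact ψ.injective h'
  · intro E _ f hfs hf1
    haveI : Finite E := Finite.of_surjective f hfs
    have hfz : f (ψ z) = 1 := (hf1 _).2 (Or.inr rfl)
    have hzz : z * z = 1 := by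
      have := pow_orderOf_eq_one z
      rwa [h5, pow_two] at this
    have hoz : orderOf (ψ z) = 2 := by rw [ho, h5]
    have hker : f.ker = Subgroup.zpowers (ψ z) := by
      apply le_antisymm
      · intro d hd'
        rcases (hf1 d).1 hd' with h1 | h1
        · rw [h1]; exact Subgroup.one_mem _
        · rw [h1]; exact Subgroup.mem_zpowers _
      · rw [Subgroup.zpowers_le]
        exact (hf1 _).2 (Or.inr rfl)
    have hcardE : Nat.card E = 2 ^ (k + 2) := by
      have h1 := Subgroup.card_mul_index f.ker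
      rw [Subgroup.index_ker, MonoidHom.range_eq_top.2 hfs, Subgroup.card_top, hker, Nat.card_zpowers, hcard,
        hoz] at h1
      have h2 : 2 ^ (k + 3) = 2 * 2 ^ (k + 2) := by rw [← pow_succ']
      rw [h2] at h1
      exact Nat.eq_of_mul_eq_mul_left (by norm_num) h1
    have hsm : s ^ (2 ^ (k + 1)) = z := by
      have e1 : s ^ (2 ^ (k + 1)) ≠ 1 := by
        intro h
        have := orderOf_dvd_of_pow_eq_one h
        rw [h1] at this
        have := Nat.le_of_dvd (by positivity) this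
        have e : 2 ^ (k + 2) = 2 * 2 ^ (k + 1) := by rw [← pow_succ']
        have : 0 < 2 ^ (k + 1) := by positivity
        omega
      have e2 := h9 _ e1
      obtain ⟨j, hj⟩ := Subgroup.mem_zpowers_iff.1 e2
      have e3 : s ^ (2 ^ (k + 1)) * s ^ (2 ^ (k + 1)) = 1 := by
        rw [← pow_add, ← two_mul, ← pow_succ', ← h1, pow_orderOf_eq_one]
      have e4 : (s ^ (2 ^ (k + 1))) ^ (2 : ℤ) = 1 := by
        rw [zpow_two, e3]
      rcases Int.even_or_odd j with ⟨c, hc⟩ | ⟨c, hc⟩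
      · exfalso
        have : z = 1 := by
          rw [← hj, hc, ← two_mul, zpow_mul, e4, one_zpow]
        rw [this, orderOf_one] at h5
        omega
      · rw [← hj, hc, zpow_add, zpow_mul, e4, one_zpow, one_mul, zpow_one]
    have hr : orderOf (f (ψ s)) = 2 ^ (k + 1) := by
      apply Nat.dvd_antisymm
      · rw [orderOf_dvd_iff_pow_eq_one, ← map_pow, ← map_pow, hsm]
        exact hfz
      · have e1 : f (ψ s) ^ orderOf (f (ψ s)) = 1 := pow_orderOf_eq_one _
        rw [← map_pow, ← map_pow, hf1] at e1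
        have e2 : s ^ (orderOf (f (ψ s))) * s ^ (orderOf (f (ψ s))) = 1 := by
          rcases e1 with e1 | e1
          · have : s ^ (orderOf (f (ψ s))) = 1 := ψ.injective (by rw [e1, map_one])
            rw [this, mul_one]
          · have : s ^ (orderOf (f (ψ s))) = z := ψ.injective e1
            rw [this, hzz]
        rw [← pow_add, ← two_mul] at e2
        have e3 := orderOf_dvd_of_pow_eq_one e2
        rw [h1] at e3
        have e : 2 ^ (k + 2) = 2 * 2 ^ (k + 1) := by rw [← pow_succ']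
        rw [e] at e3
        exact Nat.dvd_of_mul_dvd_mul_left (by norm_num) e3
    have hns : f (ψ y) ∉ Subgroup.zpowers (f (ψ s)) := by
      intro hc
      obtain ⟨i, hi⟩ := Subgroup.mem_zpowers_iff.1 hc
      have e1 : f (ψ (s ^ (-i) * y)) = 1 := by
        rw [map_mul, map_mul, map_zpow, map_zpow, ← hi, ← zpow_add, neg_add_cancel, zpow_zero]
      rcases (hf1 _).1 e1 with e2 | e2
      · apply h13
        have e3 : s ^ (-i) * y = 1 := ψ.injective (by rw [e2, map_one])
        have : y = s ^ i * (s ^ (-i) * y) := by group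
        rw [this, e3, mul_one]
        exact Subgroup.zpow_mem _ (Subgroup.mem_zpowers _) _
      · apply h13
        have e3 : s ^ (-i) * y = z := ψ.injective e2
        have : y = s ^ i * (s ^ (-i) * y) := by group
        rw [this, e3, ← hsm]
        exact Subgroup.mul_mem _ (Subgroup.zpow_mem _ (Subgroup.mem_zpowers _) _)
          (Subgroup.pow_mem _ (Subgroup.mem_zpowers _) _)
    haveI : NeZero (2 ^ (k + 1)) := ⟨by positivity⟩
    have hfy : f (ψ y) * f (ψ y) = 1 := by
      rw [← map_mul, ← map_mul, h11, hfz]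
    have hfyi : (f (ψ y))⁻¹ = f (ψ y) := inv_eq_of_mul_eq_one_right hfy
    exact H64.Prim.Dihedral.equiv_of (2 ^ (k + 1)) (f (ψ s)) (f (ψ y)) hr hfy
      (by
        have e : f (ψ y) * f (ψ s) * (f (ψ y))⁻¹ = (f (ψ s))⁻¹ := by
          rw [← map_mul, ← map_inv, ← map_mul, ← map_mul, ← map_inv, ← map_mul, h12, map_inv, map_inv]
        rwa [hfyi] at e) hns (by rw [hcardE, ← pow_succ'])

end H36.QData
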